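import Mathlib
import Cfsg.Agent.Lib.CIT.Basic
import Cfsg.Agent.Lib.Char.ExceptionalConst
import Cfsg.Agent.Lib.Perm.Small.Count

/-!
# Three strongly self-centralizing subgroups with automizers of orders 2, 4, 4

`Hyp G` collects the hypotheses of Suzuki's characterization of the Suzuki groups; this file proves the
local facts: the subgroups are Hall subgroups of odd pairwise coprime orders, the elements of the normalizers
outside them, and the set of the remaining elements.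
-/

set_option autoImplicit false
set_option linter.unusedSectionVars false
set_option linter.style.haveILetI false

namespace CfsgLib.CIT.ThreeSystems

open Cfsg

universe u

variable {G : Type u} [Group G]

/-- The orders of the three automizers. -/
def wt : Fin 3 → ℕ := ![2, 4, 4]

/-- Three strongly self-centralizing subgroups, pairwise non-conjugate. -/
structure Hyp (G : Type u) [Group G] where
  A : Fin 3 → Subgroup G
  self : ∀ i, ∀ a ∈ A i, a ≠ 1 → Subgroup.centralizer ({a} : Set G) = A i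
  sep : ∀ i j, i ≠ j → ∀ g : G, (A i).map (MulAut.conj g).toMonoidHom ≠ A j
  index : ∀ i, (A i).relIndex (Subgroup.normalizer (A i : Set G)) = wt i
  low₀ : 5 ≤ Nat.card (A 0)
  low₁ : 5 < Nat.card (A 1)
  low₂ : 5 < Nat.card (A 2)
  bound : Nat.card G ≤ 3 * Nat.card (A 0) ^ 2 * Nat.card (A 1) ^ 2 * Nat.card (A 2) ^ 2

theorem wt_pos (i : Fin 3) : 0 < wt i := by fin_cases i <;> simp [wt]

namespace Hyp

variable (D : Hyp G)

/-- The order of the `i`-th subgroup. -/
noncomputable def n (i : Fin 3) : ℕ := Nat.card (D.A i)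

/-- The number of exceptional characters of the `i`-th subgroup. -/
noncomputable def m (i : Fin 3) : ℕ := (D.n i - 1) / wt i

/-- The product of the orders. -/
noncomputable def N : ℕ := D.n 0 * D.n 1 * D.n 2

/-- The cofactor. -/
noncomputable def M : ℕ := Nat.card G / D.N

/-- An element outside all conjugates of the three subgroups. -/
def Rest (g : G) : Prop := g ≠ 1 ∧ ∀ i, ∀ y : G, y * g * y⁻¹ ∉ D.A i

theorem comm (i : Fin 3) : ∀ a ∈ D.A i, ∀ b ∈ D.A i, a * b = b * a := by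
  intro a ha b hb
  rcases eq_or_ne a 1 with rfl | h
  · simp
  · rw [← D.self i a ha h] at hb
    exact (Subgroup.mem_centralizer_singleton_iff.1 hb).symm

theorem mem_of_comm {i : Fin 3} {a g : G} (ha : a ∈ D.A i) (h1 : a ≠ 1) (h : g * a = a * g) :
    g ∈ D.A i := by
  rw [← D.self i a ha h1]
  exact Subgroup.mem_centralizer_singleton_iff.2 h

theorem conj_mem_map {i : Fin 3} (g x : G) :
    x ∈ (D.A i).map (MulAut.conj g).toMonoidHom ↔ g⁻¹ * x * g ∈ D.A i := by
  rw [Subgroup.mem_map_equiv, MulAut.conj_symm_apply]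

theorem map_eq_of_conj_mem {i j : Fin 3} {a g : G} (ha : a ∈ D.A i) (h1 : a ≠ 1)
    (h : g * a * g⁻¹ ∈ D.A j) : (D.A i).map (MulAut.conj g).toMonoidHom = D.A j := by
  have h1' : g * a * g⁻¹ ≠ 1 := fun e => h1 (conj_eq_one_iff.1 e)
  ext x
  rw [D.conj_mem_map, ← D.self i a ha h1, ← D.self j _ h h1', Subgroup.mem_centralizer_singleton_iff,
    Subgroup.mem_centralizer_singleton_iff]
  constructor
  · intro e
    calc x * (g * a * g⁻¹) = g * (g⁻¹ * x * g * a) * g⁻¹ := by group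
      _ = g * (a * (g⁻¹ * x * g)) * g⁻¹ := by rw [e]
      _ = g * a * g⁻¹ * x := by group
  · intro e
    calc g⁻¹ * x * g * a = g⁻¹ * (x * (g * a * g⁻¹)) * g := by group
      _ = g⁻¹ * (g * a * g⁻¹ * x) * g := by rw [e]
      _ = a * (g⁻¹ * x * g) := by group

theorem eq_of_conj_mem {i j : Fin 3} {a g : G} (ha : a ∈ D.A i) (h1 : a ≠ 1)
    (h : g * a * g⁻¹ ∈ D.A j) : i = j := by
  by_contra hij
  exact D.sep i j hij g (D.map_eq_of_conj_mem ha h1 h)

theorem mem_normalizer_of_conj_mem {i : Fin 3} {a g : G} (ha : a ∈ D.A i) (h1 : a ≠ 1)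
    (h : g * a * g⁻¹ ∈ D.A i) : g ∈ Subgroup.normalizer (D.A i : Set G) := by
  rw [← cj_eq_self_iff]
  exact D.map_eq_of_conj_mem ha h1 h

theorem five_le (i : Fin 3) : 5 ≤ D.n i := by
  unfold n; fin_cases i
  exacts [D.low₀, D.low₁.le, D.low₂.le]

theorem n_pos (i : Fin 3) : 0 < D.n i := by have := D.five_le i; omega

theorem N_pos : 0 < D.N := Nat.mul_pos (Nat.mul_pos (D.n_pos 0) (D.n_pos 1)) (D.n_pos 2)

theorem exists_ne_one (i : Fin 3) : ∃ a ∈ D.A i, a ≠ 1 := by
  by_contra! h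
  have h5 := D.five_le i
  unfold n at h5
  rw [Subgroup.card_eq_one.2 ((Subgroup.eq_bot_iff_forall _).2 h)] at h5
  omega

section finite

variable [Finite G]

theorem exists_sylow_le {i : Fin 3} {p : ℕ} [Fact p.Prime] (hi : p ∣ D.n i) :
    ∃ P : Sylow p G, (P : Subgroup G) ≤ D.A i := by
  obtain ⟨x, hx⟩ := exists_prime_orderOf_dvd_card' (G := D.A i) p hi
  have hx1 : (x : G) ≠ 1 := fun e => (Fact.out : p.Prime).ne_one
    (by rw [← hx, ← Subgroup.orderOf_coe, e, orderOf_one])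
  obtain ⟨P, hP⟩ := (IsPGroup.of_card (n := 1)
    (by rw [pow_one, Nat.card_zpowers, Subgroup.orderOf_coe, hx] :
      Nat.card (Subgroup.zpowers (x : G)) = p ^ 1)).exists_le_sylow
  have hxP : (x : G) ∈ (P : Subgroup G) := hP (Subgroup.mem_zpowers _)
  haveI : Nontrivial (P : Subgroup G) := ⟨⟨⟨x, hxP⟩, 1, fun e => hx1 (congrArg Subtype.val e)⟩⟩
  haveI := P.2.center_nontrivial
  obtain ⟨⟨z, hz⟩, hz1⟩ := exists_ne (1 : Subgroup.center (P : Subgroup G))
  have hz1' : (z : G) ≠ 1 := fun e => hz1 (Subtype.ext (Subtype.ext e))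
  have hzc : ∀ y ∈ (P : Subgroup G), y * (z : G) = z * y := fun y hy =>
    congrArg Subtype.val (Subgroup.mem_center_iff.1 hz ⟨y, hy⟩)
  have hzA : (z : G) ∈ D.A i := D.mem_of_comm x.2 hx1 (hzc x hxP).symm
  exact ⟨P, fun y hy => D.mem_of_comm hzA hz1' (hzc y hy)⟩

theorem exists_conj_mem {i : Fin 3} {p : ℕ} [Fact p.Prime] (hi : p ∣ D.n i) {z : G}
    (hz : IsPGroup p (Subgroup.zpowers z)) : ∃ y : G, y * z * y⁻¹ ∈ D.A i := by
  obtain ⟨P, hP⟩ := D.exists_sylow_le hi
  obtain ⟨Q, hQ⟩ := hz.exists_le_sylow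
  obtain ⟨y, hy⟩ := MulAction.exists_smul_eq G Q P
  exact ⟨y, hP (hy ▸ Subgroup.smul_mem_pointwise_smul z (MulAut.conj y) _ (hQ (Subgroup.mem_zpowers z)))⟩

theorem n_coprime_index (i : Fin 3) : (D.n i).Coprime (D.A i).index := by
  refine Nat.coprime_of_dvd fun p hp hi hidx => ?_
  haveI := Fact.mk hp
  obtain ⟨P, hP⟩ := D.exists_sylow_le hi
  exact P.not_dvd_index (hidx.trans (Subgroup.index_dvd_of_le hP))

theorem pairwise_coprime {i j : Fin 3} (hij : i ≠ j) : (D.n i).Coprime (D.n j) := by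
  refine Nat.coprime_of_dvd fun p hp hi hj => hij ?_
  haveI := Fact.mk hp
  obtain ⟨x, hx⟩ := exists_prime_orderOf_dvd_card' (G := D.A i) p hi
  have hx1 : (x : G) ≠ 1 := fun e => hp.ne_one (by rw [← hx, ← Subgroup.orderOf_coe, e, orderOf_one])
  obtain ⟨y, hy⟩ := D.exists_conj_mem hj (IsPGroup.of_card (n := 1)
    (by rw [pow_one, Nat.card_zpowers, Subgroup.orderOf_coe, hx] :
      Nat.card (Subgroup.zpowers (x : G)) = p ^ 1))
  exact D.eq_of_conj_mem x.2 hx1 hy

theorem odd_n (i : Fin 3) : Odd (D.n i) := by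
  by_contra h
  rw [Nat.not_odd_iff_even, even_iff_two_dvd] at h
  have h2 : 2 ∣ (D.A i).index := by
    refine Dvd.dvd.trans ?_ (Subgroup.relIndex_dvd_index_of_le
      (Subgroup.le_normalizer : D.A i ≤ Subgroup.normalizer (D.A i : Set G)))
    rw [D.index]; fin_cases i <;> simp [wt]
  exact Nat.not_coprime_of_dvd_of_dvd one_lt_two h h2 (D.n_coprime_index i)

theorem not_two_dvd_N : ¬ 2 ∣ D.N := by
  rw [← even_iff_two_dvd, Nat.not_even_iff_odd]
  exact ((D.odd_n 0).mul (D.odd_n 1)).mul (D.odd_n 2)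

theorem card_exc_eq (i : Fin 3) :
    Nat.card (CfsgLib.Char.Exc (D.A i)) * wt i = D.n i - 1 := by
  haveI := Fintype.ofFinite G
  have h := CfsgLib.Char.card_exc (D.A i) (D.self i) (D.comm i)
  rw [← D.index i]
  exact h

theorem n_eq (i : Fin 3) : D.n i = 1 + wt i * D.m i := by
  have h := D.card_exc_eq i
  have h5 := D.five_le i
  rw [m, ← h, Nat.mul_div_cancel _ (wt_pos i), mul_comm]
  omega

theorem card_exc' (i : Fin 3) : Nat.card (CfsgLib.Char.Exc (D.A i)) = D.m i := by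
  rw [m, ← D.card_exc_eq i, Nat.mul_div_cancel _ (wt_pos i)]

theorem n_eq_zero : D.n 0 = 1 + 2 * D.m 0 := D.n_eq 0

theorem n_eq_one : D.n 1 = 1 + 4 * D.m 1 := D.n_eq 1

theorem n_eq_two : D.n 2 = 1 + 4 * D.m 2 := D.n_eq 2

theorem two_le_m (i : Fin 3) : 2 ≤ D.m i := by
  have h0 : 5 ≤ D.n 0 := D.low₀
  have h1 : 5 < D.n 1 := D.low₁
  have h2 : 5 < D.n 2 := D.low₂
  have := D.n_eq_zero; have := D.n_eq_one; have := D.n_eq_two
  fin_cases i <;> simp only [Fin.zero_eta, Fin.mk_one, Fin.reduceFinMk] <;> omega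

theorem m_ne : D.m 1 ≠ D.m 2 := fun e => by
  have h := D.pairwise_coprime (i := 1) (j := 2) (by decide)
  rw [D.n_eq_one, D.n_eq_two, ← e, Nat.coprime_self] at h
  have := D.two_le_m 1
  omega

theorem N_dvd : D.N ∣ Nat.card G := by
  have h : ∀ i, D.n i ∣ Nat.card G := fun i => Subgroup.card_subgroup_dvd_card _
  unfold N
  exact Nat.Coprime.mul_dvd_of_dvd_of_dvd
    (Nat.Coprime.mul_left (D.pairwise_coprime (by decide)) (D.pairwise_coprime (by decide)))
    (Nat.Coprime.mul_dvd_of_dvd_of_dvd (D.pairwise_coprime (by decide)) (h 0) (h 1)) (h 2)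

theorem card_eq : Nat.card G = D.N * D.M := (Nat.mul_div_cancel' D.N_dvd).symm

theorem M_pos : 0 < D.M := Nat.div_pos (Nat.le_of_dvd Nat.card_pos D.N_dvd) D.N_pos

theorem M_le : D.M ≤ 3 * D.N := by
  have h := D.bound
  rw [D.card_eq] at h
  refine Nat.le_of_mul_le_mul_left ?_ D.N_pos
  refine h.trans_eq ?_
  simp only [N, n]; ring

theorem n_dvd_N (i : Fin 3) : D.n i ∣ D.N := by
  unfold N; fin_cases i
  · exact (dvd_mul_right _ _).trans (dvd_mul_right _ _)
  · exact (dvd_mul_left _ _).trans (dvd_mul_right _ _)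
  · exact dvd_mul_left _ _

theorem dvd_n_of_dvd_N {p : ℕ} (hp : p.Prime) (h : p ∣ D.N) : ∃ i, p ∣ D.n i := by
  rcases hp.dvd_mul.1 h with h' | h'
  · rcases hp.dvd_mul.1 h' with h'' | h'' <;> exact ⟨_, h''⟩
  · exact ⟨_, h'⟩

theorem pow_wt_eq_one {i : Fin 3} {g : G} (hg : g ∈ Subgroup.normalizer (D.A i : Set G))
    (hgA : g ∉ D.A i) : g ^ wt i = 1 := by
  by_contra h
  refine hgA (D.mem_of_comm ?_ h ((Commute.refl g).pow_right _).eq)
  haveI : ((D.A i).subgroupOf (Subgroup.normalizer (D.A i : Set G))).Normal := Subgroup.normal_in_normalizer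
  have := Subgroup.pow_index_mem ((D.A i).subgroupOf (Subgroup.normalizer (D.A i : Set G))) ⟨g, hg⟩
  rw [show ((D.A i).subgroupOf (Subgroup.normalizer (D.A i : Set G))).index = wt i from D.index i] at this
  exact this

theorem orderOf_mem {i : Fin 3} {a : G} (ha : a ∈ D.A i) : Odd (orderOf a) :=
  (D.odd_n i).of_dvd_nat (Subgroup.orderOf_dvd_natCard _ ha)

theorem not_mem_of_two {i : Fin 3} {u : G} (hu : orderOf u = 2) : u ∉ D.A i := fun h => by
  have := D.orderOf_mem h
  rw [hu] at this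
  exact Nat.not_odd_iff_even.2 even_two this

theorem inverts {i : Fin 3} {u a : G} (hu : orderOf u = 2)
    (huN : u ∈ Subgroup.normalizer (D.A i : Set G)) (ha : a ∈ D.A i) : u * a * u⁻¹ = a⁻¹ := by
  have hb : u * a * u⁻¹ ∈ D.A i := (Subgroup.mem_normalizer_iff.1 huN a).1 ha
  have h2 : u * u = 1 := by rw [← pow_two, ← hu]; exact pow_orderOf_eq_one u
  have hinv : u⁻¹ = u := inv_eq_of_mul_eq_one_right h2
  set c := u * a * u⁻¹ * a with hc
  have hcA : c ∈ D.A i := mul_mem hb ha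
  have hcomm : u * c = c * u := by
    have e : u * c * u⁻¹ = a * (u * a * u⁻¹) := by
      rw [hc, hinv]
      calc u * (u * a * u * a) * u = u * u * (a * (u * a * u)) := by group
        _ = a * (u * a * u) := by rw [h2, one_mul]
    have e' : u * c * u⁻¹ = c := by rw [e, hc, D.comm i a ha _ hb]
    calc u * c = u * c * u⁻¹ * u := by group
      _ = c * u := by rw [e']
  have hc1 : c = 1 := by
    by_contra h
    exact D.not_mem_of_two hu (D.mem_of_comm hcA h hcomm)
  exact eq_inv_of_mul_eq_one_left hc1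

theorem mul_mem_of_two {i : Fin 3} {u v : G} (hu : orderOf u = 2)
    (huN : u ∈ Subgroup.normalizer (D.A i : Set G)) (hv : orderOf v = 2)
    (hvN : v ∈ Subgroup.normalizer (D.A i : Set G)) : u * v ∈ D.A i := by
  obtain ⟨a, ha, h1⟩ := D.exists_ne_one i
  refine D.mem_of_comm ha h1 ?_
  have e1 := D.inverts hv hvN ha
  have e2 := D.inverts hu huN (inv_mem ha)
  rw [inv_inv] at e2
  calc u * v * a = u * (v * a * v⁻¹) * v := by group
    _ = u * a⁻¹ * v := by rw [e1]
    _ = u * a⁻¹ * u⁻¹ * (u * v) := by group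
    _ = a * (u * v) := by rw [e2]

theorem mul_mem_coset {i : Fin 3} {u a : G} (hu : orderOf u = 2)
    (huN : u ∈ Subgroup.normalizer (D.A i : Set G)) (ha : a ∈ D.A i) : IsConj u (u * a) := by
  obtain ⟨k, hk⟩ := (D.orderOf_mem ha)
  have hb : ∃ b ∈ D.A i, b * b = a := by
    refine ⟨a ^ (k + 1), pow_mem ha _, ?_⟩
    rw [← pow_add, show k + 1 + (k + 1) = orderOf a + 1 by omega, pow_succ, pow_orderOf_eq_one, one_mul]
  obtain ⟨b, hb, rfl⟩ := hb
  refine isConj_iff.2 ⟨b⁻¹, ?_⟩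
  have e := D.inverts hu huN (inv_mem hb)
  rw [inv_inv] at e
  have e' : b⁻¹ * u = u * b := by
    calc b⁻¹ * u = u * (u⁻¹ * b⁻¹ * u) := by group
      _ = u * b := by
        congr 1
        have h2 : u * u = 1 := by rw [← pow_two, ← hu]; exact pow_orderOf_eq_one u
        rw [inv_eq_of_mul_eq_one_right h2] at e ⊢
        exact e
  rw [inv_inv, e', mul_assoc]

theorem exists_involution (i : Fin 3) :
    ∃ u ∈ Subgroup.normalizer (D.A i : Set G), orderOf u = 2 := by
  haveI : Fact (Nat.Prime 2) := ⟨Nat.prime_two⟩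
  have h : 2 ∣ Nat.card (Subgroup.normalizer (D.A i : Set G)) := by
    refine Dvd.dvd.trans ?_ (Subgroup.index_dvd_card ((D.A i).subgroupOf
      (Subgroup.normalizer (D.A i : Set G))))
    rw [show ((D.A i).subgroupOf (Subgroup.normalizer (D.A i : Set G))).index = wt i from D.index i]
    fin_cases i <;> simp [wt]
  obtain ⟨u, hu⟩ := exists_prime_orderOf_dvd_card' (G := Subgroup.normalizer (D.A i : Set G)) 2 h
  exact ⟨u, u.2, by rw [Subgroup.orderOf_coe, hu]⟩

theorem exists_four {i : Fin 3} (hi : wt i = 4) :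
    ∃ y ∈ Subgroup.normalizer (D.A i : Set G), orderOf y = 4 := by
  by_contra! hne
  set N' := Subgroup.normalizer (D.A i : Set G) with hN'
  haveI : ((D.A i).subgroupOf N').Normal := Subgroup.normal_in_normalizer
  have hord : ∀ g ∈ N', g ∉ D.A i → orderOf g = 2 := by
    intro g hg hgA
    have h4 : orderOf g ∣ 2 ^ 2 := by
      rw [show (2 : ℕ) ^ 2 = wt i by rw [hi]; norm_num]
      exact orderOf_dvd_of_pow_eq_one (D.pow_wt_eq_one hg hgA)
    obtain ⟨k, hk, hk'⟩ := (Nat.dvd_prime_pow Nat.prime_two).1 h4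
    interval_cases k
    · exact absurd (orderOf_eq_one_iff.1 (by simpa using hk')) fun e => hgA (by rw [e]; exact one_mem _)
    · simpa using hk'
    · exact absurd (by simpa using hk') (hne g hg)
  obtain ⟨u, huN, hu⟩ := D.exists_involution i
  have hle : ∀ q : ↥N' ⧸ (D.A i).subgroupOf N', q = 1 ∨ q = (⟨u, huN⟩ : ↥N') := by
    intro q
    refine QuotientGroup.induction_on q fun g => ?_
    by_cases hgA : (g : G) ∈ D.A i
    · exact Or.inl ((QuotientGroup.eq_one_iff g).2 hgA)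
    · refine Or.inr (QuotientGroup.eq.2 ?_)
      show (g : G)⁻¹ * u ∈ D.A i
      exact D.mul_mem_of_two (by rw [orderOf_inv]; exact hord g g.2 hgA) (inv_mem g.2) hu huN
  have hc : Nat.card (↥N' ⧸ (D.A i).subgroupOf N') = 4 := by
    rw [← Subgroup.index_eq_card, ← hi]; exact D.index i
  classical
  haveI := Fintype.ofFinite (↥N' ⧸ (D.A i).subgroupOf N')
  have : (Finset.univ : Finset (↥N' ⧸ (D.A i).subgroupOf N')).card ≤ 2 := by
    refine (Finset.card_le_card (t := {1, ((⟨u, huN⟩ : ↥N') : ↥N' ⧸ (D.A i).subgroupOf N')})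
      fun q _ => ?_).trans Finset.card_le_two
    rcases hle q with h | h <;> simp [h]
  rw [Finset.card_univ, ← Nat.card_eq_fintype_card, hc] at this
  omega

theorem sq_mem_normalizer {i : Fin 3} {y : G} (hy : orderOf y = 4)
    (hyN : y ∈ Subgroup.normalizer (D.A i : Set G)) :
    orderOf (y ^ 2) = 2 ∧ y ^ 2 ∈ Subgroup.normalizer (D.A i : Set G) := by
  refine ⟨?_, pow_mem hyN 2⟩
  rw [orderOf_pow' y two_ne_zero, hy]
  norm_num

theorem rest_of_not_dvd {g : G} (hg : g ≠ 1) (h : ∀ i, ¬ orderOf g ∣ D.n i) : D.Rest g :=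
  ⟨hg, fun i y hy => h i (by
    rw [← orderOf_conj_eq y g]
    exact Subgroup.orderOf_dvd_natCard _ hy)⟩

theorem rest_of_even {g : G} (h : 2 ∣ orderOf g) : D.Rest g := by
  refine D.rest_of_not_dvd (fun e => by rw [e, orderOf_one] at h; simp at h) fun i hi => ?_
  exact D.not_two_dvd_N ((h.trans hi).trans (D.n_dvd_N i))

theorem rest_of_prime {g : G} {p : ℕ} (hp : p.Prime) (hg : orderOf g = p) (hN : ¬ p ∣ D.N) :
    D.Rest g := by
  refine D.rest_of_not_dvd (fun e => hp.ne_one (by rw [← hg, e, orderOf_one])) fun i hi => ?_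
  exact hN ((hg ▸ hi).trans (D.n_dvd_N i))

theorem rest_conj {g : G} (h : D.Rest g) (x : G) : D.Rest (x * g * x⁻¹) :=
  ⟨fun e => h.1 (conj_eq_one_iff.1 e), fun i y hy => h.2 i (y * x) (by
    rwa [show y * x * g * (y * x)⁻¹ = y * (x * g * x⁻¹) * y⁻¹ by group])⟩

theorem rest_isConj {g g' : G} (h : D.Rest g) (hc : IsConj g g') : D.Rest g' := by
  obtain ⟨x, rfl⟩ := isConj_iff.1 hc
  exact D.rest_conj h x

theorem rest_pow {g : G} (h : D.Rest g) {k : ℕ} (hk : g ^ k ≠ 1) : D.Rest (g ^ k) := by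
  refine ⟨hk, fun i y hy => h.2 i y ?_⟩
  refine D.mem_of_comm hy (fun e => hk (conj_eq_one_iff.1 e)) ?_
  rw [← conj_pow]
  exact ((Commute.refl _).pow_right k).eq

theorem centralizer_coprime {g : G} (h : D.Rest g) :
    (Nat.card (Subgroup.centralizer ({g} : Set G))).Coprime D.N := by
  refine Nat.coprime_of_dvd fun p hp hC hN => ?_
  haveI := Fact.mk hp
  obtain ⟨i, hi⟩ := D.dvd_n_of_dvd_N hp hN
  obtain ⟨z, hz⟩ := exists_prime_orderOf_dvd_card' (G := Subgroup.centralizer ({g} : Set G)) p hC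
  have hz' : orderOf (z : G) = p := by rw [Subgroup.orderOf_coe, hz]
  have hz1 : (z : G) ≠ 1 := fun e => hp.ne_one (by rw [← hz', e, orderOf_one])
  obtain ⟨y, hy⟩ := D.exists_conj_mem hi (IsPGroup.of_card (n := 1)
    (by rw [pow_one, Nat.card_zpowers, hz'] : Nat.card (Subgroup.zpowers (z : G)) = p ^ 1))
  refine h.2 i y (D.mem_of_comm hy (fun e => hz1 (conj_eq_one_iff.1 e)) ?_)
  have e := Subgroup.mem_centralizer_singleton_iff.1 z.2
  calc y * g * y⁻¹ * (y * z * y⁻¹) = y * (g * z) * y⁻¹ := by group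
    _ = y * (z * g) * y⁻¹ := by rw [e]
    _ = y * z * y⁻¹ * (y * g * y⁻¹) := by group

theorem centralizer_dvd_M {g : G} (h : D.Rest g) :
    Nat.card (Subgroup.centralizer ({g} : Set G)) ∣ D.M := by
  refine (D.centralizer_coprime h).dvd_of_dvd_mul_left ?_
  rw [← D.card_eq]
  exact Subgroup.card_subgroup_dvd_card _

end finite

end Hyp

end CfsgLib.CIT.ThreeSystems
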