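import Mathlib
import Cfsg.Agent.Lib.CIT.ThreeSystems.Setup

/-!
# Three self-centralizing systems: classes and the class equation
-/

set_option autoImplicit false
set_option linter.unusedSectionVars false
set_option linter.style.haveILetI false

namespace CfsgLib.CIT.ThreeSystems

open Cfsg

universe u

variable {G : Type u} [Group G]

namespace Hyp

variable (D : Hyp G)

/-- A class of remaining elements. -/
def RestClass (c : ConjClasses G) : Prop := ∃ g, ConjClasses.mk g = c ∧ D.Rest g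

/-- The number of classes of remaining elements. -/
noncomputable def R : ℕ := Nat.card {c : ConjClasses G // D.RestClass c}

/-- The number of remaining-class elements with conjugates in the three subgroups. -/
noncomputable def lam : ℕ := D.m 0 * D.n 1 * D.n 2 + D.m 1 * D.n 0 * D.n 2 + D.m 2 * D.n 0 * D.n 1

section fintype

variable [Fintype G]

open scoped Classical

/-- The nontrivial elements conjugate into the `i`-th subgroup. -/
noncomputable def aset (i : Fin 3) : Finset G :=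
  Finset.univ.filter fun z => z ≠ 1 ∧ ∃ y : G, y * z * y⁻¹ ∈ D.A i

/-- The remaining elements. -/
noncomputable def restSet : Finset G := Finset.univ.filter D.Rest

theorem mem_aset {i : Fin 3} {z : G} : z ∈ D.aset i ↔ z ≠ 1 ∧ ∃ y : G, y * z * y⁻¹ ∈ D.A i := by
  simp [aset]

theorem aset_disjoint {i j : Fin 3} (hij : i ≠ j) : Disjoint (D.aset i) (D.aset j) := by
  refine Finset.disjoint_left.2 fun z hi hj => hij ?_
  obtain ⟨h1, y, hy⟩ := D.mem_aset.1 hi
  obtain ⟨-, x, hx⟩ := D.mem_aset.1 hj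
  refine D.eq_of_conj_mem hy (fun e => h1 (conj_eq_one_iff.1 e)) (g := x * y⁻¹) ?_
  rwa [show x * y⁻¹ * (y * z * y⁻¹) * (x * y⁻¹)⁻¹ = x * z * x⁻¹ by group]

theorem card_aset (i : Fin 3) : (D.aset i).card * D.n i = Nat.card G * D.m i := by
  set N' := Subgroup.normalizer (D.A i : Set G) with hN'
  have hcardN : Nat.card N' = wt i * D.n i := by
    have h := Subgroup.card_mul_index ((D.A i).subgroupOf N')
    rw [show ((D.A i).subgroupOf N').index = wt i from D.index i,
      Nat.card_congr (Subgroup.subgroupOfEquivOfLe (Subgroup.le_normalizer (H := D.A i))).toEquiv] at h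
    rw [← h, mul_comm]; rfl
  let S : Finset (G × D.A i) := Finset.univ.filter fun p => p.2 ≠ 1
  have hS : S.card = Nat.card G * (D.n i - 1) := by
    have : S = Finset.univ ×ˢ (Finset.univ.erase (1 : D.A i)) := by
      ext p; simp [S]
    rw [this, Finset.card_product, Finset.card_univ, Finset.card_erase_of_mem (Finset.mem_univ _),
      Finset.card_univ, ← Nat.card_eq_fintype_card, ← Nat.card_eq_fintype_card]
    rfl
  have hfib : ∀ z ∈ D.aset i, (S.filter fun p => p.1 * (p.2 : G) * p.1⁻¹ = z).card = Nat.card N' := by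
    intro z hz
    obtain ⟨h1, y, hy⟩ := D.mem_aset.1 hz
    rw [Nat.card_eq_fintype_card, ← Finset.card_univ]
    symm
    refine Finset.card_bij (fun k _ => (y⁻¹ * k, ⟨(k : G)⁻¹ * (y * z * y⁻¹) * k, ?_⟩)) ?_ ?_ ?_
    · have := (Subgroup.mem_normalizer_iff.1 (inv_mem k.2) (y * z * y⁻¹)).1 hy
      rwa [inv_inv] at this
    · intro k _
      refine Finset.mem_filter.2 ⟨Finset.mem_filter.2 ⟨Finset.mem_univ _, fun e => h1 ?_⟩, ?_⟩
      · have e' := congrArg Subtype.val e
        simp only [OneMemClass.coe_one] at e'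
        calc z = y⁻¹ * (k * ((k : G)⁻¹ * (y * z * y⁻¹) * k) * (k : G)⁻¹) * y := by group
          _ = 1 := by rw [e']; group
      · show y⁻¹ * k * ((k : G)⁻¹ * (y * z * y⁻¹) * k) * (y⁻¹ * k)⁻¹ = z
        group
    · intro k _ k' _ e
      exact Subtype.ext (mul_left_cancel (congrArg Prod.fst e))
    · rintro ⟨g, a⟩ hp
      obtain ⟨hpS, hpz⟩ := Finset.mem_filter.1 hp
      have ha1 : (a : G) ≠ 1 := fun e => (Finset.mem_filter.1 hpS).2 (Subtype.ext e)
      have hk : y * g ∈ N' := by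
        refine D.mem_normalizer_of_conj_mem a.2 ha1 ?_
        rw [show y * g * (a : G) * (y * g)⁻¹ = y * (g * a * g⁻¹) * y⁻¹ by group, hpz]
        exact hy
      refine ⟨⟨y * g, hk⟩, Finset.mem_univ _, ?_⟩
      refine Prod.ext (by simp) (Subtype.ext ?_)
      show (y * g)⁻¹ * (y * z * y⁻¹) * (y * g) = a
      rw [← hpz]; group
  have hmaps : ∀ p ∈ S, p.1 * (p.2 : G) * p.1⁻¹ ∈ D.aset i := by
    intro p hp
    refine D.mem_aset.2 ⟨fun e => (Finset.mem_filter.1 hp).2 (Subtype.ext (conj_eq_one_iff.1 e)),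
      p.1⁻¹, ?_⟩
    rw [show p.1⁻¹ * (p.1 * (p.2 : G) * p.1⁻¹) * p.1⁻¹⁻¹ = p.2 by group]
    exact p.2.2
  have hsum := Finset.card_eq_sum_card_fiberwise hmaps
  rw [Finset.sum_congr rfl hfib, Finset.sum_const, smul_eq_mul, hS, hcardN] at hsum
  have hn := D.n_eq i
  rw [show D.n i - 1 = wt i * D.m i by omega] at hsum
  refine Nat.eq_of_mul_eq_mul_left (wt_pos i) ?_
  linarith [hsum]

theorem partition (z : G) : z = 1 ∨ D.Rest z ∨ ∃ i, z ∈ D.aset i := by
  by_cases h1 : z = 1
  · exact Or.inl h1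
  by_cases h : ∃ i, z ∈ D.aset i
  · exact Or.inr (Or.inr h)
  · refine Or.inr (Or.inl ⟨h1, fun i y hy => h ⟨i, D.mem_aset.2 ⟨h1, y, hy⟩⟩⟩)

theorem univ_eq : (Finset.univ : Finset G) =
    insert 1 (D.restSet ∪ (D.aset 0 ∪ D.aset 1 ∪ D.aset 2)) := by
  ext z
  simp only [Finset.mem_univ, true_iff, Finset.mem_insert, Finset.mem_union, restSet, Finset.mem_filter,
    true_and]
  rcases D.partition z with h | h | ⟨i, hi⟩
  · exact Or.inl h
  · exact Or.inr (Or.inl h)
  · refine Or.inr (Or.inr ?_)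
    fin_cases i
    · exact Or.inl (Or.inl hi)
    · exact Or.inl (Or.inr hi)
    · exact Or.inr hi

theorem card_partition : Nat.card G =
    1 + (D.restSet.card + ((D.aset 0).card + (D.aset 1).card + (D.aset 2).card)) := by
  have hr : ∀ i, Disjoint D.restSet (D.aset i) := fun i => by
    refine Finset.disjoint_left.2 fun z hz hi => ?_
    obtain ⟨-, y, hy⟩ := D.mem_aset.1 hi
    exact (Finset.mem_filter.1 hz).2.2 i y hy
  have h1 : (1 : G) ∉ D.restSet ∪ (D.aset 0 ∪ D.aset 1 ∪ D.aset 2) := by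
    simp [restSet, Rest, mem_aset]
  rw [Nat.card_eq_fintype_card, ← Finset.card_univ, D.univ_eq, Finset.card_insert_of_notMem h1,
    Finset.card_union_of_disjoint, Finset.card_union_of_disjoint, Finset.card_union_of_disjoint
      (D.aset_disjoint (by decide))]
  · ring
  · exact Finset.disjoint_union_left.2 ⟨D.aset_disjoint (by decide), D.aset_disjoint (by decide)⟩
  · exact Finset.disjoint_union_right.2 ⟨Finset.disjoint_union_right.2 ⟨hr 0, hr 1⟩, hr 2⟩

theorem card_aset_sum : (D.aset 0).card + (D.aset 1).card + (D.aset 2).card = D.M * D.lam := by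
  have h := fun i => D.card_aset i
  have hG := D.card_eq
  have a0 : (D.aset 0).card = D.M * (D.m 0 * D.n 1 * D.n 2) := by
    refine Nat.eq_of_mul_eq_mul_right (D.n_pos 0) ?_
    rw [h 0, hG, N]; ring
  have a1 : (D.aset 1).card = D.M * (D.m 1 * D.n 0 * D.n 2) := by
    refine Nat.eq_of_mul_eq_mul_right (D.n_pos 1) ?_
    rw [h 1, hG, N]; ring
  have a2 : (D.aset 2).card = D.M * (D.m 2 * D.n 0 * D.n 1) := by
    refine Nat.eq_of_mul_eq_mul_right (D.n_pos 2) ?_
    rw [h 2, hG, N]; ring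
  rw [a0, a1, a2, lam]; ring

/-- The class of an element. -/
noncomputable def cls (g : G) : Finset G := Finset.univ.filter fun x => IsConj g x

theorem card_cls (g : G) :
    (cls g).card * Nat.card (Subgroup.centralizer ({g} : Set G)) = Nat.card G := by
  rw [← CfsgLib.Perm.Small.card_class_mul_card_centralizer g]
  congr 1
  rw [Nat.card_eq_fintype_card, Fintype.card_subtype]
  rfl

theorem N_dvd_card_cls {g : G} (h : D.Rest g) : D.N ∣ (cls g).card := by
  refine ((D.centralizer_coprime h).symm).dvd_of_dvd_mul_right ?_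
  rw [card_cls, D.card_eq]
  exact dvd_mul_right _ _

theorem N_dvd_restSet : D.N ∣ D.restSet.card := by
  rw [Finset.card_eq_sum_card_fiberwise (f := ConjClasses.mk) (t := D.restSet.image ConjClasses.mk)
    (fun g hg => Finset.mem_image_of_mem _ hg)]
  refine Finset.dvd_sum fun c hc => ?_
  obtain ⟨g, hg, rfl⟩ := Finset.mem_image.1 hc
  have hr := (Finset.mem_filter.1 hg).2
  have : (D.restSet.filter fun x => ConjClasses.mk x = ConjClasses.mk g) = cls g := by
    ext x
    simp only [restSet, cls, Finset.mem_filter, Finset.mem_univ, true_and, ConjClasses.mk_eq_mk_iff_isConj]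
    exact ⟨fun h => h.2.symm, fun h => ⟨D.rest_isConj hr h, h.symm⟩⟩
  rw [this]
  exact D.N_dvd_card_cls hr

/-- The class equation modulo `N`. -/
theorem class_equation : ∃ K, D.N * D.M = 1 + D.M * D.lam + D.N * K := by
  obtain ⟨K, hK⟩ := D.N_dvd_restSet
  refine ⟨K, ?_⟩
  rw [← D.card_eq, D.card_partition, D.card_aset_sum, hK]
  ring

theorem lam_mod : (D.M * D.lam + 1) % D.N = 0 := by
  obtain ⟨K, hK⟩ := D.class_equation
  refine Nat.mod_eq_zero_of_dvd ((Nat.dvd_add_left (dvd_mul_right D.N K)).1 ?_)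
  rw [add_comm (D.M * D.lam) 1, ← hK]
  exact dvd_mul_right _ _

/-- Non-conjugate remaining elements have a small total of reciprocal centralizer orders. -/
theorem sum_inv_lt (s : Finset G) (hs : ∀ g ∈ s, D.Rest g)
    (hne : ∀ g ∈ s, ∀ g' ∈ s, IsConj g g' → g = g') :
    ∑ g ∈ s, (1 : ℚ) / Nat.card (Subgroup.centralizer ({g} : Set G)) <
      1 / (2 * (D.n 0 : ℚ)) + 1 / (4 * (D.n 1 : ℚ)) + 1 / (4 * (D.n 2 : ℚ)) := by
  have hsub : s.biUnion cls ⊆ D.restSet := by
    intro x hx
    obtain ⟨g, hg, hgx⟩ := Finset.mem_biUnion.1 hx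
    exact Finset.mem_filter.2 ⟨Finset.mem_univ _, D.rest_isConj (hs g hg) (Finset.mem_filter.1 hgx).2⟩
  have hcard : (s.biUnion cls).card = ∑ g ∈ s, (cls g).card := by
    refine Finset.card_biUnion fun g hg g' hg' hgg' => Finset.disjoint_left.2 fun x hx hx' => hgg' ?_
    exact hne g hg g' hg' ((Finset.mem_filter.1 hx).2.trans (Finset.mem_filter.1 hx').2.symm)
  have hle := Finset.card_le_card hsub
  rw [hcard] at hle
  have hGpos : (0 : ℚ) < Nat.card G := Nat.cast_pos.2 Nat.card_pos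
  have hcls : ∀ g : G, (1 : ℚ) / Nat.card (Subgroup.centralizer ({g} : Set G)) =
      ((cls g).card : ℚ) / Nat.card G := by
    intro g
    have h : ((cls g).card : ℚ) * (Nat.card (Subgroup.centralizer ({g} : Set G)) : ℚ) = Nat.card G := by
      exact_mod_cast card_cls g
    have hC : (Nat.card (Subgroup.centralizer ({g} : Set G)) : ℚ) ≠ 0 :=
      Nat.cast_ne_zero.2 Nat.card_pos.ne'
    rw [div_eq_div_iff hC hGpos.ne', one_mul, ← h]
  rw [Finset.sum_congr rfl fun g _ => hcls g, ← Finset.sum_div]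
  refine (div_lt_iff₀ hGpos).2 ?_
  calc ∑ g ∈ s, ((cls g).card : ℚ) ≤ (D.restSet.card : ℚ) := by exact_mod_cast hle
    _ < _ := ?_
  have hp : (Nat.card G : ℚ) = 1 + ((D.restSet.card : ℚ) + (((D.aset 0).card : ℚ) +
      (D.aset 1).card + (D.aset 2).card)) := by exact_mod_cast D.card_partition
  have ha : ∀ i, ((D.aset i).card : ℚ) = Nat.card G * D.m i / D.n i := by
    intro i
    rw [eq_div_iff (Nat.cast_ne_zero.2 (D.n_pos i).ne')]
    exact_mod_cast D.card_aset i
  have e0 : (D.n 0 : ℚ) = 1 + 2 * D.m 0 := by exact_mod_cast D.n_eq_zero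
  have e1 : (D.n 1 : ℚ) = 1 + 4 * D.m 1 := by exact_mod_cast D.n_eq_one
  have e2 : (D.n 2 : ℚ) = 1 + 4 * D.m 2 := by exact_mod_cast D.n_eq_two
  have p0 : (0 : ℚ) < D.n 0 := Nat.cast_pos.2 (D.n_pos 0)
  have p1 : (0 : ℚ) < D.n 1 := Nat.cast_pos.2 (D.n_pos 1)
  have p2 : (0 : ℚ) < D.n 2 := Nat.cast_pos.2 (D.n_pos 2)
  have k0 : 1 / (2 * (D.n 0 : ℚ)) = 1 / 2 - D.m 0 / (D.n 0 : ℚ) := by
    field_simp; rw [e0]; ring
  have k1 : 1 / (4 * (D.n 1 : ℚ)) = 1 / 4 - D.m 1 / (D.n 1 : ℚ) := by
    field_simp; rw [e1]; ring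
  have k2 : 1 / (4 * (D.n 2 : ℚ)) = 1 / 4 - D.m 2 / (D.n 2 : ℚ) := by
    field_simp; rw [e2]; ring
  rw [k0, k1, k2]
  rw [ha, ha, ha] at hp
  linear_combination -hp + zero_lt_one (α := ℚ)

theorem card_le_R (s : Finset G) (hs : ∀ g ∈ s, D.Rest g)
    (hne : ∀ g ∈ s, ∀ g' ∈ s, IsConj g g' → g = g') : s.card ≤ D.R := by
  rw [← Nat.card_eq_finsetCard, R]
  refine Nat.card_le_card_of_injective
    (fun g : s => (⟨ConjClasses.mk g.1, g.1, rfl, hs g g.2⟩ : {c : ConjClasses G // D.RestClass c}))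
    fun g g' e => Subtype.ext (hne _ g.2 _ g'.2 ?_)
  exact ConjClasses.mk_eq_mk_iff_isConj.1 (congrArg Subtype.val e)

theorem card_classes_aset (i : Fin 3) : ((D.aset i).image ConjClasses.mk).card = D.m i := by
  have h := D.card_aset i
  rw [Finset.card_eq_sum_card_fiberwise (f := ConjClasses.mk) (t := (D.aset i).image ConjClasses.mk)
    (fun g hg => Finset.mem_image_of_mem _ hg), Finset.sum_mul,
    Finset.sum_congr rfl (g := fun _ => Nat.card G) fun c hc => ?_, Finset.sum_const, smul_eq_mul,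
    mul_comm] at h
  · exact Nat.eq_of_mul_eq_mul_left Nat.card_pos h
  · obtain ⟨g, hg, rfl⟩ := Finset.mem_image.1 hc
    obtain ⟨h1, y, hy⟩ := D.mem_aset.1 hg
    have hf : ((D.aset i).filter fun x => ConjClasses.mk x = ConjClasses.mk g) = cls g := by
      ext x
      simp only [cls, Finset.mem_filter, Finset.mem_univ, true_and, ConjClasses.mk_eq_mk_iff_isConj,
        mem_aset]
      refine ⟨fun h => h.2.symm, fun h => ⟨⟨?_, ?_⟩, h.symm⟩⟩
      · intro e; subst e; exact h1 (isConj_one_left.1 h)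
      · obtain ⟨z, rfl⟩ := isConj_iff.1 h
        exact ⟨y * z⁻¹, by
          rwa [show y * z⁻¹ * (z * g * z⁻¹) * (y * z⁻¹)⁻¹ = y * g * y⁻¹ by group]⟩
    have hy1 : y * g * y⁻¹ ≠ 1 := fun e => h1 (conj_eq_one_iff.1 e)
    have hcg : (cls g : Finset G) = cls (y * g * y⁻¹) := by
      ext x
      simp only [cls, Finset.mem_filter, Finset.mem_univ, true_and]
      have hc : IsConj g (y * g * y⁻¹) := isConj_iff.2 ⟨y, rfl⟩
      exact ⟨fun h => hc.symm.trans h, fun h => hc.trans h⟩
    rw [hf, hcg]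
    have hn : Nat.card (Subgroup.centralizer ({y * g * y⁻¹} : Set G)) = D.n i := by
      rw [D.self i _ hy hy1]; rfl
    rw [← hn]
    exact card_cls _

theorem card_classes : Nat.card (ConjClasses G) = 1 + (D.m 0 + D.m 1 + D.m 2) + D.R := by
  set T : Finset (ConjClasses G) := Finset.univ.filter fun c => D.RestClass c
  have hT : T.card = D.R := by
    rw [R, Nat.card_eq_fintype_card, Fintype.card_subtype]
  have hu : (Finset.univ : Finset (ConjClasses G)) = insert (ConjClasses.mk (1 : G))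
      (T ∪ ((D.aset 0).image ConjClasses.mk ∪ (D.aset 1).image ConjClasses.mk ∪
        (D.aset 2).image ConjClasses.mk)) := by
    ext c
    simp only [Finset.mem_univ, true_iff]
    obtain ⟨g, rfl⟩ := ConjClasses.mk_surjective c
    rcases D.partition g with h | h | ⟨i, hi⟩
    · subst h; exact Finset.mem_insert_self _ _
    · exact Finset.mem_insert_of_mem (Finset.mem_union_left _
        (Finset.mem_filter.2 ⟨Finset.mem_univ _, g, rfl, h⟩))
    · refine Finset.mem_insert_of_mem (Finset.mem_union_right _ ?_)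
      fin_cases i
      · exact Finset.mem_union_left _ (Finset.mem_union_left _ (Finset.mem_image_of_mem _ hi))
      · exact Finset.mem_union_left _ (Finset.mem_union_right _ (Finset.mem_image_of_mem _ hi))
      · exact Finset.mem_union_right _ (Finset.mem_image_of_mem _ hi)
  have hTd : ∀ i, Disjoint T ((D.aset i).image ConjClasses.mk) := fun i => by
    refine Finset.disjoint_left.2 fun c hc hi => ?_
    obtain ⟨g, rfl, hg⟩ := (Finset.mem_filter.1 hc).2
    obtain ⟨z, hz, e⟩ := Finset.mem_image.1 hi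
    obtain ⟨-, y, hy⟩ := D.mem_aset.1 hz
    exact (D.rest_isConj hg (ConjClasses.mk_eq_mk_iff_isConj.1 e).symm).2 i y hy
  have hdd : ∀ i j, i ≠ j →
      Disjoint ((D.aset i).image ConjClasses.mk) ((D.aset j).image ConjClasses.mk) := fun i j hij => by
    refine Finset.disjoint_left.2 fun c hi hj => ?_
    obtain ⟨g, hg, rfl⟩ := Finset.mem_image.1 hi
    obtain ⟨g', hg', e⟩ := Finset.mem_image.1 hj
    obtain ⟨x, hx⟩ := isConj_iff.1 (ConjClasses.mk_eq_mk_iff_isConj.1 e).symm
    obtain ⟨h1, y, hy⟩ := D.mem_aset.1 hg'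
    refine Finset.disjoint_left.1 (D.aset_disjoint hij) hg (D.mem_aset.2 ⟨(D.mem_aset.1 hg).1,
      y * x, ?_⟩)
    rwa [show y * x * g * (y * x)⁻¹ = y * (x * g * x⁻¹) * y⁻¹ by group, hx]
  have h1 : ConjClasses.mk (1 : G) ∉ T ∪ ((D.aset 0).image ConjClasses.mk ∪
      (D.aset 1).image ConjClasses.mk ∪ (D.aset 2).image ConjClasses.mk) := by
    intro h
    have hA : ∀ i, ConjClasses.mk (1 : G) ∉ (D.aset i).image ConjClasses.mk := fun i hi => by
      obtain ⟨z, hz, e⟩ := Finset.mem_image.1 hi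
      exact (D.mem_aset.1 hz).1 (isConj_one_left.1 (ConjClasses.mk_eq_mk_iff_isConj.1 e))
    rcases Finset.mem_union.1 h with h | h
    · obtain ⟨g, e, hg⟩ := (Finset.mem_filter.1 h).2
      exact hg.1 (isConj_one_left.1 (ConjClasses.mk_eq_mk_iff_isConj.1 e))
    · rcases Finset.mem_union.1 h with h | h
      · rcases Finset.mem_union.1 h with h | h <;> exact hA _ h
      · exact hA _ h
  rw [Nat.card_eq_fintype_card, ← Finset.card_univ, hu, Finset.card_insert_of_notMem h1,
    Finset.card_union_of_disjoint, Finset.card_union_of_disjoint, Finset.card_union_of_disjoint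
      (hdd 0 1 (by decide)), D.card_classes_aset, D.card_classes_aset, D.card_classes_aset, hT]
  · ring
  · exact Finset.disjoint_union_left.2 ⟨hdd 0 2 (by decide), hdd 1 2 (by decide)⟩
  · exact Finset.disjoint_union_right.2 ⟨Finset.disjoint_union_right.2 ⟨hTd 0, hTd 1⟩, hTd 2⟩

/-- Counting pairs of conjugate involutions by their products. -/
theorem invert_count (σ : G) (I : Finset (Fin 3))
    (hI : ∀ i ∈ I, ∃ u ∈ Subgroup.normalizer (D.A i : Set G), orderOf u = 2 ∧ IsConj σ u) :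
    Nat.card G * ∑ i ∈ I, D.m i ≤ (cls σ).card ^ 2 := by
  set P : Finset (G × G) := (I.biUnion fun i => D.aset i).biUnion fun z =>
    ((cls σ).filter fun u => u * z ∈ cls σ).image fun u => (u, u * z) with hP
  have hPle : P.card ≤ (cls σ).card ^ 2 := by
    rw [pow_two, ← Finset.card_product]
    refine Finset.card_le_card fun p hp => ?_
    obtain ⟨z, -, hz⟩ := Finset.mem_biUnion.1 hp
    obtain ⟨u, hu, rfl⟩ := Finset.mem_image.1 hz
    exact Finset.mem_product.2 ⟨(Finset.mem_filter.1 hu).1, (Finset.mem_filter.1 hu).2⟩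
  refine le_trans ?_ hPle
  rw [hP, Finset.card_biUnion, Finset.sum_biUnion, Finset.mul_sum]
  · refine Finset.sum_le_sum fun i hi => ?_
    rw [← D.card_aset i, ← smul_eq_mul, ← Finset.sum_const]
    refine Finset.sum_le_sum fun z hz => ?_
    rw [Finset.card_image_of_injective _ fun a b e => congrArg Prod.fst e]
    obtain ⟨h1, y, hy⟩ := D.mem_aset.1 hz
    obtain ⟨u₀, hu₀N, hu₀, hσ⟩ := hI i hi
    rw [n, ← Nat.card_eq_finsetCard]
    refine Nat.card_le_card_of_injective
      (fun b : D.A i => (⟨y⁻¹ * (u₀ * b) * y, Finset.mem_filter.2 ⟨?_, ?_⟩⟩ :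
        ((cls σ).filter fun u => u * z ∈ cls σ))) ?_
    · refine Finset.mem_filter.2 ⟨Finset.mem_univ _, (hσ.trans (D.mul_mem_coset hu₀ hu₀N b.2)).trans
        (isConj_iff.2 ⟨y⁻¹, by rw [inv_inv]⟩)⟩
    · refine Finset.mem_filter.2 ⟨Finset.mem_univ _, (hσ.trans (D.mul_mem_coset hu₀ hu₀N
        (mul_mem b.2 hy))).trans (isConj_iff.2 ⟨y⁻¹, ?_⟩)⟩
      group
    · intro b b' e
      exact Subtype.ext (mul_left_cancel (mul_left_cancel (mul_right_cancel (congrArg Subtype.val e))))
  · intro i _ j _ hij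
    exact D.aset_disjoint hij
  · intro z _ z' _ hzz'
    refine Finset.disjoint_left.2 fun p hp hp' => hzz' ?_
    obtain ⟨u, -, rfl⟩ := Finset.mem_image.1 hp
    obtain ⟨u', -, e⟩ := Finset.mem_image.1 hp'
    have e1 : u' = u := congrArg Prod.fst e
    subst e1
    exact (mul_left_cancel (congrArg Prod.snd e)).symm

end fintype

end Hyp

end CfsgLib.CIT.ThreeSystems
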