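import Mathlib
import Cfsg.Agent.Lib.CIT.ThreeSystems.Counting
import Cfsg.Agent.Lib.Coprime.Solvable
import Cfsg.Agent.Lib.Char.Burnside
import Cfsg.Agent.Lib.Fusion.Transfer

/-!
# Three self-centralizing systems: general facts about small groups

Number-theoretic and group-theoretic lemmas used for the centralizer of an element of odd order that
commutes with an involution.
-/

set_option autoImplicit false
set_option linter.unusedSectionVars false
set_option linter.style.haveILetI false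
set_option linter.style.openClassical false

namespace CfsgLib.CIT.ThreeSystems

open Cfsg Subgroup
open scoped Classical

/-! ### Numbers -/

/-- A divisibility between numbers with two possible primes. -/
theorem dvd_of_parts {n m r : ℕ} (hp : ∀ p : ℕ, p.Prime → p ∣ n → p = 2 ∨ p = r)
    (h2 : ∀ k, 2 ^ k ∣ n → 2 ^ k ∣ m) (hr : ∀ k, r ^ k ∣ n → r ^ k ∣ m) : n ∣ m := by
  refine (Nat.dvd_iff_prime_pow_dvd_dvd _ _).2 fun p k hpp hk => ?_
  rcases Nat.eq_zero_or_pos k with rfl | hk0
  · simp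
  rcases hp p hpp ((dvd_pow_self p hk0.ne').trans hk) with rfl | rfl
  · exact h2 k hk
  · exact hr k hk

/-- A prime power that exceeds a power of two by one. -/
theorem pow_sub_one_two {r c j : ℕ} (hr : r.Prime) (hr2 : r ≠ 2) (hc : 0 < c)
    (h : r ^ c - 1 = 2 ^ j) : c = 1 ∨ (r = 3 ∧ c = 2) := by
  have hr3 : 3 ≤ r := by have := hr.two_le; omega
  have hodd : Odd r := hr.odd_of_ne_two hr2
  rcases Nat.even_or_odd c with ⟨d, rfl⟩ | hc'
  · right
    have hd : 0 < d := by omega
    have hfac : (r ^ d - 1) * (r ^ d + 1) = 2 ^ j := by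
      rw [← h, mul_comm, ← Nat.sq_sub_sq, one_pow, ← pow_mul, mul_two]
    obtain ⟨a, -, ha⟩ := (Nat.dvd_prime_pow Nat.prime_two).1 (Dvd.intro _ hfac)
    obtain ⟨b, -, hb⟩ := (Nat.dvd_prime_pow Nat.prime_two).1 (Dvd.intro_left _ hfac)
    have h3 : 3 ≤ r ^ d := hr3.trans (Nat.le_self_pow hd.ne' r)
    have ha1 : a ≤ 1 := by
      by_contra hlt
      have e4 : 4 ∣ 2 ^ a := pow_dvd_pow 2 (show 2 ≤ a by omega)
      have hab : a ≤ b := (Nat.pow_le_pow_iff_right (by norm_num : 1 < 2)).1 (by omega)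
      have e4' : 4 ∣ 2 ^ b := e4.trans (pow_dvd_pow 2 hab)
      omega
    have : r ^ d = 3 := by
      interval_cases a <;> omega
    have hd1 : d = 1 := by
      by_contra hne
      have := Nat.pow_le_pow_right (show 0 < r by omega) (show 2 ≤ d by omega)
      nlinarith
    subst hd1
    simp only [pow_one] at this
    exact ⟨this, rfl⟩
  · left
    have hgeom : (∑ i ∈ Finset.range c, r ^ i) * (r - 1) = 2 ^ j := by
      rw [← h]; exact geom_sum_mul_of_one_le (by omega) c
    have hoddsum : Odd (∑ i ∈ Finset.range c, r ^ i) := by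
      rw [Finset.odd_sum_iff_odd_card_odd, Finset.filter_true_of_mem fun i _ => hodd.pow,
        Finset.card_range]
      exact hc'
    obtain ⟨a, -, ha⟩ := (Nat.dvd_prime_pow Nat.prime_two).1 (Dvd.intro _ hgeom)
    rw [ha] at hoddsum
    have h0 : a = 0 := by
      by_contra hne
      exact Nat.not_even_iff_odd.2 hoddsum (even_iff_two_dvd.2 (dvd_pow_self 2 hne))
    rw [h0, pow_zero] at ha
    by_contra hc1
    have : (Finset.range 2).sum (fun i => r ^ i) ≤ ∑ i ∈ Finset.range c, r ^ i :=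
      Finset.sum_le_sum_of_subset (Finset.range_mono (by omega))
    simp [Finset.sum_range_succ] at this
    omega

/-- A power of three or five that is one less than a power of two. -/
theorem pow_eq_two_pow_sub_one {r d v : ℕ} (hr : r = 3 ∨ r = 5) (h : r ^ d + 1 = 2 ^ v) :
    r ^ d = 1 ∨ (r = 3 ∧ r ^ d = 3) := by
  have hodd : Odd r := by rcases hr with rfl | rfl <;> decide
  rcases Nat.even_or_odd d with ⟨e, rfl⟩ | hd
  · left
    by_contra hne
    have hv : 2 ≤ v := by
      by_contra hlt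
      have h1 : 1 ≤ r ^ (e + e) := Nat.one_le_pow _ _ (by omega)
      interval_cases v <;> omega
    have h4 : (r ^ (e + e) + 1) % 4 = 0 := by
      rw [h]; exact Nat.mod_eq_zero_of_dvd (pow_dvd_pow 2 hv)
    obtain ⟨k, hk⟩ := hodd.pow (n := e)
    rw [pow_add, hk] at h4
    have : ((2 * k + 1) * (2 * k + 1) + 1) = 4 * (k * k + k) + 2 := by ring
    omega
  · rcases hr with rfl | rfl
    · refine Or.inr ⟨rfl, ?_⟩
      obtain ⟨e, rfl⟩ := hd
      have hv : v ≤ 2 := by
        by_contra hlt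
        have h8 : (3 ^ (2 * e + 1) + 1) % 8 = 0 := by
          rw [h]; exact Nat.mod_eq_zero_of_dvd (pow_dvd_pow 2 (show 3 ≤ v by omega))
        rw [pow_succ, pow_mul] at h8
        have : (3 ^ 2) ^ e % 8 = 1 := by simp [Nat.pow_mod]
        omega
      have h3 : 3 ≤ 3 ^ (2 * e + 1) := Nat.le_self_pow (by omega) 3
      have h4 : 2 ^ v ≤ 4 := Nat.pow_le_pow_right two_pos hv
      revert h h3 h4
      generalize 3 ^ (2 * e + 1) = a
      generalize 2 ^ v = b
      intros
      omega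
    · exfalso
      obtain ⟨e, rfl⟩ := hd
      have hv : 2 ≤ v := by
        by_contra hlt
        have h3 : 5 ≤ 5 ^ (2 * e + 1) := Nat.le_self_pow (by omega) 5
        have h2 : 2 ^ v ≤ 2 := (Nat.pow_le_pow_right two_pos (show v ≤ 1 by omega)).trans_eq (pow_one 2)
        revert h h3 h2
        generalize 5 ^ (2 * e + 1) = a
        generalize 2 ^ v = b
        intros
        omega
      have h4 : (5 ^ (2 * e + 1) + 1) % 4 = 0 := by
        rw [h]; exact Nat.mod_eq_zero_of_dvd (pow_dvd_pow 2 hv)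
      have : 5 ^ (2 * e + 1) % 4 = 1 := by simp [Nat.pow_mod]
      omega

/-! ### Groups -/

universe u

variable {H : Type u} [Group H]

theorem orderOf_two {u : H} (h : u * u = 1) (h1 : u ≠ 1) : orderOf u = 2 :=
  orderOf_eq_prime (by rw [pow_two]; exact h) h1

theorem invol_inv {u : H} (h : orderOf u = 2) : u⁻¹ = u :=
  inv_eq_of_mul_eq_one_right (by rw [← pow_two, ← h, pow_orderOf_eq_one])

theorem invol_sq {u : H} (h : orderOf u = 2) : u * u = 1 := by
  rw [← pow_two, ← h, pow_orderOf_eq_one]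

theorem commute_of_mem_centralizer {g z : H} (h : g ∈ centralizer ({z} : Set H)) : Commute g z :=
  mem_centralizer_singleton_iff.1 h

theorem mem_centralizer_of_commute {g z : H} (h : Commute g z) : g ∈ centralizer ({z} : Set H) :=
  mem_centralizer_singleton_iff.2 h.eq

section finite

variable [Finite H]

theorem mem_cls {X : Type u} [Group X] [Fintype X] {g x : X} : x ∈ Hyp.cls g ↔ IsConj g x := by
  simp [Hyp.cls]

/-- A nontrivial two-subgroup has an involution in its centre. -/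
theorem exists_central_invol {E : Subgroup H} (hE : IsPGroup 2 E) (hne : E ≠ ⊥) :
    ∃ z ∈ E, orderOf z = 2 ∧ ∀ g ∈ E, Commute g z := by
  haveI : Fact (Nat.Prime 2) := ⟨Nat.prime_two⟩
  haveI : Nontrivial E := (Subgroup.nontrivial_iff_ne_bot E).2 hne
  haveI := hE.center_nontrivial
  obtain ⟨k, hk⟩ := (hE.to_subgroup (Subgroup.center E)).exists_card_eq
  have hk0 : k ≠ 0 := fun h0 => by
    rw [h0, pow_zero] at hk
    have := Finite.one_lt_card (α := Subgroup.center E)
    omega
  obtain ⟨⟨⟨z, hzE⟩, hzc⟩, hz⟩ := exists_prime_orderOf_dvd_card' (G := Subgroup.center E) 2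
    (hk ▸ dvd_pow_self 2 hk0)
  rw [Subgroup.orderOf_mk, Subgroup.orderOf_mk] at hz
  exact ⟨z, hzE, hz, fun g hg => congrArg Subtype.val (Subgroup.mem_center_iff.1 hzc ⟨g, hg⟩)⟩

/-- Two classes of involutions need an element of order four. -/
theorem false_of_two_classes {u₁ u₂ : H} (h₁ : orderOf u₁ = 2) (h₂ : orderOf u₂ = 2)
    (hne : ¬ IsConj u₁ u₂) (hall : ∀ u : H, orderOf u = 2 → IsConj u₁ u ∨ IsConj u₂ u)
    (h4 : ∀ g : H, orderOf g ≠ 4) : False := by
  haveI := Fintype.ofFinite H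
  haveI : Fact (Nat.Prime 2) := ⟨Nat.prime_two⟩
  have hodd : ∀ u : H, orderOf u = 2 → Odd (Hyp.cls u).card := by
    intro u hu
    obtain ⟨P, hP⟩ := (IsPGroup.of_card (n := 1)
      (by rw [pow_one, Nat.card_zpowers, hu] : Nat.card (Subgroup.zpowers u) = 2 ^ 1)).exists_le_sylow
    have hexp : ∀ g ∈ (P : Subgroup H), g * g = 1 := by
      intro g hg
      obtain ⟨k, hk⟩ := IsPGroup.iff_orderOf.1 P.isPGroup' ⟨g, hg⟩
      rw [Subgroup.orderOf_mk] at hk
      have hk1 : k ≤ 1 := by
        by_contra hlt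
        refine h4 (g ^ (2 ^ k / 4)) ?_
        rw [← hk]
        have h4d : 4 ∣ orderOf g := hk ▸ pow_dvd_pow 2 (show 2 ≤ k by omega)
        exact orderOf_pow_orderOf_div (orderOf_pos g).ne' h4d
      rw [← pow_two]
      exact orderOf_dvd_iff_pow_eq_one.1 (hk ▸ pow_dvd_pow 2 hk1)
    have hle : (P : Subgroup H) ≤ centralizer ({u} : Set H) := fun g hg => by
      refine mem_centralizer_singleton_iff.2 ?_
      have e1 := hexp g hg
      have e2 := invol_sq hu
      have e3 := hexp (g * u) (mul_mem hg (hP (Subgroup.mem_zpowers u)))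
      calc g * u = g * u * ((g * u) * (g * u)) := by rw [e3, mul_one]
        _ = g * u * (g * u) * (g * u) := by group
        _ = (g * u)⁻¹ := by
          rw [e3, one_mul]; exact (inv_eq_of_mul_eq_one_right e3).symm
        _ = u * g := by
          rw [mul_inv_rev, inv_eq_of_mul_eq_one_right e2, inv_eq_of_mul_eq_one_right e1]
    rw [← Nat.not_even_iff_odd, even_iff_two_dvd]
    intro hd
    have hmul := Hyp.card_cls u
    have hidx := Subgroup.index_mul_card (centralizer ({u} : Set H))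
    rw [← hmul] at hidx
    have hi : (centralizer ({u} : Set H)).index = (Hyp.cls u).card :=
      Nat.eq_of_mul_eq_mul_right Nat.card_pos hidx
    rw [← hi] at hd
    exact P.not_dvd_index (hd.trans (Subgroup.index_dvd_of_le hle))
  set S : Finset H := Finset.univ.filter fun g => g * g = 1
  have hS : S = insert 1 (Hyp.cls u₁ ∪ Hyp.cls u₂) := by
    ext g
    simp only [S, Hyp.cls, Finset.mem_filter, Finset.mem_univ, true_and, Finset.mem_insert,
      Finset.mem_union]
    refine ⟨fun h => ?_, fun h => ?_⟩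
    · by_cases hg : g = 1
      · exact Or.inl hg
      · exact Or.inr (hall g (orderOf_two h hg))
    · rcases h with rfl | h | h
      · rw [mul_one]
      all_goals
        obtain ⟨y, rfl⟩ := isConj_iff.1 h
        rw [← pow_two, conj_pow, pow_two]
        simp [invol_sq h₁, invol_sq h₂]
  have h1n : (1 : H) ∉ Hyp.cls u₁ ∪ Hyp.cls u₂ := by
    simp only [Hyp.cls, Finset.mem_union, Finset.mem_filter, Finset.mem_univ, true_and]
    rintro (h | h)
    · rw [isConj_one_left] at h; rw [h, orderOf_one] at h₁; omega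
    · rw [isConj_one_left] at h; rw [h, orderOf_one] at h₂; omega
  have hd : Disjoint (Hyp.cls u₁) (Hyp.cls u₂) := by
    refine Finset.disjoint_left.2 fun g hg hg' => hne ?_
    exact (mem_cls.1 hg).trans (mem_cls.1 hg').symm
  have hSodd : Odd S.card := by
    rw [hS, Finset.card_insert_of_notMem h1n, Finset.card_union_of_disjoint hd]
    exact ((hodd u₁ h₁).add_odd (hodd u₂ h₂)).add_one
  have hev : Even (Fintype.card H) := by
    rw [even_iff_two_dvd, ← Nat.card_eq_fintype_card, ← h₁]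
    exact orderOf_dvd_natCard u₁
  have hsum : ∑ g : H, (if g * g = 1 then (0 : ZMod 2) else 1) = 0 := by
    refine Finset.sum_involution (fun g _ => g⁻¹) (fun g _ => ?_) (fun g _ hg => ?_)
      (fun g _ => Finset.mem_univ _) (fun g _ => inv_inv g)
    · by_cases h : g * g = 1
      · simp [h, inv_eq_of_mul_eq_one_right h]
      · have h' : g⁻¹ * g⁻¹ ≠ 1 := fun e => h (by rw [← inv_inj, mul_inv_rev, inv_one, e])
        simp only [h, h', if_false]
        exact CharTwo.add_self_eq_zero 1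
    · intro e
      refine hg (if_pos ?_)
      nth_rewrite 1 [← e]
      exact inv_mul_cancel g
  rw [Finset.sum_ite, Finset.sum_const_zero, zero_add, Finset.sum_const, nsmul_eq_mul, mul_one,
    ZMod.natCast_eq_zero_iff_even] at hsum
  have hsplit := Finset.card_filter_add_card_filter_not (s := (Finset.univ : Finset H))
    (fun g => g * g = 1)
  rw [Finset.card_univ] at hsplit
  have hS' : (Finset.univ.filter fun g : H => g * g = 1).card = S.card := by simp only [S]
  obtain ⟨a, ha⟩ := hev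
  obtain ⟨b, hb⟩ := hsum
  obtain ⟨c, hc⟩ := hSodd
  omega

/-- The orbit of a nontrivial element of an abelian subgroup transitive on its nontrivial elements. -/
theorem orbit_dvd (R : Subgroup H) (hR : ∀ a ∈ R, ∀ b ∈ R, Commute a b) {x : H} (hx : x ∈ R)
    (hx1 : x ≠ 1)
    (htr : ∀ z ∈ R, z ≠ 1 → ∃ g ∈ normalizer (R : Set H), g * x * g⁻¹ = z) :
    (Nat.card R - 1) * Nat.card R ∣ Nat.card (normalizer (R : Set H)) := by
  haveI := Fintype.ofFinite H
  set N := normalizer (R : Set H)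
  let x' : N := ⟨x, Subgroup.le_normalizer hx⟩
  have hcls : (Hyp.cls x').card = Nat.card R - 1 := by
    rw [Nat.card_eq_fintype_card, ← Finset.card_univ,
      ← Finset.card_erase_of_mem (Finset.mem_univ (1 : R))]
    refine Finset.card_bij (fun z hz => ⟨(z : H), ?_⟩) ?_ ?_ ?_
    · obtain ⟨g, hg⟩ := isConj_iff.1 (mem_cls.1 hz)
      rw [← hg]
      exact (Subgroup.mem_normalizer_iff.1 g.2 x).1 hx
    · intro z hz
      refine Finset.mem_erase.2 ⟨fun e => hx1 ?_, Finset.mem_univ _⟩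
      obtain ⟨g, hg⟩ := isConj_iff.1 (mem_cls.1 hz)
      have : (z : H) = 1 := congrArg Subtype.val e
      rw [← hg] at this
      exact (conj_eq_one_iff (a := (g : H))).1 (by simpa [x'] using this)
    · intro a _ b _ e
      exact Subtype.ext (congrArg (fun w : R => (w : H)) e)
    · intro z hz
      obtain ⟨g, hg, e⟩ := htr z z.2 (fun e => (Finset.mem_erase.1 hz).1 (Subtype.ext e))
      exact ⟨⟨z, Subgroup.le_normalizer z.2⟩, mem_cls.2 (isConj_iff.2 ⟨⟨g, hg⟩, Subtype.ext e⟩),
        Subtype.ext rfl⟩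
  have h := Hyp.card_cls x'
  rw [hcls] at h
  rw [← h]
  refine Nat.mul_dvd_mul_left _ ?_
  refine (dvd_of_eq ?_).trans (Subgroup.card_dvd_of_le (show R.subgroupOf N ≤ centralizer {x'} from
    fun g hg => mem_centralizer_singleton_iff.2 (Subtype.ext (hR _ hg x hx).eq)))
  exact (Nat.card_congr (Subgroup.subgroupOfEquivOfLe (Subgroup.le_normalizer (H := R))).toEquiv).symm

/-- An involution without fixed points on an abelian subgroup inverts it. -/
theorem inverts_of_fpf {R : Subgroup H} (hR : ∀ a ∈ R, ∀ b ∈ R, Commute a b) {u : H} (hu : u * u = 1)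
    (huN : ∀ a ∈ R, u * a * u⁻¹ ∈ R) (hfix : ∀ a ∈ R, Commute u a → a = 1) {a : H} (ha : a ∈ R) :
    u * a * u⁻¹ = a⁻¹ := by
  have hb := huN a ha
  have hui : u⁻¹ = u := inv_eq_of_mul_eq_one_right hu
  refine eq_inv_of_mul_eq_one_left (hfix _ (mul_mem hb ha) ?_)
  show u * (u * a * u⁻¹ * a) = u * a * u⁻¹ * a * u
  rw [hui] at hb ⊢
  calc u * (u * a * u * a) = u * u * (a * u * a) := by group
    _ = a * (u * a * u) * u := by
      rw [show a * (u * a * u) * u = a * u * a * (u * u) by group, hu, one_mul, mul_one]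
    _ = u * a * u * a * u := by rw [(hR a ha _ hb).eq]

/-- Odd primes in the normalizer of an inverted self-centralizing subgroup. -/
theorem prime_of_inverted {R : Subgroup H} (hR : ∀ a ∈ R, ∀ b ∈ R, Commute a b)
    (hC : ∀ g : H, (∀ a ∈ R, Commute g a) → g ∈ R) (hodd : Odd (Nat.card R)) {u : H} (hu : u * u = 1)
    (hinv : ∀ a ∈ R, u * a * u⁻¹ = a⁻¹) {q : ℕ} (hq : q.Prime)
    (hqN : q ∣ Nat.card (normalizer (R : Set H))) (hqR : ¬ q ∣ Nat.card R) :
    q ∣ Nat.card (centralizer ({u} : Set H)) := by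
  haveI := Fact.mk hq
  obtain ⟨⟨g, hg⟩, hgq⟩ := exists_prime_orderOf_dvd_card' (G := normalizer (R : Set H)) q hqN
  rw [Subgroup.orderOf_mk] at hgq
  have hui : u⁻¹ = u := inv_eq_of_mul_eq_one_right hu
  have hρ : g * u * g⁻¹ * u⁻¹ ∈ R := by
    refine hC _ fun a ha => ?_
    have h1 : g⁻¹ * a * g ∈ R := by
      have := (Subgroup.mem_normalizer_iff.1 (inv_mem hg) a).1 ha
      rwa [inv_inv] at this
    show g * u * g⁻¹ * u⁻¹ * a = a * (g * u * g⁻¹ * u⁻¹)
    have e1 := hinv a⁻¹ (inv_mem ha)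
    rw [inv_inv] at e1
    have e2 := hinv _ h1
    calc g * u * g⁻¹ * u⁻¹ * a = g * u * g⁻¹ * (u * a * u⁻¹) * u⁻¹ := by
          rw [hui, show g * u * g⁻¹ * (u * a * u) * u = g * u * g⁻¹ * u * a * (u * u) by group, hu,
            mul_one]
      _ = g * u * g⁻¹ * a⁻¹ * u⁻¹ := by rw [hinv a ha]
      _ = g * (u * (g⁻¹ * a * g)⁻¹ * u⁻¹) * u * g⁻¹ * u⁻¹ := by group
      _ = g * (g⁻¹ * a * g) * u * g⁻¹ * u⁻¹ := by rw [hinv _ (inv_mem h1), inv_inv]
      _ = a * (g * u * g⁻¹ * u⁻¹) := by group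
  have hord : ∀ a ∈ R, Odd (orderOf a) := fun a ha => hodd.of_dvd_nat (Subgroup.orderOf_dvd_natCard _ ha)
  obtain ⟨σ, hσ, hσ2⟩ := Invol.exists_sqrt_of_odd (hord _ hρ)
  have hσR : σ ∈ R := (Subgroup.zpowers_le.2 hρ) hσ
  have hcomm : Commute (σ⁻¹ * g) u := by
    show σ⁻¹ * g * u = u * (σ⁻¹ * g)
    have e : g * u = σ * σ * u * g := by rw [hσ2]; group
    calc σ⁻¹ * g * u = σ⁻¹ * (g * u) := by group
      _ = σ * u * g := by rw [e]; group
      _ = u * (u⁻¹ * σ * u) * g := by group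
      _ = u * σ⁻¹ * g := by
        have := hinv σ hσR
        rw [hui] at this ⊢
        rw [this]
      _ = u * (σ⁻¹ * g) := by group
  set k := orderOf (σ⁻¹ * g)
  have hkR : g ^ k ∈ R := by
    haveI : (R.subgroupOf (normalizer (R : Set H))).Normal := Subgroup.normal_in_normalizer
    let g' : normalizer (R : Set H) := ⟨g, hg⟩
    let h' : normalizer (R : Set H) := ⟨σ⁻¹ * g, mul_mem (Subgroup.le_normalizer (inv_mem hσR)) hg⟩
    have e : (QuotientGroup.mk' (R.subgroupOf (normalizer (R : Set H)))) h' =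
        QuotientGroup.mk' _ g' := by
      refine (QuotientGroup.eq).2 ?_
      show (σ⁻¹ * g)⁻¹ * g ∈ R
      rw [show (σ⁻¹ * g)⁻¹ * g = g⁻¹ * σ * g by group]
      have := (Subgroup.mem_normalizer_iff.1 (inv_mem hg) σ).1 hσR
      rwa [inv_inv] at this
    have e1 := congrArg (· ^ k) e
    simp only [← map_pow] at e1
    rw [show h' ^ k = 1 from Subtype.ext (by simp [h', k, pow_orderOf_eq_one]), map_one] at e1
    exact (QuotientGroup.eq_one_iff (g' ^ k)).1 e1.symm
  have hqk : q ∣ k := by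
    rw [← hgq]
    refine orderOf_dvd_of_pow_eq_one ?_
    rw [← orderOf_eq_one_iff]
    refine Nat.eq_one_of_dvd_coprimes ((hq.coprime_iff_not_dvd.2 hqR))
      (hgq ▸ orderOf_pow_dvd k) (Subgroup.orderOf_dvd_natCard _ hkR)
  refine hqk.trans ?_
  exact Subgroup.orderOf_dvd_natCard _ (mem_centralizer_of_commute hcomm)

variable {r : ℕ} [hr : Fact r.Prime]

/-- In a two-prime group with normal Sylow `r`-subgroup, fusion in a Sylow two-subgroup is inner. -/
theorem conj_in_two_sylow (hr2 : r ≠ 2) (hp : ∀ q : ℕ, q.Prime → q ∣ Nat.card H → q = 2 ∨ q = r)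
    (R : Sylow r H) [hn : (R : Subgroup H).Normal] (E : Sylow 2 H) {a b : H}
    (ha : a ∈ (E : Subgroup H)) (hb : b ∈ (E : Subgroup H)) (hc : IsConj a b) :
    ∃ ε ∈ (E : Subgroup H), ε * a * ε⁻¹ = b := by
  haveI : Fact (Nat.Prime 2) := ⟨Nat.prime_two⟩
  obtain ⟨g, rfl⟩ := isConj_iff.1 hc
  have htop : (R : Subgroup H) ⊔ E = ⊤ := by
    rw [← Subgroup.index_eq_one]
    refine Nat.eq_one_iff_not_exists_prime_dvd.2 fun q hq hd => ?_
    rcases hp q hq (hd.trans (Subgroup.index_dvd_card _)) with rfl | rfl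
    · exact E.not_dvd_index (hd.trans (Subgroup.index_dvd_of_le le_sup_right))
    · exact R.not_dvd_index (hd.trans (Subgroup.index_dvd_of_le le_sup_left))
  have hg : g ∈ ((R : Subgroup H) ⊔ E : Subgroup H) := by rw [htop]; exact Subgroup.mem_top g
  rw [← SetLike.mem_coe, Subgroup.normal_mul] at hg
  obtain ⟨ρ, hρ, ε, hε, rfl⟩ := Set.mem_mul.1 hg
  refine ⟨ε, hε, ?_⟩
  set w := ε * a * ε⁻¹ with hw
  have hwE : w ∈ (E : Subgroup H) := mul_mem (mul_mem hε ha) (inv_mem hε)
  have e : ρ * ε * a * (ρ * ε)⁻¹ = ρ * w * ρ⁻¹ := by rw [hw]; group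
  have hR' : ρ * ε * a * (ρ * ε)⁻¹ * w⁻¹ ∈ (R : Subgroup H) := by
    rw [e, show ρ * w * ρ⁻¹ * w⁻¹ = ρ * (w * ρ⁻¹ * w⁻¹) by group]
    exact mul_mem hρ (hn.conj_mem _ (inv_mem hρ) w)
  have hdisj := IsPGroup.disjoint_of_ne r 2 hr2 _ _ R.isPGroup' E.isPGroup'
  exact (mul_inv_eq_one.1 (Subgroup.disjoint_def.1 hdisj hR' (mul_mem hb (inv_mem hwE)))).symm

/-- With one class of involutions and normal Sylow `r`-subgroup, the involution is unique. -/
theorem unique_invol (hr2 : r ≠ 2) (hp : ∀ q : ℕ, q.Prime → q ∣ Nat.card H → q = 2 ∨ q = r)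
    (hconj : ∀ u u' : H, orderOf u = 2 → orderOf u' = 2 → IsConj u u')
    (R : Sylow r H) [(R : Subgroup H).Normal] (E : Sylow 2 H) {a b : H}
    (ha : a ∈ (E : Subgroup H)) (hb : b ∈ (E : Subgroup H)) (ha2 : orderOf a = 2)
    (hb2 : orderOf b = 2) : a = b := by
  obtain ⟨z, hz, hz2, hzc⟩ := exists_central_invol E.isPGroup' (fun h => by
    rw [h, Subgroup.mem_bot] at ha
    rw [ha, orderOf_one] at ha2
    omega)
  have key : ∀ c ∈ (E : Subgroup H), orderOf c = 2 → c = z := by
    intro c hc hc2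
    obtain ⟨ε, hε, e⟩ := conj_in_two_sylow hr2 hp R E hz hc (hconj z c hz2 hc2)
    rw [← e, (hzc ε hε).eq]; group
  rw [key a ha ha2, key b hb hb2]

/-- With one class of elements of order two and one of order four, the Sylow `r`-subgroup is not
normal. -/
theorem not_normal_of_four (hr2 : r ≠ 2) (hp : ∀ q : ℕ, q.Prime → q ∣ Nat.card H → q = 2 ∨ q = r)
    (hconj : ∀ u u' : H, orderOf u = 2 → orderOf u' = 2 → IsConj u u')
    (hconj4 : ∀ u u' : H, orderOf u = 4 → orderOf u' = 4 → IsConj u u')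
    (h8 : ∀ u : H, orderOf u ≠ 8) {y : H} (hy : orderOf y = 4) (R : Sylow r H) :
    ¬ (R : Subgroup H).Normal := by
  intro hn
  haveI : Fact (Nat.Prime 2) := ⟨Nat.prime_two⟩
  haveI := Fintype.ofFinite H
  obtain ⟨E, hE⟩ := (IsPGroup.of_card (n := 2)
    (by rw [Nat.card_zpowers, hy]; norm_num : Nat.card (Subgroup.zpowers y) = 2 ^ 2)).exists_le_sylow
  have hyE : y ∈ (E : Subgroup H) := hE (Subgroup.mem_zpowers y)
  let y' : (E : Subgroup H) := ⟨y, hyE⟩
  have hy2 : orderOf (y ^ 2) = 2 := by rw [orderOf_pow' y two_ne_zero, hy]; norm_num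
  have hcover : (Finset.univ : Finset (E : Subgroup H)) ⊆ {1, y' ^ 2} ∪ Hyp.cls y' := by
    rintro ⟨w, hw⟩ -
    obtain ⟨k, hk⟩ := IsPGroup.iff_orderOf.1 E.isPGroup' ⟨w, hw⟩
    rw [Subgroup.orderOf_mk] at hk
    have hk3 : k ≤ 2 := by
      by_contra hlt
      refine h8 (w ^ (orderOf w / 8)) (orderOf_pow_orderOf_div (orderOf_pos w).ne' ?_)
      rw [hk]; exact pow_dvd_pow 2 (show 3 ≤ k by omega)
    simp only [Finset.mem_union, Finset.mem_insert, Finset.mem_singleton, Hyp.cls, Finset.mem_filter,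
      Finset.mem_univ, true_and]
    interval_cases k
    · exact Or.inl (Or.inl (Subtype.ext (orderOf_eq_one_iff.1 (by simpa using hk))))
    · refine Or.inl (Or.inr (Subtype.ext ?_))
      exact unique_invol hr2 hp hconj R E hw (pow_mem hyE 2) (by simpa using hk) hy2
    · refine Or.inr ?_
      obtain ⟨ε, hε, e⟩ := conj_in_two_sylow hr2 hp R E hyE hw (hconj4 y w hy (by simpa using hk))
      exact isConj_iff.2 ⟨⟨ε, hε⟩, Subtype.ext e⟩
  have h := Hyp.card_cls y'
  have h4 : 4 ≤ Nat.card (centralizer ({y'} : Set (E : Subgroup H))) := by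
    rw [← hy, ← Subgroup.orderOf_mk y hyE, ← Nat.card_zpowers]
    exact Nat.le_of_dvd Nat.card_pos (Subgroup.card_dvd_of_le
      (Subgroup.zpowers_le.2 (mem_centralizer_of_commute (Commute.refl y'))))
  have hle := Finset.card_le_card hcover
  rw [Finset.card_univ, ← Nat.card_eq_fintype_card] at hle
  have h2 := Finset.card_union_le ({1, y' ^ 2} : Finset (E : Subgroup H)) (Hyp.cls y')
  have h3 := Finset.card_le_two (a := (1 : (E : Subgroup H))) (b := y' ^ 2)
  have h5 : 4 ≤ Nat.card (E : Subgroup H) := by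
    rw [← hy, ← Nat.card_zpowers]
    exact Nat.le_of_dvd Nat.card_pos (Subgroup.card_dvd_of_le hE)
  have h6 : (Hyp.cls y').card * 4 ≤ Nat.card (E : Subgroup H) :=
    le_of_le_of_eq (Nat.mul_le_mul_left _ h4) h
  omega

/-- A nonnormal abelian Sylow `r`-subgroup puts all involutions into an elementary abelian normal
subgroup. -/
theorem invol_subgroup [Group.IsSolvable H] (hr2 : r ≠ 2)
    (hp : ∀ q : ℕ, q.Prime → q ∣ Nat.card H → q = 2 ∨ q = r) (R : Sylow r H)
    (hR : ∀ a ∈ (R : Subgroup H), ∀ b ∈ (R : Subgroup H), Commute a b)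
    (hn : ¬ (R : Subgroup H).Normal)
    (hconj : ∀ u u' : H, orderOf u = 2 → orderOf u' = 2 → IsConj u u') :
    ∃ V : Subgroup H, V.Normal ∧ (∀ g, g ∈ V ↔ g * g = 1) ∧ V ≠ ⊥ := by
  haveI : Fact (Nat.Prime 2) := ⟨Nat.prime_two⟩
  set O := Cfsg.pPrimeCore r H
  have hOn : O.Normal := Subgroup.sSup_normal _ (fun _ h => h.1)
  have hne : O ≠ ⊥ := by
    intro h
    refine hn ?_
    have hKR : Cfsg.pCore r H ≤ R := Coprime.pCore_le_sylow R
    have hRK : (R : Subgroup H) ≤ Cfsg.pCore r H := fun a ha =>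
      Coprime.centralizer_pCore_le h (mem_centralizer_iff.2 fun b hb => (hR b (hKR hb) a ha).eq)
    rw [le_antisymm hRK hKR]
    exact Coprime.pCore_normal' r
  have hO2 : IsPGroup 2 O := by
    rw [IsPGroup.iff_card]
    refine ⟨_, Nat.eq_prime_pow_of_unique_prime_dvd Nat.card_pos.ne' fun {q} hq hd => ?_⟩
    rcases hp q hq (hd.trans (Subgroup.card_subgroup_dvd_card O)) with rfl | rfl
    · rfl
    · exact absurd hd (Coprime.pPrimeCore_not_dvd hq)
  obtain ⟨z, hzO, hz2, hzc⟩ := exists_central_invol hO2 hne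
  have hcen : ∀ u : H, orderOf u = 2 → u ∈ O ∧ ∀ w ∈ O, Commute w u := by
    intro u hu
    obtain ⟨g, rfl⟩ := isConj_iff.1 (hconj z u hz2 hu)
    refine ⟨hOn.conj_mem _ hzO g, fun w hw => ?_⟩
    have := hzc _ (show g⁻¹ * w * g ∈ O by simpa using hOn.conj_mem w hw g⁻¹)
    show w * (g * z * g⁻¹) = g * z * g⁻¹ * w
    calc w * (g * z * g⁻¹) = g * (g⁻¹ * w * g * z) * g⁻¹ := by group
      _ = g * (z * (g⁻¹ * w * g)) * g⁻¹ := by rw [this.eq]
      _ = g * z * g⁻¹ * w := by group
  have hmul : ∀ a b : H, a * a = 1 → b * b = 1 → a * b * (a * b) = 1 := by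
    intro a b ha hb
    have hc : Commute a b := by
      by_cases h1 : a = 1
      · rw [h1]; exact Commute.one_left b
      by_cases h2 : b = 1
      · rw [h2]; exact Commute.one_right a
      exact (hcen b (orderOf_two hb h2)).2 a (hcen a (orderOf_two ha h1)).1
    rw [show a * b * (a * b) = a * (b * a) * b by group, ← hc.eq,
      show a * (a * b) * b = a * a * (b * b) by group, ha, hb, one_mul]
  refine ⟨{ carrier := {g | g * g = 1}
            mul_mem' := fun {a b} ha hb => hmul a b ha hb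
            one_mem' := one_mul 1
            inv_mem' := fun {a} (ha : a * a = 1) => by
              show a⁻¹ * a⁻¹ = 1
              rw [← mul_inv_rev, ha, inv_one] }, ⟨fun a (ha : a * a = 1) g => ?_⟩, fun g => Iff.rfl,
    fun h => ?_⟩
  · show g * a * g⁻¹ * (g * a * g⁻¹) = 1
    calc g * a * g⁻¹ * (g * a * g⁻¹) = g * (a * a) * g⁻¹ := by group
      _ = 1 := by rw [ha]; group
  · have : z ∈ (⊥ : Subgroup H) := h ▸ invol_sq hz2
    rw [Subgroup.mem_bot.1 this, orderOf_one] at hz2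
    omega

/-- The index of the centralizer of an involution in the same situation. -/
theorem index_centralizer [Group.IsSolvable H] (hr : r = 3 ∨ r = 5)
    (hp : ∀ q : ℕ, q.Prime → q ∣ Nat.card H → q = 2 ∨ q = r) (R : Sylow r H)
    (hR : ∀ a ∈ (R : Subgroup H), ∀ b ∈ (R : Subgroup H), Commute a b)
    (hn : ¬ (R : Subgroup H).Normal)
    (hconj : ∀ u u' : H, orderOf u = 2 → orderOf u' = 2 → IsConj u u') {t : H} (ht : orderOf t = 2) :
    ((centralizer ({t} : Set H)).index = 1 ∨ (r = 3 ∧ (centralizer ({t} : Set H)).index = 3)) ∧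
      ((∀ g : H, orderOf g ≠ 4) → ∀ E : Sylow 2 H,
        Nat.card (E : Subgroup H) = (centralizer ({t} : Set H)).index + 1) := by
  haveI : Fact (Nat.Prime 2) := ⟨Nat.prime_two⟩
  haveI := Fintype.ofFinite H
  obtain ⟨V, hVn, hV, hVne⟩ :=
    invol_subgroup (by rcases hr with rfl | rfl <;> decide) hp R hR hn hconj
  have hV2 : IsPGroup 2 V := fun g => ⟨1, Subtype.ext (by simpa [pow_two] using (hV g).1 g.2)⟩
  obtain ⟨v, hv⟩ := IsPGroup.iff_card.1 hV2
  have hi : (centralizer ({t} : Set H)).index = (Hyp.cls t).card :=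
    Nat.eq_of_mul_eq_mul_right Nat.card_pos
      ((Subgroup.index_mul_card _).trans (Hyp.card_cls t).symm)
  have hcard : (centralizer ({t} : Set H)).index + 1 = Nat.card V := by
    rw [hi, Nat.card_eq_fintype_card, ← Finset.card_univ,
      ← Finset.card_erase_add_one (Finset.mem_univ (1 : V))]
    congr 1
    refine Finset.card_bij (fun z hz => ⟨z, (hV z).2 ?_⟩) ?_ ?_ ?_
    · obtain ⟨g, rfl⟩ := isConj_iff.1 (mem_cls.1 hz)
      rw [← pow_two, conj_pow, pow_two, invol_sq ht]; group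
    · intro z hz
      refine Finset.mem_erase.2 ⟨fun e => ?_, Finset.mem_univ _⟩
      have : z = 1 := congrArg Subtype.val e
      subst this
      have h1 := isConj_one_left.1 (mem_cls.1 hz)
      rw [h1, orderOf_one] at ht
      omega
    · intro a _ b _ e
      exact congrArg Subtype.val e
    · intro z hz
      refine ⟨z, mem_cls.2 (hconj t z ht (orderOf_two ((hV z).1 z.2)
        fun e => (Finset.mem_erase.1 hz).1 (Subtype.ext e))), Subtype.ext rfl⟩
  set k := (centralizer ({t} : Set H)).index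
  have hodd : ¬ 2 ∣ k := by
    intro h
    have hv0 : v ≠ 0 := fun h0 => hVne (Subgroup.card_eq_one.1 (by rw [hv, h0, pow_zero]))
    have h2 : 2 ∣ k + 1 := by rw [hcard, hv]; exact dvd_pow_self 2 hv0
    omega
  obtain ⟨d, hd⟩ : ∃ d, k = r ^ d := ⟨_, Nat.eq_prime_pow_of_unique_prime_dvd
    Subgroup.index_ne_zero_of_finite fun {q} hq hqd => by
      rcases hp q hq (hqd.trans (Subgroup.index_dvd_card _)) with rfl | rfl
      · exact absurd hqd hodd
      · rfl⟩
  refine ⟨?_, fun h4 E => ?_⟩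
  · rcases pow_eq_two_pow_sub_one hr (hd ▸ hcard.trans hv) with h | ⟨h3, h⟩
    · exact Or.inl (hd.trans h)
    · exact Or.inr ⟨h3, hd.trans h⟩
  · rw [hcard]
    haveI := hVn
    have hle : V ≤ E := le_sup_left.trans (E.is_maximal' (hV2.to_sup_of_normal_left E.2) le_sup_right).le
    refine le_antisymm ?_ (Nat.le_of_dvd Nat.card_pos (Subgroup.card_dvd_of_le hle))
    refine Nat.le_of_dvd Nat.card_pos (Subgroup.card_dvd_of_le fun g hg => (hV g).2 ?_)
    obtain ⟨j, hj⟩ := IsPGroup.iff_orderOf.1 E.isPGroup' ⟨g, hg⟩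
    rw [Subgroup.orderOf_mk] at hj
    have hj1 : j ≤ 1 := by
      by_contra hlt
      exact h4 (g ^ (orderOf g / 4)) (orderOf_pow_orderOf_div (orderOf_pos g).ne'
        (hj ▸ pow_dvd_pow 2 (show 2 ≤ j by omega)))
    rw [← pow_two]
    exact orderOf_dvd_iff_pow_eq_one.1 (hj ▸ pow_dvd_pow 2 hj1)

end finite

end CfsgLib.CIT.ThreeSystems
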