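import Mathlib
import Cfsg.Agent.Lib.CIT.ThreeSystems.Pieces

/-!
# Three self-centralizing systems: a group with a central involution and centralizers of order 18

A solvable `{2, 3}`-group with a central involution `t`, elementary Sylow three-subgroup of order nine whose
nontrivial elements are conjugate with centralizers of order 18, and without elements of order 16: it has
order 144 and `t` is not a square.
-/

set_option autoImplicit false
set_option linter.unusedSectionVars false
set_option linter.style.haveILetI false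
set_option linter.style.openClassical false

namespace CfsgLib.CIT.ThreeSystems

open Cfsg Subgroup
open scoped Classical

universe u

variable {H : Type u} [Group H] [Finite H]

/-- The hypotheses. -/
structure Eighteen (H : Type u) [Group H] where
  t : H
  x : H
  P : Sylow 3 H
  ht : orderOf t = 2
  cen : ∀ g : H, Commute g t
  hx : x ∈ (P : Subgroup H)
  hx1 : x ≠ 1
  comm : ∀ a ∈ (P : Subgroup H), ∀ b ∈ (P : Subgroup H), Commute a b
  expo : ∀ a ∈ (P : Subgroup H), a ≠ 1 → orderOf a = 3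
  nine : Nat.card (P : Subgroup H) = 9
  primes : ∀ q : ℕ, q.Prime → q ∣ Nat.card H → q = 2 ∨ q = 3
  conj : ∀ a : H, orderOf a = 3 → IsConj x a
  cent : Nat.card (centralizer ({x} : Set H)) = 18
  no16 : ∀ g : H, orderOf g ≠ 16

namespace Eighteen

variable (E : Eighteen H)

theorem ord_x : orderOf E.x = 3 := E.expo _ E.hx E.hx1

theorem cent_eq (E : Eighteen H) {a : H} (ha : orderOf a = 3) : Nat.card (centralizer ({a} : Set H)) = 18 := by
  haveI := Fintype.ofFinite H
  have h := E.conj a ha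
  have e : Hyp.cls E.x = Hyp.cls a := by
    ext z
    rw [mem_cls, mem_cls]
    exact ⟨h.symm.trans, h.trans⟩
  have h1 := Hyp.card_cls E.x
  rw [e, ← Hyp.card_cls a, E.cent] at h1
  exact (Nat.eq_of_mul_eq_mul_left (Finset.card_pos.2 ⟨a, mem_cls.2 (IsConj.refl a)⟩) h1).symm

/-- A two-element commuting with an element of order three lies in the group of order two. -/
theorem small {g a : H} (hg : IsPGroup 2 (zpowers g)) (ha : orderOf a = 3) (h : Commute g a) :
    g = 1 ∨ g = E.t := by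
  haveI : Fact (Nat.Prime 2) := ⟨Nat.prime_two⟩
  haveI : (zpowers E.t).Normal := ⟨fun z hz w => by
    obtain ⟨i, rfl⟩ := hz
    rw [((E.cen w).zpow_right i).eq, mul_inv_cancel_right]
    exact ⟨i, rfl⟩⟩
  have hK : IsPGroup 2 ↥(zpowers g ⊔ zpowers E.t : Subgroup H) := hg.to_sup_of_normal_right
    (IsPGroup.of_card (n := 1) (by rw [pow_one, Nat.card_zpowers, E.ht]))
  have hle : zpowers g ⊔ zpowers E.t ≤ centralizer ({a} : Set H) :=
    sup_le (zpowers_le.2 (mem_centralizer_of_commute h))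
      (zpowers_le.2 (mem_centralizer_of_commute (E.cen a).symm))
  obtain ⟨i, hi⟩ := IsPGroup.iff_card.1 hK
  have hd := Subgroup.card_dvd_of_le hle
  rw [E.cent_eq ha, hi] at hd
  have hi1 : i ≤ 1 := by
    by_contra hlt
    exact absurd ((pow_dvd_pow 2 (show 2 ≤ i by omega)).trans hd) (by norm_num)
  have heq : zpowers E.t = zpowers g ⊔ zpowers E.t := by
    refine Subgroup.eq_of_le_of_card_ge le_sup_right ?_
    rw [hi, Nat.card_zpowers, E.ht]
    exact Nat.pow_le_pow_right two_pos hi1 |>.trans_eq (pow_one 2)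
  have hgt : g ∈ zpowers E.t := heq ▸ mem_sup_left (mem_zpowers g)
  obtain ⟨j, rfl⟩ := hgt
  show E.t ^ j = 1 ∨ E.t ^ j = E.t
  rw [← zpow_mod_orderOf, E.ht]
  rcases Int.emod_two_eq_zero_or_one j with h | h <;> simp [h]

theorem not_cyclic : ¬ IsCyclic (E.P : Subgroup H) := by
  intro h
  obtain ⟨g, hg⟩ := IsCyclic.exists_ofOrder_eq_natCard (α := (E.P : Subgroup H))
  rw [E.nine, ← Subgroup.orderOf_coe] at hg
  by_cases h1 : (g : H) = 1
  · rw [h1, orderOf_one] at hg; omega
  · rw [E.expo _ g.2 h1] at hg; omega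

theorem normal [Group.IsSolvable H] : (E.P : Subgroup H).Normal := by
  haveI : Fact (Nat.Prime 2) := ⟨Nat.prime_two⟩
  haveI : Fact (Nat.Prime 3) := ⟨Nat.prime_three⟩
  haveI hO : (Cfsg.pCore 2 H).Normal := Coprime.pCore_normal' 2
  haveI hcommP : IsMulCommutative (E.P : Subgroup H) :=
    ⟨⟨fun a b => Subtype.ext (E.comm a a.2 b b.2).eq⟩⟩
  have hO2 : Cfsg.pCore 2 H ≤ zpowers E.t := by
    refine Coprime.le_of_centralizers_le (A := (E.P : Subgroup H)) E.not_cyclic
      (by rw [Subgroup.normalizer_eq_top]; exact le_top) ?_ fun a ha ha1 g hg => ?_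
    · obtain ⟨i, hi⟩ := IsPGroup.iff_card.1 (Coprime.pCore_isPGroup (G := H) 2)
      rw [hi, E.nine]
      exact Nat.Coprime.pow_right _ (by norm_num)
    · rcases E.small ((Coprime.pCore_isPGroup (G := H) 2).to_le (zpowers_le.2 hg.1)) (E.expo a ha ha1)
        (commute_of_mem_centralizer hg.2) with h | h <;> rw [h]
      · exact one_mem _
      · exact mem_zpowers _
  have hK : Cfsg.pCore 3 H ≤ E.P := Coprime.pCore_le_sylow E.P
  have hF : Cfsg.fittingSubgroup H ≤ zpowers E.t ⊔ Cfsg.pCore 3 H := by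
    rw [Coprime.fitting_eq_iSup_pCore]
    refine iSup_le fun q => ?_
    haveI : Fact (q : ℕ).Prime := ⟨q.2⟩
    obtain ⟨i, hi⟩ := IsPGroup.iff_card.1 (Coprime.pCore_isPGroup (G := H) (q : ℕ))
    rcases Nat.eq_zero_or_pos i with rfl | hi0
    · rw [pow_zero] at hi
      rw [Subgroup.card_eq_one.1 hi]
      exact bot_le
    rcases E.primes q q.2 ((dvd_pow_self _ hi0.ne').trans (hi ▸ Subgroup.card_subgroup_dvd_card _)) with
      h | h
    · rw [h]; exact hO2.trans le_sup_left
    · rw [h]; exact le_sup_right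
  have hPK : (E.P : Subgroup H) ≤ Cfsg.pCore 3 H := by
    intro a ha
    have hac : a ∈ centralizer (Cfsg.fittingSubgroup H : Set H) := by
      refine mem_centralizer_iff.2 fun b hb => ?_
      haveI : (Cfsg.pCore 3 H).Normal := Coprime.pCore_normal' 3
      obtain ⟨u, ⟨i, rfl⟩, k, hk, rfl⟩ := Subgroup.mem_sup_of_normal_right.1 (hF hb)
      exact (Commute.mul_left ((E.cen a).zpow_right i).symm (E.comm k (hK hk) a ha)).eq
    haveI : (Cfsg.pCore 3 H).Normal := Coprime.pCore_normal' 3
    obtain ⟨u, ⟨i, rfl⟩, k, hk, e⟩ :=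
      Subgroup.mem_sup_of_normal_right.1 (hF (Coprime.centralizer_fitting_le hac))
    have hu : E.t ^ i ∈ (E.P : Subgroup H) := by
      rw [show E.t ^ i = a * k⁻¹ by rw [← e]; group]
      exact mul_mem ha (inv_mem (hK hk))
    have hdisj := IsPGroup.disjoint_of_ne 2 3 (by norm_num) (zpowers E.t) (E.P : Subgroup H)
      (IsPGroup.of_card (n := 1) (by rw [pow_one, Nat.card_zpowers, E.ht])) E.P.isPGroup'
    have h1 : E.t ^ i = 1 := Subgroup.disjoint_def.1 hdisj ⟨i, rfl⟩ hu
    rw [← e]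
    show E.t ^ i * k ∈ _
    rw [h1, one_mul]
    exact hk
  rw [le_antisymm hPK hK]
  exact Coprime.pCore_normal' 3

theorem card_eq (E : Eighteen H) [Group.IsSolvable H] : Nat.card H = 144 := by
  haveI := Fintype.ofFinite H
  haveI : Fact (Nat.Prime 3) := ⟨Nat.prime_three⟩
  have hn := E.normal
  have hcls : (Hyp.cls E.x).card = 8 := by
    have : (Hyp.cls E.x).card = ((Finset.univ : Finset (E.P : Subgroup H)).erase 1).card := by
      refine Finset.card_bij (fun z hz => ⟨z, ?_⟩) ?_ ?_ ?_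
      · obtain ⟨g, rfl⟩ := isConj_iff.1 (mem_cls.1 hz)
        exact hn.conj_mem _ E.hx g
      · intro z hz
        refine Finset.mem_erase.2 ⟨fun e => E.hx1 ?_, Finset.mem_univ _⟩
        obtain ⟨g, hg⟩ := isConj_iff.1 (mem_cls.1 hz)
        have : z = 1 := congrArg Subtype.val e
        rw [← hg] at this
        exact conj_eq_one_iff.1 this
      · intro a _ b _ e
        exact congrArg Subtype.val e
      · intro z hz
        exact ⟨z, mem_cls.2 (E.conj _ (E.expo _ z.2 fun e => (Finset.mem_erase.1 hz).1 (Subtype.ext e))),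
          Subtype.ext rfl⟩
    rw [this, Finset.card_erase_of_mem (Finset.mem_univ _), Finset.card_univ, ← Nat.card_eq_fintype_card,
      E.nine]
  have h := Hyp.card_cls E.x
  rw [hcls, E.cent] at h
  exact h.symm

/-- The structure of a Sylow two-subgroup. -/
theorem two_facts [Group.IsSolvable H] : (∀ g : H, g * g ≠ E.t) ∧
    ∃ v y : H, orderOf v = 2 ∧ orderOf y = 4 ∧ v = y * y ∧ v ≠ E.t ∧
      ∀ a ∈ (E.P : Subgroup H), v * a * v⁻¹ = a⁻¹ := by
  haveI : Fact (Nat.Prime 2) := ⟨Nat.prime_two⟩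
  haveI : Fact (Nat.Prime 3) := ⟨Nat.prime_three⟩
  haveI := Fintype.ofFinite H
  have hn := E.normal
  obtain ⟨T, hT⟩ := (IsPGroup.of_card (n := 1)
    (by rw [pow_one, Nat.card_zpowers, E.ht] : Nat.card (zpowers E.t) = 2 ^ 1)).exists_le_sylow
  have htT : E.t ∈ (T : Subgroup H) := hT (mem_zpowers _)
  have hTcard : Nat.card (T : Subgroup H) = 16 := by
    obtain ⟨i, hi⟩ := IsPGroup.iff_card.1 T.isPGroup'
    have h1 := T.pow_dvd_card_of_pow_dvd_card (n := 4) (by rw [E.card_eq]; norm_num)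
    have h2 := Subgroup.card_subgroup_dvd_card (T : Subgroup H)
    rw [hi] at h1 h2 ⊢
    rw [E.card_eq] at h2
    have : 4 ≤ i := (Nat.pow_dvd_pow_iff_le_right (by norm_num)).1 h1
    have : i ≤ 4 := by
      by_contra hlt
      exact absurd ((pow_dvd_pow 2 (show 5 ≤ i by omega)).trans h2) (by norm_num)
    rw [show i = 4 by omega]; norm_num
  have hTord : ∀ a ∈ (T : Subgroup H), a ^ 8 = 1 := by
    intro a ha
    obtain ⟨k, hk⟩ := IsPGroup.iff_orderOf.1 T.isPGroup' ⟨a, ha⟩
    rw [Subgroup.orderOf_mk] at hk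
    have hk3 : k ≤ 3 := by
      by_contra hlt
      refine E.no16 (a ^ (orderOf a / 16)) (orderOf_pow_orderOf_div (orderOf_pos a).ne' ?_)
      rw [hk]; exact pow_dvd_pow 2 (show 4 ≤ k by omega)
    exact orderOf_dvd_iff_pow_eq_one.1 (hk ▸ pow_dvd_pow 2 hk3)
  have hsmall : ∀ a ∈ (T : Subgroup H), ∀ z ∈ (E.P : Subgroup H), z ≠ 1 → Commute a z → a = 1 ∨ a = E.t :=
    fun a ha z hz hz1 hc => E.small (T.isPGroup'.to_le (zpowers_le.2 ha)) (E.expo z hz hz1) hc
  have ht2 := invol_sq E.ht
  -- elements squaring into the group of order two invert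
  have hinv : ∀ a ∈ (T : Subgroup H), a * a = 1 ∨ a * a = E.t → a ≠ 1 → a ≠ E.t →
      ∀ z ∈ (E.P : Subgroup H), a * z * a⁻¹ = z⁻¹ := by
    intro a ha hsq h1 h2 z hz
    have hb : a * z * a⁻¹ ∈ (E.P : Subgroup H) := hn.conj_mem z hz a
    have hcomm : Commute (a * a) z := by
      rcases hsq with h | h <;> rw [h]
      · exact Commute.one_left z
      · exact (E.cen z).symm
    refine eq_inv_of_mul_eq_one_left ?_
    by_contra hne
    have hc : Commute a (a * z * a⁻¹ * z) := by
      show a * (a * z * a⁻¹ * z) = a * z * a⁻¹ * z * a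
      calc a * (a * z * a⁻¹ * z) = a * a * z * a⁻¹ * z := by group
        _ = z * (a * a) * a⁻¹ * z := by rw [hcomm.eq]
        _ = z * (a * z * a⁻¹) * a := by group
        _ = a * z * a⁻¹ * z * a := by rw [(E.comm z hz _ hb).eq]
    rcases hsmall a ha _ (mul_mem hb hz) hne hc with h | h
    · exact h1 h
    · exact h2 h
  have hcoset : ∀ a ∈ (T : Subgroup H), ∀ b ∈ (T : Subgroup H),
      a * a = 1 ∨ a * a = E.t → a ≠ 1 → a ≠ E.t → b * b = 1 ∨ b * b = E.t → b ≠ 1 → b ≠ E.t →
      b = a ∨ b = a * E.t := by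
    intro a ha b hb sa a1 a2 sb b1 b2
    have hc : Commute (a⁻¹ * b) E.x := by
      have e1 := hinv a ha sa a1 a2 E.x E.hx
      have e2 := hinv b hb sb b1 b2 E.x E.hx
      show a⁻¹ * b * E.x = E.x * (a⁻¹ * b)
      calc a⁻¹ * b * E.x = a⁻¹ * (b * E.x * b⁻¹) * b := by group
        _ = a⁻¹ * (a * E.x * a⁻¹) * b := by rw [e2, e1]
        _ = E.x * (a⁻¹ * b) := by group
    rcases hsmall _ (mul_mem (inv_mem ha) hb) E.x E.hx E.hx1 hc with h | h
    · exact Or.inl (inv_mul_eq_one.1 h).symm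
    · exact Or.inr (inv_mul_eq_iff_eq_mul.1 h)
  -- `t` is not a square in `T`
  have hnsq : ∀ y ∈ (T : Subgroup H), y * y ≠ E.t := by
    intro y hy hyt
    have ht1 : E.t ≠ 1 := fun e => by
      have := E.ht
      rw [e, orderOf_one] at this
      omega
    have y1 : y ≠ 1 := fun e => ht1 (by rw [← hyt, e, one_mul])
    have y2 : y ≠ E.t := fun e => ht1 (by rw [← hyt, e, ht2])
    have hy4 : orderOf y = 4 := by
      refine orderOf_eq_prime_pow (p := 2) (n := 1) ?_ ?_
      · rw [pow_one, pow_two, hyt]; exact ht1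
      · rw [show (2 : ℕ) ^ (1 + 1) = 2 * 2 by norm_num, pow_mul, pow_two y, hyt, pow_two, ht2]
    have hsq : ∀ a ∈ (T : Subgroup H), a ∉ zpowers y → a * a = y ∨ a * a = y⁻¹ := by
      intro a ha hay
      have hnot : ¬ (a * a = 1 ∨ a * a = E.t) := by
        intro h
        have a1 : a ≠ 1 := fun e => hay (by rw [e]; exact one_mem _)
        have a2 : a ≠ E.t := fun e => hay (by rw [e, ← hyt]; exact mul_mem (mem_zpowers y) (mem_zpowers y))
        rcases hcoset y hy a ha (Or.inr hyt) y1 y2 h a1 a2 with e | e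
        · exact hay (e ▸ mem_zpowers y)
        · exact hay (by
            rw [e, ← hyt]
            exact mul_mem (mem_zpowers y) (mul_mem (mem_zpowers y) (mem_zpowers y)))
      set w := a * a with hw
      have hwT : w ∈ (T : Subgroup H) := mul_mem ha ha
      have hw4 : (w * w) * (w * w) = 1 := by
        rw [hw, show a * a * (a * a) * (a * a * (a * a)) = a ^ 8 by simp only [pow_succ, pow_zero, one_mul, mul_assoc]]
        exact hTord a ha
      push Not at hnot
      have ey : y * E.t = y⁻¹ := by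
        rw [eq_inv_iff_mul_eq_one]
        calc y * E.t * y = y * y * E.t := by rw [mul_assoc, (E.cen y).symm.eq, ← mul_assoc]
          _ = 1 := by rw [hyt, ht2]
      have hpick : w = y ∨ w = y * E.t → w = y ∨ w = y⁻¹ := fun h => h.imp_right fun e => e.trans ey
      by_cases h4 : w * w = 1 ∨ w * w = E.t
      · exact hpick (hcoset y hy w hwT (Or.inr hyt) y1 y2 h4 hnot.1 hnot.2)
      · exfalso
        push Not at h4
        rcases hcoset y hy (w * w) (mul_mem hwT hwT) (Or.inr hyt) y1 y2 (Or.inl hw4) h4.1 h4.2 with e | e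
        · rw [e, hyt] at hw4; exact ht1 hw4
        · rw [e, ey, ← mul_inv_rev, hyt, inv_eq_one] at hw4; exact ht1 hw4
    obtain ⟨a₀, ha₀, ha₀y⟩ : ∃ a ∈ (T : Subgroup H), a ∉ zpowers y := by
      by_contra! h
      have := Nat.le_of_dvd Nat.card_pos (Subgroup.card_dvd_of_le (show (T : Subgroup H) ≤ zpowers y from h))
      rw [hTcard, Nat.card_zpowers, hy4] at this
      omega
    have hfix : ∀ c ∈ (T : Subgroup H), c ∉ zpowers y → ∃ d ∈ (T : Subgroup H), d ∉ zpowers y ∧
        d * d = y ∧ zpowers d = zpowers c := by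
      intro c hc hcy
      rcases hsq c hc hcy with h | h
      · exact ⟨c, hc, hcy, h, rfl⟩
      · refine ⟨c⁻¹, inv_mem hc, fun h' => hcy (inv_inv c ▸ inv_mem h'), ?_, zpowers_inv⟩
        rw [← mul_inv_rev, h, inv_inv]
    obtain ⟨a, haT, hay, ha2, -⟩ := hfix a₀ ha₀ ha₀y
    have hyA : zpowers y ≤ zpowers a := zpowers_le.2 (ha2 ▸ mul_mem (mem_zpowers a) (mem_zpowers a))
    obtain ⟨b₀, hb₀, hb₀a⟩ : ∃ b ∈ (T : Subgroup H), b ∉ zpowers a := by
      by_contra! h
      have := Nat.le_of_dvd Nat.card_pos (Subgroup.card_dvd_of_le (show (T : Subgroup H) ≤ zpowers a from h))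
      rw [hTcard, Nat.card_zpowers] at this
      have := Nat.le_of_dvd (by norm_num) (orderOf_dvd_of_pow_eq_one (hTord a haT))
      omega
    obtain ⟨b, hbT, -, hb2, hbz⟩ := hfix b₀ hb₀ fun h => hb₀a (hyA h)
    have hba : b ∉ zpowers a := fun h => hb₀a (zpowers_le.2 h (hbz.symm ▸ mem_zpowers b₀))
    have hab : a * b⁻¹ ∉ zpowers y := fun h => hba (by
      have h' := mul_mem (inv_mem (hyA h)) (mem_zpowers a)
      rwa [show (a * b⁻¹)⁻¹ * a = b by group] at h')
    set s := a * b⁻¹ * (a * b⁻¹) with hs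
    have hs' := hsq _ (mul_mem haT (inv_mem hbT)) hab
    have hay' : Commute a y := by rw [← ha2]; exact (Commute.refl a).mul_right (Commute.refl a)
    have hby : Commute b y := by rw [← hb2]; exact (Commute.refl b).mul_right (Commute.refl b)
    have hsy : Commute s y ∧ Commute a s := by
      rcases hs' with h | h <;> rw [← hs] at h <;> rw [h]
      · exact ⟨Commute.refl y, hay'⟩
      · exact ⟨(Commute.refl y).inv_left, hay'.inv_right⟩
    have hφ : b⁻¹ * a * b = a * s := by
      calc b⁻¹ * a * b = a⁻¹ * s * y := by rw [hs, ← hb2]; group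
        _ = a⁻¹ * (y * s) := by rw [mul_assoc, hsy.1.eq]
        _ = a * s := by rw [← ha2]; group
    have hφ2 : (a * s) * (a * s) = y := by
      rw [← hφ, show b⁻¹ * a * b * (b⁻¹ * a * b) = b⁻¹ * (a * a) * b by group, ha2, mul_assoc,
        ← hby.eq, inv_mul_cancel_left]
    have hss : s * s = E.t := by
      rcases hs' with h | h <;> rw [← hs] at h <;> rw [h]
      · exact hyt
      · rw [← mul_inv_rev, hyt, invol_inv E.ht]
    rw [show a * s * (a * s) = a * (s * a) * s by group, ← hsy.2.eq,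
      show a * (a * s) * s = a * a * (s * s) by group, ha2, hss] at hφ2
    exact ht1 (mul_eq_left.1 hφ2)
  refine ⟨fun g hg => ?_, ?_⟩
  · have hg4 : g ^ (2 ^ 2) = 1 := by
      rw [show (2 : ℕ) ^ 2 = 2 * 2 by norm_num, pow_mul, pow_two g, hg, pow_two, ht2]
    obtain ⟨i, -, hi⟩ := (Nat.dvd_prime_pow Nat.prime_two).1 (orderOf_dvd_of_pow_eq_one hg4)
    obtain ⟨S, hS⟩ := (IsPGroup.of_card (n := i)
      (by rw [Nat.card_zpowers, hi] : Nat.card (zpowers g) = 2 ^ i)).exists_le_sylow
    obtain ⟨w, hw⟩ := MulAction.exists_smul_eq H S T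
    refine hnsq (w * g * w⁻¹)
      (hw ▸ Subgroup.smul_mem_pointwise_smul g (MulAut.conj w) _ (hS (mem_zpowers g))) ?_
    rw [show w * g * w⁻¹ * (w * g * w⁻¹) = w * (g * g) * w⁻¹ by group, hg, (E.cen w).eq,
      mul_inv_cancel_right]
  · obtain ⟨a, haT, ha4⟩ : ∃ a ∈ (T : Subgroup H), a * a ≠ 1 := by
      by_contra! h
      have hall : ∀ b ∈ (T : Subgroup H), b = 1 ∨ b = E.t ∨ (b ≠ 1 ∧ b ≠ E.t) := fun b _ => by tauto
      obtain ⟨a, ha, ha'⟩ : ∃ a ∈ (T : Subgroup H), a ∉ zpowers E.t := by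
        by_contra! h'
        have := Nat.le_of_dvd Nat.card_pos
          (Subgroup.card_dvd_of_le (show (T : Subgroup H) ≤ zpowers E.t from h'))
        rw [hTcard, Nat.card_zpowers, E.ht] at this
        omega
      have a1 : a ≠ 1 := fun e => ha' (e ▸ one_mem _)
      have a2 : a ≠ E.t := fun e => ha' (e ▸ mem_zpowers _)
      have hsub : (T : Subgroup H) ≤ zpowers E.t ⊔ zpowers a := by
        intro b hb
        rcases hall b hb with rfl | rfl | ⟨b1, b2⟩
        · exact one_mem _
        · exact mem_sup_left (mem_zpowers _)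
        · rcases hcoset a ha b hb (Or.inl (h a ha)) a1 a2 (Or.inl (h b hb)) b1 b2 with rfl | rfl
          · exact mem_sup_right (mem_zpowers _)
          · exact mul_mem (mem_sup_right (mem_zpowers _)) (mem_sup_left (mem_zpowers _))
      haveI : (zpowers E.t).Normal := ⟨fun z hz w => by
        obtain ⟨i, rfl⟩ := hz
        rw [((E.cen w).zpow_right i).eq, mul_inv_cancel_right]
        exact ⟨i, rfl⟩⟩
      have hcard : Nat.card ↥(zpowers E.t ⊔ zpowers a) ≤ 4 := by
        have h2a : orderOf a = 2 := orderOf_two (h a ha) a1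
        have hsur : Function.Surjective (fun p : zpowers E.t × zpowers a =>
            (⟨(p.1 : H) * p.2, mul_mem (mem_sup_left p.1.2) (mem_sup_right p.2.2)⟩ :
              ↥(zpowers E.t ⊔ zpowers a))) := by
          rintro ⟨b, hb⟩
          obtain ⟨u, hu, w, hw, rfl⟩ := Subgroup.mem_sup_of_normal_left.1 hb
          exact ⟨(⟨u, hu⟩, ⟨w, hw⟩), rfl⟩
        refine (Nat.card_le_card_of_surjective _ hsur).trans ?_
        rw [Nat.card_prod, Nat.card_zpowers, Nat.card_zpowers, E.ht, h2a]
      have := Nat.le_of_dvd Nat.card_pos (Subgroup.card_dvd_of_le hsub)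
      omega
    obtain ⟨k, hk⟩ := IsPGroup.iff_orderOf.1 T.isPGroup' ⟨a, haT⟩
    rw [Subgroup.orderOf_mk] at hk
    have hk2 : 2 ≤ k := by
      by_contra hlt
      refine ha4 ?_
      rw [← pow_two]
      exact orderOf_dvd_iff_pow_eq_one.1 (hk ▸ (pow_dvd_pow 2 (show k ≤ 1 by omega)))
    set y := a ^ (orderOf a / 4)
    have hy4 : orderOf y = 4 := orderOf_pow_orderOf_div (orderOf_pos a).ne'
      (hk ▸ pow_dvd_pow 2 hk2)
    have hyT : y ∈ (T : Subgroup H) := pow_mem haT _
    have hv : orderOf (y * y) = 2 := by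
      rw [← pow_two, orderOf_pow' y two_ne_zero, hy4]; norm_num
    have hvt := hnsq y hyT
    refine ⟨y * y, y, hv, hy4, rfl, hvt,
      hinv _ (mul_mem hyT hyT) (Or.inl (invol_sq hv)) (fun e => ?_) hvt⟩
    rw [e, orderOf_one] at hv
    omega

end Eighteen

end CfsgLib.CIT.ThreeSystems
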