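import Mathlib
import Cfsg.Agent.Lib.CIT.ThreeSystems.Counting

/-!
# Three self-centralizing systems: the columns of the character table

With the exceptional characters of the three subgroups chosen, the column of a nontrivial element of
`A i` consists of one family and the integers `c i ψ`.  All orthogonality relations are rewritten in these
integers; `others` is the set of the characters outside the families and different from the principal one,
and its cardinality is the number of classes of remaining elements.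
-/

set_option autoImplicit false
set_option linter.unusedSectionVars false
set_option linter.style.haveILetI false
set_option linter.style.openClassical false

namespace CfsgLib.CIT.ThreeSystems

open scoped ComplexConjugate Classical
open Cfsg CfsgLib.Char

universe u

variable {G : Type u} [Group G] [Fintype G]

noncomputable local instance (A : Subgroup G) : Fintype (Exc A) := Fintype.ofFinite _

/-- A choice of exceptional characters. -/
structure Coh (G : Type u) [Group G] [Fintype G] extends Hyp G where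
  dx : ∀ i, ExcData (A i)

theorem Hyp.exists_coh (D : Hyp G) : ∃ C : Coh G, C.toHyp = D :=
  ⟨⟨D, fun i => (nonempty_excData (D.A i) (D.self i) (D.comm i)).some⟩, rfl⟩

/-- An element meeting no conjugate of `A i` outside the identity. -/
def Hyp.Off (D : Hyp G) (i : Fin 3) (g : G) : Prop := ∀ y : G, y * g * y⁻¹ ∈ D.A i → y * g * y⁻¹ = 1

theorem Hyp.off_one (D : Hyp G) (i : Fin 3) : D.Off i 1 := fun y _ => by group

theorem Hyp.off_rest (D : Hyp G) {g : G} (h : D.Rest g) (i : Fin 3) : D.Off i g :=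
  fun y hy => absurd hy (h.2 i y)

theorem Hyp.off_of_mem (D : Hyp G) {i j : Fin 3} (hij : i ≠ j) {a : G} (ha : a ∈ D.A j) : D.Off i a := by
  intro y hy
  by_contra h
  exact hij (D.eq_of_conj_mem ha (fun e => h (conj_eq_one_iff.2 e)) hy).symm

theorem not_isConj_of_off {D : Hyp G} {i : Fin 3} {a g : G} (ha : a ∈ D.A i) (h1 : a ≠ 1)
    (hg : D.Off i g) : ¬ IsConj a g := by
  intro h
  obtain ⟨x, hx⟩ := isConj_iff.1 h.symm
  exact h1 (hx ▸ hg x (hx ▸ ha))

namespace Coh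

variable (C : Coh G)

theorem exists_cval (i : Fin 3) (ψ : IrrCharacter G) :
    ∃ c : ℤ, ∀ k : ↥(Subgroup.normalizer (C.A i : Set G)), (k : G) ∈ C.A i → k ≠ 1 →
      (∀ χ : Exc (C.A i), (C.dx i).θ χ = ψ → (ψ : G → ℂ) k =
        ((C.dx i).ε : ℂ) * (χ.1 : ↥(Subgroup.normalizer (C.A i : Set G)) → ℂ) k + c) ∧
      ((∀ χ : Exc (C.A i), (C.dx i).θ χ ≠ ψ) → (ψ : G → ℂ) k = c) := by
  obtain ⟨a, ha, h1⟩ := C.exists_ne_one i
  haveI : Nontrivial (C.A i) := ⟨⟨⟨a, ha⟩, 1, fun e => h1 (congrArg Subtype.val e)⟩⟩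
  exact exists_const_value (C.A i) (C.self i) (C.comm i) (C.dx i) ψ

/-- The constant of `ψ` on the nontrivial elements of `A i`. -/
noncomputable def c (i : Fin 3) (ψ : IrrCharacter G) : ℤ := (C.exists_cval i ψ).choose

/-- The exceptional family. -/
noncomputable def fam (i : Fin 3) : Finset (IrrCharacter G) :=
  Finset.univ.image (C.dx i).θ

theorem mem_fam {i : Fin 3} {ψ : IrrCharacter G} :
    ψ ∈ C.fam i ↔ ∃ χ, (C.dx i).θ χ = ψ := by
  simp [fam]

theorem val_off {i : Fin 3} {ψ : IrrCharacter G} (hψ : ψ ∉ C.fam i) {a : G} (ha : a ∈ C.A i)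
    (h1 : a ≠ 1) : (ψ : G → ℂ) a = C.c i ψ :=
  ((C.exists_cval i ψ).choose_spec ⟨a, Subgroup.le_normalizer ha⟩ ha
    (fun e => h1 (congrArg Subtype.val e))).2 fun χ hχ => hψ (C.mem_fam.2 ⟨χ, hχ⟩)

theorem val_fam {i : Fin 3} (χ : Exc (C.A i)) {k : ↥(Subgroup.normalizer (C.A i : Set G))}
    (hk : (k : G) ∈ C.A i) (h1 : k ≠ 1) : ((C.dx i).θ χ : G → ℂ) k =
      ((C.dx i).ε : ℂ) * (χ.1 : ↥(Subgroup.normalizer (C.A i : Set G)) → ℂ) k + C.c i ((C.dx i).θ χ) :=
  ((C.exists_cval i ((C.dx i).θ χ)).choose_spec k hk h1).1 χ rfl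

theorem card_fam (i : Fin 3) : (C.fam i).card = C.m i := by
  rw [fam, Finset.card_image_of_injective _ (C.dx i).inj, Finset.card_univ, ← Nat.card_eq_fintype_card,
    C.card_exc']

theorem nontrivial_exc (i : Fin 3) : Nontrivial (Exc (C.A i)) := by
  have h := C.two_le_m i
  rw [← C.card_exc' i] at h
  exact Finite.one_lt_card_iff_nontrivial.1 h

theorem sign_sq (i : Fin 3) : (C.dx i).ε * (C.dx i).ε = 1 := by
  rcases (C.dx i).sign with h | h <;> rw [h] <;> norm_num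

theorem eval_diff {i : Fin 3} (χ ξ : Exc (C.A i)) (x : G) :
    indFun (Subgroup.normalizer (C.A i : Set G))
      ((χ.1 : ↥(Subgroup.normalizer (C.A i : Set G)) → ℂ) -
        (ξ.1 : ↥(Subgroup.normalizer (C.A i : Set G)) → ℂ)) x =
      ((C.dx i).ε : ℂ) * (((C.dx i).θ χ : G → ℂ) x - ((C.dx i).θ ξ : G → ℂ) x) := by
  rw [(C.dx i).ind]; rfl

theorem fam_agree {i : Fin 3} {ψ ψ' : IrrCharacter G} (h : ψ ∈ C.fam i) (h' : ψ' ∈ C.fam i) {g : G}
    (hg : C.Off i g) : (ψ : G → ℂ) g = (ψ' : G → ℂ) g := by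
  obtain ⟨χ, rfl⟩ := C.mem_fam.1 h
  obtain ⟨ξ, rfl⟩ := C.mem_fam.1 h'
  have e := exc_diff_vanish (C.A i) (C.self i) (C.comm i) χ ξ g hg
  rw [C.eval_diff] at e
  have hε : ((C.dx i).ε : ℂ) ≠ 0 := by
    rcases (C.dx i).sign with h | h <;> rw [h] <;> norm_num
  exact sub_eq_zero.1 ((mul_eq_zero.1 e).resolve_left hε)

theorem c_fam {i : Fin 3} (χ ξ : Exc (C.A i)) :
    C.c i ((C.dx i).θ χ) = C.c i ((C.dx i).θ ξ) := by
  obtain ⟨a, ha, h1⟩ := C.exists_ne_one i
  let k : ↥(Subgroup.normalizer (C.A i : Set G)) := ⟨a, Subgroup.le_normalizer ha⟩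
  have hk1 : k ≠ 1 := fun e => h1 (congrArg Subtype.val e)
  have e := exc_diff_ind (C.A i) (C.self i) (C.comm i) χ ξ k
  rw [C.eval_diff, C.val_fam χ ha hk1, C.val_fam ξ ha hk1] at e
  have hs : ((C.dx i).ε : ℂ) * (C.dx i).ε = 1 := by exact_mod_cast C.sign_sq i
  have h0 : ((C.dx i).ε : ℂ) * ((C.c i ((C.dx i).θ χ) : ℂ) - C.c i ((C.dx i).θ ξ)) = 0 := by
    linear_combination e - ((χ.1 : ↥(Subgroup.normalizer (C.A i : Set G)) → ℂ) k -
      (ξ.1 : ↥(Subgroup.normalizer (C.A i : Set G)) → ℂ) k) * hs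
  have hε : ((C.dx i).ε : ℂ) ≠ 0 := by
    rcases (C.dx i).sign with h | h <;> rw [h] <;> norm_num
  exact_mod_cast sub_eq_zero.1 ((mul_eq_zero.1 h0).resolve_left hε)

/-- A member of the family. -/
noncomputable def eta (i : Fin 3) : IrrCharacter G :=
  haveI := C.nontrivial_exc i
  (C.dx i).θ (Classical.arbitrary _)

theorem eta_mem (i : Fin 3) : C.eta i ∈ C.fam i := C.mem_fam.2 ⟨_, rfl⟩

/-- The additive constant of a family on its own subgroup. -/
noncomputable def a0 (i : Fin 3) : ℤ := C.c i (C.eta i)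

theorem c_eq_a0 {i : Fin 3} (χ : Exc (C.A i)) : C.c i ((C.dx i).θ χ) = C.a0 i := C.c_fam _ _

/-- The sum of the values of a family on its own subgroup. -/
noncomputable def e (i : Fin 3) : ℤ := C.m i * C.a0 i - (C.dx i).ε

/-- The sum of the squares of the other values on `A i`. -/
noncomputable def B (i : Fin 3) : ℤ := wt i + 2 * (C.dx i).ε * C.a0 i - C.m i * C.a0 i ^ 2

theorem sum_fam {i : Fin 3} {a : G} (ha : a ∈ C.A i) (h1 : a ≠ 1) :
    ∑ ψ ∈ C.fam i, (ψ : G → ℂ) a = (C.e i : ℂ) ∧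
      ∑ ψ ∈ C.fam i, (ψ : G → ℂ) a * conj ((ψ : G → ℂ) a) = (C.n i : ℂ) - C.B i := by
  let k : ↥(Subgroup.normalizer (C.A i : Set G)) := ⟨a, Subgroup.le_normalizer ha⟩
  have hk1 : k ≠ 1 := fun e => h1 (congrArg Subtype.val e)
  obtain ⟨h1', h2'⟩ := sum_exc_column (C.A i) (C.self i) (C.comm i) (k := k) ha hk1
  have hconj : ∑ χ : Exc (C.A i), conj ((χ.1 : ↥(Subgroup.normalizer (C.A i : Set G)) → ℂ) k) = -1 := by
    rw [← map_sum, h1', map_neg, map_one]
  have hcard : (Fintype.card (Exc (C.A i)) : ℂ) = (C.m i : ℂ) := by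
    rw [← Nat.card_eq_fintype_card, C.card_exc']
  have hv : ∀ χ : Exc (C.A i), ((C.dx i).θ χ : G → ℂ) a =
      ((C.dx i).ε : ℂ) * (χ.1 : ↥(Subgroup.normalizer (C.A i : Set G)) → ℂ) k + C.a0 i := fun χ => by
    rw [← C.c_eq_a0 χ]; exact C.val_fam χ ha hk1
  have hw : (excIndex (C.A i) : ℂ) = (wt i : ℂ) := by
    rw [show excIndex (C.A i) = wt i from C.index i]
  rw [fam, Finset.sum_image fun x _ y _ h => (C.dx i).inj h,
    Finset.sum_image fun x _ y _ h => (C.dx i).inj h]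
  refine ⟨?_, ?_⟩
  · simp only [hv, Finset.sum_add_distrib, ← Finset.mul_sum, h1', Finset.sum_const, Finset.card_univ,
      nsmul_eq_mul, hcard, e]
    push_cast; ring
  · have hs : ((C.dx i).ε : ℂ) * (C.dx i).ε = 1 := by exact_mod_cast C.sign_sq i
    simp only [hv, map_add, map_mul, map_intCast]
    rw [Finset.sum_congr rfl (g := fun χ : Exc (C.A i) =>
      (χ.1 : ↥(Subgroup.normalizer (C.A i : Set G)) → ℂ) k *
          conj ((χ.1 : ↥(Subgroup.normalizer (C.A i : Set G)) → ℂ) k) +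
        ((C.dx i).ε * C.a0 i : ℂ) * ((χ.1 : ↥(Subgroup.normalizer (C.A i : Set G)) → ℂ) k +
          conj ((χ.1 : ↥(Subgroup.normalizer (C.A i : Set G)) → ℂ) k)) + (C.a0 i : ℂ) ^ 2)
      fun χ _ => by linear_combination ((χ.1 : ↥(Subgroup.normalizer (C.A i : Set G)) → ℂ) k *
        conj ((χ.1 : ↥(Subgroup.normalizer (C.A i : Set G)) → ℂ) k)) * hs]
    rw [Finset.sum_add_distrib, Finset.sum_add_distrib, ← Finset.mul_sum, Finset.sum_add_distrib, h1',
      hconj, h2', Finset.sum_const, Finset.card_univ, nsmul_eq_mul, hcard, hw]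
    simp only [B, Hyp.n]
    push_cast; ring

theorem e_ne_zero (i : Fin 3) : C.e i ≠ 0 := by
  have h2 : (2 : ℤ) ≤ C.m i := by exact_mod_cast C.two_le_m i
  intro h
  have : (C.m i : ℤ) ∣ (C.dx i).ε := ⟨C.a0 i, by unfold e at h; linarith⟩
  rcases (C.dx i).sign with hs | hs <;> rw [hs] at this
  · have := Int.le_of_dvd one_pos this; omega
  · have := Int.le_of_dvd one_pos (dvd_neg.1 this); omega

theorem B_le (i : Fin 3) : C.B i ≤ wt i := by
  have h2 : (2 : ℤ) ≤ C.m i := by exact_mod_cast C.two_le_m i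
  unfold B
  rcases (C.dx i).sign with hs | hs <;> rw [hs] <;>
  · rcases lt_trichotomy (C.a0 i) 0 with h | h | h <;> nlinarith

theorem eq_zero_or_of_B_eq {i : Fin 3} (h : C.B i = wt i) : C.e i = 1 ∨ C.e i = -1 := by
  unfold B at h
  have h' : C.a0 i * (2 * (C.dx i).ε - C.m i * C.a0 i) = 0 := by linarith
  unfold e
  rcases mul_eq_zero.1 h' with h0 | h0
  · rw [h0, mul_zero, zero_sub]
    rcases (C.dx i).sign with hs | hs <;> rw [hs] <;> norm_num
  · have : (C.m i : ℤ) * C.a0 i = 2 * (C.dx i).ε := by linarith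
    rw [this]
    rcases (C.dx i).sign with hs | hs <;> rw [hs] <;> norm_num

theorem e_odd {i : Fin 3} (h : C.m i = 2) : Odd (C.e i) := by
  unfold e
  rcases (C.dx i).sign with hs | hs <;> rw [hs, h]
  · exact ⟨C.a0 i - 1, by push_cast; ring⟩
  · exact ⟨C.a0 i, by push_cast; ring⟩

theorem exists_irr_const_ne {i : Fin 3} (χ : Exc (C.A i)) :
    ∃ a ∈ C.A i, ∃ b ∈ C.A i, a ≠ 1 ∧ b ≠ 1 ∧
      ((C.dx i).θ χ : G → ℂ) a ≠ ((C.dx i).θ χ : G → ℂ) b := by
  by_contra! h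
  obtain ⟨a, ha, h1⟩ := C.exists_ne_one i
  set N' := Subgroup.normalizer (C.A i : Set G) with hN'
  set K := (C.A i).subgroupOf N' with hK
  haveI : K.Normal := Subgroup.normal_in_normalizer
  let k₀ : ↥N' := ⟨a, Subgroup.le_normalizer ha⟩
  have hk₀1 : k₀ ≠ 1 := fun e => h1 (congrArg Subtype.val e)
  have hε : ((C.dx i).ε : ℂ) ≠ 0 := by
    rcases (C.dx i).sign with h | h <;> rw [h] <;> norm_num
  have hconst : ∀ x : ↥K, x ≠ 1 → (χ.1 : ↥N' → ℂ) x = (χ.1 : ↥N' → ℂ) k₀ := by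
    intro x hx
    have hx1 : (x : ↥N') ≠ 1 := fun e => hx (Subtype.ext e)
    have e1 := C.val_fam χ (k := x) x.2 hx1
    have e2 := C.val_fam χ (k := k₀) ha hk₀1
    have e3 := h _ x.2 a ha (fun e => hx1 (Subtype.ext e)) h1
    exact mul_left_cancel₀ hε (add_right_cancel (e1.symm.trans (e3.trans e2)))
  haveI := Fintype.ofFinite ↥N'
  haveI := Fintype.ofFinite ↥K
  obtain ⟨s, hs⟩ := int_of_const_generalized (H := ↥K)
    (f := fun x : ↥K => (χ.1 : ↥N' → ℂ) x)
    (isGeneralizedCharacter_comp (isGeneralizedCharacter_of_isCharacter (isCharacter_irr χ.1)) K.subtype)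
    (k := ⟨k₀, ha⟩) (fun e => hk₀1 (congrArg Subtype.val e)) hconst
  have hsum := sum_subgroup_eq_zero_of_nonconst K
    (exc_data (C.A i) fun k hk h => (C.self i k hk h).le).1 χ.1.2
    (χ.2.imp fun _ h => h)
  rw [← Finset.add_sum_erase _ _ (Finset.mem_univ (1 : ↥K)),
    Finset.sum_congr rfl (g := fun _ => (s : ℂ)) (fun x hx => by
      rw [hconst x (Finset.mem_erase.1 hx).1]; exact hs),
    Finset.sum_const, Finset.card_erase_of_mem (Finset.mem_univ _), Finset.card_univ, nsmul_eq_mul,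
    ← Nat.card_eq_fintype_card,
    Nat.card_congr (Subgroup.subgroupOfEquivOfLe (Subgroup.le_normalizer (H := C.A i))).toEquiv] at hsum
  simp only [OneMemClass.coe_one] at hsum
  rw [exc_degree (C.A i) (C.self i) (C.comm i) χ, show excIndex (C.A i) = wt i from C.index i,
    show Nat.card (C.A i) - 1 = wt i * C.m i by have := C.n_eq i; unfold Hyp.n at this; omega] at hsum
  have h0 : ((wt i : ℤ) * (1 + C.m i * s) : ℤ) = 0 := by
    have : ((((wt i : ℤ) * (1 + C.m i * s) : ℤ)) : ℂ) = 0 := by push_cast at hsum ⊢; linear_combination hsum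
    exact_mod_cast this
  have hw : (0 : ℤ) < wt i := by exact_mod_cast wt_pos i
  have h1' : (1 : ℤ) + C.m i * s = 0 := (mul_eq_zero.1 h0).resolve_left hw.ne'
  have h2 : (2 : ℤ) ≤ C.m i := by exact_mod_cast C.two_le_m i
  have := Int.le_of_dvd one_pos (⟨-s, by linarith⟩ : (C.m i : ℤ) ∣ 1)
  omega

theorem fam_distinct {i : Fin 3} {χ ξ : Exc (C.A i)}
    (h : ∀ a ∈ C.A i, a ≠ 1 → ((C.dx i).θ χ : G → ℂ) a = ((C.dx i).θ ξ : G → ℂ) a) : χ = ξ := by
  have hε : ((C.dx i).ε : ℂ) ≠ 0 := by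
    rcases (C.dx i).sign with h | h <;> rw [h] <;> norm_num
  refine Subtype.ext (Subtype.ext (funext fun x => ?_))
  by_cases hx : (x : G) ∈ C.A i
  · rcases eq_or_ne x 1 with rfl | hx1
    · rw [exc_degree (C.A i) (C.self i) (C.comm i) χ, exc_degree (C.A i) (C.self i) (C.comm i) ξ]
    · have e := h x hx (fun e => hx1 (Subtype.ext e))
      rw [C.val_fam χ hx hx1, C.val_fam ξ hx hx1, C.c_fam χ ξ] at e
      exact mul_left_cancel₀ hε (add_right_cancel e)
  · rw [exc_vanish (C.A i) (C.self i) (C.comm i) χ x hx, exc_vanish (C.A i) (C.self i) (C.comm i) ξ x hx]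

theorem fam_disjoint {i j : Fin 3} (hij : i ≠ j) : Disjoint (C.fam i) (C.fam j) := by
  refine Finset.disjoint_left.2 fun ψ hi hj => ?_
  obtain ⟨χ, hχ⟩ := C.mem_fam.1 hj
  obtain ⟨ψ', hψ', hne⟩ : ∃ ψ' ∈ C.fam i, ψ' ≠ ψ :=
    Finset.exists_mem_ne (by rw [C.card_fam]; exact C.two_le_m i) ψ
  by_cases hj' : ψ' ∈ C.fam j
  · obtain ⟨ξ, hξ⟩ := C.mem_fam.1 hj'
    refine hne ?_
    rw [← hξ, ← hχ, C.fam_distinct (χ := ξ) (ξ := χ) fun a ha _ => ?_]
    rw [hξ, hχ]
    exact C.fam_agree hψ' hi (C.off_of_mem hij ha)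
  · obtain ⟨a, ha, b, hb, ha1, hb1, hne'⟩ := C.exists_irr_const_ne χ
    refine hne' ?_
    rw [hχ, C.fam_agree hi hψ' (C.off_of_mem hij ha), C.fam_agree hi hψ' (C.off_of_mem hij hb),
      C.val_off hj' ha ha1, C.val_off hj' hb hb1]

theorem c_agree {i j : Fin 3} (hij : j ≠ i) {ψ : IrrCharacter G} (hψ : ψ ∈ C.fam j) :
    C.c i ψ = C.c i (C.eta j) := by
  obtain ⟨a, ha, h1⟩ := C.exists_ne_one i
  have e := C.fam_agree hψ (C.eta_mem j) (C.off_of_mem hij ha)
  rw [C.val_off (Finset.disjoint_left.1 (C.fam_disjoint hij) hψ) ha h1,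
    C.val_off (Finset.disjoint_left.1 (C.fam_disjoint hij) (C.eta_mem j)) ha h1] at e
  exact_mod_cast e

/-- The principal character. -/
noncomputable def one (_ : Coh G) : IrrCharacter G := ⟨fun _ => 1, isIrrCharacter_one⟩

theorem one_notMem_fam (i : Fin 3) : C.one ∉ C.fam i := by
  intro h
  obtain ⟨χ, hχ⟩ := C.mem_fam.1 h
  haveI := C.nontrivial_exc i
  exact exc_not_one (C.A i) (C.self i) (C.comm i) (C.dx i) χ (congrArg Subtype.val hχ)

theorem c_one (i : Fin 3) : C.c i C.one = 1 := by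
  obtain ⟨a, ha, h1⟩ := C.exists_ne_one i
  have e := C.val_off (C.one_notMem_fam i) ha h1
  have : ((C.c i C.one : ℤ) : ℂ) = ((1 : ℤ) : ℂ) := by rw [← e, Int.cast_one]; rfl
  exact_mod_cast this

/-- The characters outside the families, the principal one excepted. -/
noncomputable def others : Finset (IrrCharacter G) :=
  haveI := Fintype.ofFinite (IrrCharacter G)
  Finset.univ.filter fun ψ => ψ ≠ C.one ∧ ∀ i, ψ ∉ C.fam i

theorem mem_others {ψ : IrrCharacter G} : ψ ∈ C.others ↔ ψ ≠ C.one ∧ ∀ i, ψ ∉ C.fam i := by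
  simp [others]

theorem irr_sum [Fintype (IrrCharacter G)] {R : Type*} [AddCommMonoid R] (f : IrrCharacter G → R) :
    ∑ ψ, f ψ = f C.one + ∑ ψ ∈ C.others, f ψ +
      (∑ ψ ∈ C.fam 0, f ψ + ∑ ψ ∈ C.fam 1, f ψ + ∑ ψ ∈ C.fam 2, f ψ) := by
  have hu : (Finset.univ : Finset (IrrCharacter G)) =
      insert C.one (C.others ∪ (C.fam 0 ∪ C.fam 1 ∪ C.fam 2)) := by
    ext ψ
    simp only [Finset.mem_univ, true_iff, Finset.mem_insert, Finset.mem_union, C.mem_others]
    by_cases h1 : ψ = C.one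
    · exact Or.inl h1
    by_cases h : ∀ i, ψ ∉ C.fam i
    · exact Or.inr (Or.inl ⟨h1, h⟩)
    · push Not at h
      obtain ⟨i, hi⟩ := h
      refine Or.inr (Or.inr ?_)
      fin_cases i
      · exact Or.inl (Or.inl hi)
      · exact Or.inl (Or.inr hi)
      · exact Or.inr hi
  have h1 : C.one ∉ C.others ∪ (C.fam 0 ∪ C.fam 1 ∪ C.fam 2) := by
    simp [mem_others, C.one_notMem_fam]
  have ho : ∀ i, Disjoint C.others (C.fam i) := fun i =>
    Finset.disjoint_left.2 fun ψ h => (C.mem_others.1 h).2 i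
  rw [hu, Finset.sum_insert h1, Finset.sum_union (Finset.disjoint_union_right.2
      ⟨Finset.disjoint_union_right.2 ⟨ho 0, ho 1⟩, ho 2⟩),
    Finset.sum_union (Finset.disjoint_union_left.2
      ⟨C.fam_disjoint (by decide), C.fam_disjoint (by decide)⟩),
    Finset.sum_union (C.fam_disjoint (by decide))]
  exact (add_assoc _ _ _).symm

/-- The number of other characters is the number of classes of remaining elements. -/
theorem card_others : C.others.card = C.R := by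
  haveI := Fintype.ofFinite (IrrCharacter G)
  have h := C.irr_sum fun _ => 1
  simp only [Finset.sum_const, smul_eq_mul, mul_one, Finset.card_univ, C.card_fam] at h
  rw [← Nat.card_eq_fintype_card, card_irr_eq_card_conjClasses, C.card_classes] at h
  omega

/-- Column orthogonality outside the three subgroups. -/
theorem inner_off [Fintype (IrrCharacter G)] {g h : G} (hg : ∀ i, C.Off i g) (hh : ∀ i, C.Off i h) :
    ∑ ψ : IrrCharacter G, (ψ : G → ℂ) g * conj ((ψ : G → ℂ) h) =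
      1 + ∑ ψ ∈ C.others, (ψ : G → ℂ) g * conj ((ψ : G → ℂ) h) +
        ∑ i, (C.m i : ℂ) * ((C.eta i : G → ℂ) g * conj ((C.eta i : G → ℂ) h)) := by
  rw [C.irr_sum, Fin.sum_univ_three]
  have hf : ∀ i, ∑ ψ ∈ C.fam i, (ψ : G → ℂ) g * conj ((ψ : G → ℂ) h) =
      (C.m i : ℂ) * ((C.eta i : G → ℂ) g * conj ((C.eta i : G → ℂ) h)) := fun i => by
    rw [Finset.sum_congr rfl fun ψ hψ => by
      rw [C.fam_agree hψ (C.eta_mem i) (hg i), C.fam_agree hψ (C.eta_mem i) (hh i)],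
      Finset.sum_const, C.card_fam, nsmul_eq_mul]
  rw [hf, hf, hf]
  simp [one]

theorem sum_fam_off {i : Fin 3} {g : G} (hg : C.Off i g) {a : G} (ha : a ∈ C.A i) (h1 : a ≠ 1) :
    ∑ ψ ∈ C.fam i, (ψ : G → ℂ) a * conj ((ψ : G → ℂ) g) = (C.e i : ℂ) * conj ((C.eta i : G → ℂ) g) := by
  rw [Finset.sum_congr rfl fun ψ hψ => by rw [C.fam_agree hψ (C.eta_mem i) hg], ← Finset.sum_mul,
    (C.sum_fam ha h1).1]

theorem sum_fam_const {i j : Fin 3} (hij : j ≠ i) {g : G} (hg : C.Off j g) {a : G} (ha : a ∈ C.A i)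
    (h1 : a ≠ 1) : ∑ ψ ∈ C.fam j, (ψ : G → ℂ) a * conj ((ψ : G → ℂ) g) =
      (C.m j : ℂ) * C.c i (C.eta j) * conj ((C.eta j : G → ℂ) g) := by
  rw [Finset.sum_congr rfl (g := fun _ => (C.c i (C.eta j) : ℂ) * conj ((C.eta j : G → ℂ) g))
    fun ψ hψ => by rw [C.fam_agree hψ (C.eta_mem j) hg,
      C.val_off (Finset.disjoint_left.1 (C.fam_disjoint hij) hψ) ha h1, C.c_agree hij hψ],
    Finset.sum_const, C.card_fam, nsmul_eq_mul, mul_assoc]

/-- The relation given by a column of `A i` at an element outside the three subgroups. -/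
theorem relation {i j k : Fin 3} (hij : j ≠ i) (hik : k ≠ i) (hjk : j ≠ k) {g : G}
    (hg : ∀ l, C.Off l g) :
    1 + ∑ ψ ∈ C.others, (C.c i ψ : ℂ) * (ψ : G → ℂ) g + (C.e i : ℂ) * (C.eta i : G → ℂ) g +
      (C.m j : ℂ) * C.c i (C.eta j) * (C.eta j : G → ℂ) g +
      (C.m k : ℂ) * C.c i (C.eta k) * (C.eta k : G → ℂ) g = 0 := by
  haveI := Fintype.ofFinite (IrrCharacter G)
  obtain ⟨a, ha, h1⟩ := C.exists_ne_one i
  have h := sum_irr_mul_conj a g
  rw [if_neg (not_isConj_of_off ha h1 (hg i)), C.irr_sum,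
    Finset.sum_congr rfl (g := fun ψ => (C.c i ψ : ℂ) * conj ((ψ : G → ℂ) g)) (fun ψ hψ => by
      rw [C.val_off ((C.mem_others.1 hψ).2 i) ha h1])] at h
  have hfam : ∑ ψ ∈ C.fam 0, (ψ : G → ℂ) a * conj ((ψ : G → ℂ) g) +
      ∑ ψ ∈ C.fam 1, (ψ : G → ℂ) a * conj ((ψ : G → ℂ) g) +
      ∑ ψ ∈ C.fam 2, (ψ : G → ℂ) a * conj ((ψ : G → ℂ) g) =
      ∑ ψ ∈ C.fam i, (ψ : G → ℂ) a * conj ((ψ : G → ℂ) g) +
      ∑ ψ ∈ C.fam j, (ψ : G → ℂ) a * conj ((ψ : G → ℂ) g) +
      ∑ ψ ∈ C.fam k, (ψ : G → ℂ) a * conj ((ψ : G → ℂ) g) := by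
    fin_cases i <;> fin_cases j <;> fin_cases k <;> first
      | exact absurd rfl hij | exact absurd rfl hik | exact absurd rfl hjk
      | (simp only [Fin.zero_eta, Fin.mk_one, Fin.reduceFinMk] <;> ring)
  rw [hfam, C.sum_fam_off (hg i) ha h1, C.sum_fam_const hij (hg j) ha h1,
    C.sum_fam_const hik (hg k) ha h1, C.val_off (C.one_notMem_fam i) ha h1, C.c_one] at h
  have h' := congrArg conj h
  simp only [one, map_add, map_mul, map_sum, map_intCast, map_natCast, Complex.conj_conj, map_zero,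
    map_one] at h'
  linear_combination h'

/-- The squares of the values on `A i`. -/
theorem norm_eq {i j k : Fin 3} (hij : j ≠ i) (hik : k ≠ i) (hjk : j ≠ k) :
    1 + ∑ ψ ∈ C.others, C.c i ψ ^ 2 + C.m j * C.c i (C.eta j) ^ 2 + C.m k * C.c i (C.eta k) ^ 2 =
      C.B i := by
  haveI := Fintype.ofFinite (IrrCharacter G)
  obtain ⟨a, ha, h1⟩ := C.exists_ne_one i
  have h := sum_irr_mul_conj a a
  rw [if_pos (IsConj.refl a), C.irr_sum,
    Finset.sum_congr rfl (g := fun ψ => (C.c i ψ : ℂ) ^ 2) (fun ψ hψ => by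
      rw [C.val_off ((C.mem_others.1 hψ).2 i) ha h1, map_intCast, pow_two])] at h
  have hconst : ∀ l, l ≠ i → ∑ ψ ∈ C.fam l, (ψ : G → ℂ) a * conj ((ψ : G → ℂ) a) =
      (C.m l : ℂ) * (C.c i (C.eta l) : ℂ) ^ 2 := fun l hl => by
    rw [Finset.sum_congr rfl (g := fun _ => (C.c i (C.eta l) : ℂ) ^ 2) fun ψ hψ => by
      rw [C.val_off (Finset.disjoint_left.1 (C.fam_disjoint hl) hψ) ha h1, C.c_agree hl hψ, map_intCast,
        pow_two], Finset.sum_const, C.card_fam, nsmul_eq_mul]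
  have hfam : ∑ ψ ∈ C.fam 0, (ψ : G → ℂ) a * conj ((ψ : G → ℂ) a) +
      ∑ ψ ∈ C.fam 1, (ψ : G → ℂ) a * conj ((ψ : G → ℂ) a) +
      ∑ ψ ∈ C.fam 2, (ψ : G → ℂ) a * conj ((ψ : G → ℂ) a) =
      ∑ ψ ∈ C.fam i, (ψ : G → ℂ) a * conj ((ψ : G → ℂ) a) +
      ∑ ψ ∈ C.fam j, (ψ : G → ℂ) a * conj ((ψ : G → ℂ) a) +
      ∑ ψ ∈ C.fam k, (ψ : G → ℂ) a * conj ((ψ : G → ℂ) a) := by
    fin_cases i <;> fin_cases j <;> fin_cases k <;> first
      | exact absurd rfl hij | exact absurd rfl hik | exact absurd rfl hjk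
      | (simp only [Fin.zero_eta, Fin.mk_one, Fin.reduceFinMk] <;> ring)
  rw [hfam, (C.sum_fam ha h1).2, hconst j hij, hconst k hik, C.val_off (C.one_notMem_fam i) ha h1,
    C.c_one, C.self i a ha h1] at h
  simp only [Int.cast_one, map_one, one_mul, Hyp.n] at h
  have : (((1 + ∑ ψ ∈ C.others, C.c i ψ ^ 2 + C.m j * C.c i (C.eta j) ^ 2 +
      C.m k * C.c i (C.eta k) ^ 2 : ℤ)) : ℂ) = (C.B i : ℂ) := by
    push_cast
    linear_combination h
  exact_mod_cast this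

/-- Orthogonality of the columns of `A i` and `A j`. -/
theorem orth {i j k : Fin 3} (hij : j ≠ i) (hik : k ≠ i) (hjk : j ≠ k) :
    1 + ∑ ψ ∈ C.others, C.c i ψ * C.c j ψ + C.m k * C.c i (C.eta k) * C.c j (C.eta k) +
      C.e i * C.c j (C.eta i) + C.e j * C.c i (C.eta j) = 0 := by
  haveI := Fintype.ofFinite (IrrCharacter G)
  obtain ⟨a, ha, h1⟩ := C.exists_ne_one i
  obtain ⟨b, hb, hb1⟩ := C.exists_ne_one j
  have h := sum_irr_mul_conj a b
  rw [if_neg (not_isConj_of_off ha h1 (C.off_of_mem hij.symm hb)), C.irr_sum,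
    Finset.sum_congr rfl (g := fun ψ => (C.c i ψ : ℂ) * (C.c j ψ : ℂ)) (fun ψ hψ => by
      rw [C.val_off ((C.mem_others.1 hψ).2 i) ha h1, C.val_off ((C.mem_others.1 hψ).2 j) hb hb1,
        map_intCast])] at h
  have hfam : ∑ ψ ∈ C.fam 0, (ψ : G → ℂ) a * conj ((ψ : G → ℂ) b) +
      ∑ ψ ∈ C.fam 1, (ψ : G → ℂ) a * conj ((ψ : G → ℂ) b) +
      ∑ ψ ∈ C.fam 2, (ψ : G → ℂ) a * conj ((ψ : G → ℂ) b) =
      ∑ ψ ∈ C.fam i, (ψ : G → ℂ) a * conj ((ψ : G → ℂ) b) +
      ∑ ψ ∈ C.fam j, (ψ : G → ℂ) a * conj ((ψ : G → ℂ) b) +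
      ∑ ψ ∈ C.fam k, (ψ : G → ℂ) a * conj ((ψ : G → ℂ) b) := by
    fin_cases i <;> fin_cases j <;> fin_cases k <;> first
      | exact absurd rfl hij | exact absurd rfl hik | exact absurd rfl hjk
      | (simp only [Fin.zero_eta, Fin.mk_one, Fin.reduceFinMk] <;> ring)
  have hj : ∑ ψ ∈ C.fam j, (ψ : G → ℂ) a * conj ((ψ : G → ℂ) b) =
      (C.c i (C.eta j) : ℂ) * C.e j := by
    rw [Finset.sum_congr (s₁ := C.fam j) rfl (g := fun ψ => (C.c i (C.eta j) : ℂ) * conj ((ψ : G → ℂ) b)) fun ψ hψ => by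
      rw [C.val_off (Finset.disjoint_left.1 (C.fam_disjoint hij) hψ) ha h1, C.c_agree hij hψ],
      ← Finset.mul_sum, ← map_sum, (C.sum_fam hb hb1).1, map_intCast]
  have hb' : ∀ l, l ≠ j → ∀ ψ ∈ C.fam l, (ψ : G → ℂ) b = (C.c j (C.eta l) : ℂ) := fun l hl ψ hψ => by
    rw [C.val_off (Finset.disjoint_left.1 (C.fam_disjoint hl) hψ) hb hb1, C.c_agree hl hψ]
  rw [hfam, hj, C.sum_fam_off (C.off_of_mem hij.symm hb) ha h1,
    C.sum_fam_const hik (C.off_of_mem hjk.symm hb) ha h1,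
    hb' i hij.symm _ (C.eta_mem i), hb' k hjk.symm _ (C.eta_mem k),
    C.val_off (C.one_notMem_fam i) ha h1, C.val_off (C.one_notMem_fam j) hb hb1, C.c_one, C.c_one] at h
  simp only [map_intCast, Int.cast_one, map_one, mul_one] at h
  have : (((1 + ∑ ψ ∈ C.others, C.c i ψ * C.c j ψ + C.m k * C.c i (C.eta k) * C.c j (C.eta k) +
      C.e i * C.c j (C.eta i) + C.e j * C.c i (C.eta j) : ℤ)) : ℂ) = 0 := by
    push_cast
    linear_combination h
  exact_mod_cast this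

theorem dvd_degree {i : Fin 3} {ψ : IrrCharacter G} (hψ : ψ ∉ C.fam i) (hc : C.c i ψ = 0) {d : ℕ}
    (hd : (ψ : G → ℂ) 1 = d) : C.n i ∣ d := by
  haveI := Fintype.ofFinite (C.A i)
  obtain ⟨z, hz⟩ := classInner_generalized_int
    (isGeneralizedCharacter_comp (isGeneralizedCharacter_of_isCharacter (isCharacter_irr ψ))
      (C.A i).subtype)
    (isGeneralizedCharacter_of_isCharacter (isCharacter_of_isIrr (isIrrCharacter_one (G := C.A i))))
  rw [classInner, ← Finset.add_sum_erase _ _ (Finset.mem_univ (1 : C.A i)),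
    Finset.sum_eq_zero (fun x hx => by
      show (ψ : G → ℂ) x * _ = 0
      rw [C.val_off hψ x.2 (fun e => (Finset.mem_erase.1 hx).1 (Subtype.ext e)), hc, Int.cast_zero,
        zero_mul]), add_zero] at hz
  simp only [map_one, mul_one, Subgroup.coe_subtype, OneMemClass.coe_one, hd] at hz
  have hn : (Nat.card (C.A i) : ℂ) ≠ 0 := Nat.cast_ne_zero.2 Nat.card_pos.ne'
  have he : ((d : ℤ) : ℂ) = (((C.n i : ℤ) * z : ℤ) : ℂ) := by
    simp only [Hyp.n]; push_cast
    field_simp at hz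
    linear_combination hz
  exact Int.natCast_dvd_natCast.1 ⟨z, by exact_mod_cast he⟩

end Coh

end CfsgLib.CIT.ThreeSystems
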