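import Mathlib
import Cfsg.Agent.Lib.CIT.ThreeSystems.Columns

/-!
# Three self-centralizing systems: the possible columns

The subgroup with automizer of order two sees exactly one character `th` outside the families.  This leaves
two shapes for the other two columns (`Std` and `Mix`), at most five classes of remaining elements, and
lower bounds for the norm of an integral column.
-/

set_option autoImplicit false
set_option linter.unusedSectionVars false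
set_option linter.style.haveILetI false
set_option linter.style.openClassical false

namespace CfsgLib.CIT.ThreeSystems

open scoped ComplexConjugate Classical
open Cfsg CfsgLib.Char

universe u

variable {G : Type u} [Group G] [Fintype G]

noncomputable local instance instFintypeExcConfig (A : Subgroup G) : Fintype (Exc A) := Fintype.ofFinite _

theorem wt_ne_zero {l : Fin 3} (h : l ≠ 0) : wt l = 4 := by
  fin_cases l
  · exact absurd rfl h
  · rfl
  · rfl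

/-- A nonzero entry costs at least one in a sum of squares. -/
theorem card_supp_le {ι : Type*} (s : Finset ι) (f : ι → ℤ) :
    (((Finset.filter (fun x => f x ≠ 0) s).card : ℕ) : ℤ) ≤ ∑ x ∈ s, f x ^ 2 := by
  refine le_trans ?_ (Finset.sum_le_sum_of_subset_of_nonneg (Finset.filter_subset (fun x => f x ≠ 0) s)
    fun x _ _ => sq_nonneg _)
  rw [Finset.card_eq_sum_ones, Nat.cast_sum]
  refine Finset.sum_le_sum fun x hx => ?_
  have := (Finset.mem_filter.1 hx).2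
  push_cast
  nlinarith [sq_pos_of_ne_zero this]

theorem eq_zero_of_sum_sq {ι : Type*} {s : Finset ι} {f : ι → ℤ} (h : ∑ x ∈ s, f x ^ 2 ≤ 0) :
    ∀ x ∈ s, f x = 0 := fun x hx => by
  have h' := (Finset.single_le_sum (f := fun x => f x ^ 2) (fun y _ => sq_nonneg _) hx).trans h
  simpa using le_antisymm h' (sq_nonneg (f x))

/-- The first bound on the weighted norm of the entries at the families. -/
theorem bracket_small {τ Y m₀ m₁ m₂ : ℤ} (h₀ : 3 ≤ m₀) (h₁ : 2 ≤ m₁) (h₂ : 2 ≤ m₂)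
    (h : τ ^ 2 + m₀ * (1 + τ) ^ 2 + m₁ * (1 - τ + Y) ^ 2 + m₂ * (1 - τ - Y) ^ 2 ≤ 9) :
    m₀ + m₁ + m₂ ≤ 9 := by
  rcases eq_or_ne τ 0 with rfl | hτ
  · rcases eq_or_ne Y 0 with rfl | hY
    · linarith
    · exfalso
      have hY2 : 1 ≤ Y ^ 2 := sq_pos_of_ne_zero hY
      nlinarith [mul_nonneg (by linarith : (0 : ℤ) ≤ m₁ - 2) (sq_nonneg (1 + Y)),
        mul_nonneg (by linarith : (0 : ℤ) ≤ m₂ - 2) (sq_nonneg (1 - Y))]
  · exfalso
    have e0 := mul_nonneg (by linarith : (0 : ℤ) ≤ m₀ - 3) (sq_nonneg (1 + τ))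
    have e1 := mul_nonneg (by linarith : (0 : ℤ) ≤ m₁ - 2) (sq_nonneg (1 - τ + Y))
    have e2 := mul_nonneg (by linarith : (0 : ℤ) ≤ m₂ - 2) (sq_nonneg (1 - τ - Y))
    rcases lt_or_gt_of_ne hτ with h' | h'
    · nlinarith [sq_nonneg Y]
    · nlinarith [sq_nonneg Y]

/-- The second bound on the weighted norm of the entries at the families. -/
theorem nine_le_bracket {τ Y m₀ m₁ m₂ : ℤ} (h₀ : 2 ≤ m₀) (h₁ : 3 ≤ m₁) (h₂ : 3 ≤ m₂) (h : 7 ≤ m₁ + m₂) :
    9 ≤ τ ^ 2 + m₀ * (1 + τ) ^ 2 + m₁ * (1 - τ + Y) ^ 2 + m₂ * (1 - τ - Y) ^ 2 := by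
  rcases eq_or_ne τ 0 with rfl | hτ
  · rcases eq_or_ne Y 0 with rfl | hY
    · linarith
    · have hY2 : 1 ≤ Y ^ 2 := sq_pos_of_ne_zero hY
      nlinarith [mul_nonneg (by linarith : (0 : ℤ) ≤ m₁ - 3) (sq_nonneg (1 + Y)),
        mul_nonneg (by linarith : (0 : ℤ) ≤ m₂ - 3) (sq_nonneg (1 - Y))]
  · have e0 := mul_nonneg (by linarith : (0 : ℤ) ≤ m₀ - 2) (sq_nonneg (1 + τ))
    have e1 := mul_nonneg (by linarith : (0 : ℤ) ≤ m₁ - 3) (sq_nonneg (1 - τ + Y))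
    have e2 := mul_nonneg (by linarith : (0 : ℤ) ≤ m₂ - 3) (sq_nonneg (1 - τ - Y))
    rcases lt_or_gt_of_ne hτ with h' | h'
    · nlinarith [sq_nonneg Y]
    · nlinarith [sq_nonneg Y, mul_nonneg (by linarith : (0 : ℤ) ≤ τ - 1) h'.le]

namespace Coh

variable (C : Coh G)

theorem two_le_mZ (i : Fin 3) : (2 : ℤ) ≤ C.m i := by exact_mod_cast C.two_le_m i

/-- An integral column outside the three subgroups. -/
def Col (g : G) (z : IrrCharacter G → ℤ) : Prop := (∀ i, C.Off i g) ∧ ∀ ψ : IrrCharacter G, (ψ : G → ℂ) g = z ψ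

theorem exists_col_one : ∃ z, C.Col 1 z ∧ ∀ ψ, 0 < z ψ := by
  choose d hd using fun ψ : IrrCharacter G => isCharacter_degree (isCharacter_irr ψ)
  refine ⟨fun ψ => d ψ, ⟨C.off_one, fun ψ => by rw [hd]; simp⟩, fun ψ => ?_⟩
  show (0 : ℤ) < (d ψ : ℤ)
  have : d ψ ≠ 0 := fun e => irr_one_ne_zero ψ (by rw [hd, e, Nat.cast_zero])
  omega

theorem col_rel {g : G} {z : IrrCharacter G → ℤ} (hz : C.Col g z) {i j k : Fin 3} (hij : j ≠ i)
    (hik : k ≠ i) (hjk : j ≠ k) :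
    1 + ∑ ψ ∈ C.others, C.c i ψ * z ψ + C.e i * z (C.eta i) + C.m j * C.c i (C.eta j) * z (C.eta j) +
      C.m k * C.c i (C.eta k) * z (C.eta k) = 0 := by
  have h := C.relation hij hik hjk hz.1
  simp only [hz.2] at h
  exact_mod_cast h

theorem col_norm {g : G} {z : IrrCharacter G → ℤ} (hz : C.Col g z) :
    1 + ∑ ψ ∈ C.others, z ψ ^ 2 + (C.m 0 * z (C.eta 0) ^ 2 + C.m 1 * z (C.eta 1) ^ 2 +
      C.m 2 * z (C.eta 2) ^ 2) = Nat.card (Subgroup.centralizer ({g} : Set G)) := by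
  haveI := Fintype.ofFinite (IrrCharacter G)
  have h := C.inner_off hz.1 hz.1
  rw [sum_irr_mul_conj, if_pos (IsConj.refl g), Fin.sum_univ_three] at h
  simp only [hz.2, map_intCast, ← pow_two] at h
  exact_mod_cast h.symm

theorem col_inner {g g' : G} {z z' : IrrCharacter G → ℤ} (hz : C.Col g z) (hz' : C.Col g' z')
    (hne : ¬ IsConj g g') :
    1 + ∑ ψ ∈ C.others, z ψ * z' ψ + (C.m 0 * (z (C.eta 0) * z' (C.eta 0)) +
      C.m 1 * (z (C.eta 1) * z' (C.eta 1)) + C.m 2 * (z (C.eta 2) * z' (C.eta 2))) = 0 := by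
  haveI := Fintype.ofFinite (IrrCharacter G)
  have h := C.inner_off hz.1 hz'.1
  rw [sum_irr_mul_conj, if_neg hne, Fin.sum_univ_three] at h
  simp only [hz.2, hz'.2, map_intCast] at h
  exact_mod_cast h.symm

theorem B_zero : C.B 0 = 2 := by
  have hle := C.B_le 0
  have hn := C.norm_eq (i := 0) (j := 1) (k := 2) (by decide) (by decide) (by decide)
  have hs : 0 ≤ ∑ ψ ∈ C.others, C.c 0 ψ ^ 2 := Finset.sum_nonneg fun ψ _ => sq_nonneg _
  have hm1 := C.two_le_mZ 1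
  have hm2 := C.two_le_mZ 2
  have h1 : 0 ≤ (C.m 1 : ℤ) * C.c 0 (C.eta 1) ^ 2 := mul_nonneg (by linarith) (sq_nonneg _)
  have h2 : 0 ≤ (C.m 2 : ℤ) * C.c 0 (C.eta 2) ^ 2 := mul_nonneg (by linarith) (sq_nonneg _)
  have hw : (wt 0 : ℤ) = 2 := rfl
  rw [hw] at hle
  by_contra hne
  have hB : C.B 0 = 1 := by omega
  have hz := eq_zero_of_sum_sq (s := C.others) (f := C.c 0) (by linarith)
  have z1 : C.c 0 (C.eta 1) = 0 := by
    by_contra h
    nlinarith [sq_pos_of_ne_zero h]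
  have z2 : C.c 0 (C.eta 2) = 0 := by
    by_contra h
    nlinarith [sq_pos_of_ne_zero h]
  have he : Even (C.e 0) := by
    have hB' := hB
    unfold B at hB'
    rw [hw] at hB'
    have h' : C.a0 0 * (C.m 0 * C.a0 0 - 2 * (C.dx 0).ε) = 1 := by linarith
    unfold e
    rcases Int.eq_one_or_neg_one_of_mul_eq_one' h' with ⟨ha, hb⟩ | ⟨ha, hb⟩ <;>
      rw [ha] at hb ⊢ <;> rcases (C.dx 0).sign with hε | hε <;> rw [hε] at hb ⊢ <;>
      rw [even_iff_two_dvd] <;> omega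
  obtain ⟨z, hcol, -⟩ := C.exists_col_one
  have hr := C.col_rel hcol (i := 0) (j := 1) (k := 2) (by decide) (by decide) (by decide)
  rw [Finset.sum_eq_zero (fun ψ hψ => by rw [hz ψ hψ, zero_mul]), z1, z2] at hr
  simp only [mul_zero, zero_mul, add_zero] at hr
  obtain ⟨f, hf⟩ := he
  rw [hf, add_mul] at hr
  omega

theorem e_zero_sign : C.e 0 = 1 ∨ C.e 0 = -1 := C.eq_zero_or_of_B_eq (by rw [C.B_zero]; rfl)

theorem exists_th : ∃ θ ∈ C.others, (C.c 0 θ = 1 ∨ C.c 0 θ = -1) ∧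
    (∀ ψ ∈ C.others, ψ ≠ θ → C.c 0 ψ = 0) ∧ C.c 0 (C.eta 1) = 0 ∧ C.c 0 (C.eta 2) = 0 := by
  have hn := C.norm_eq (i := 0) (j := 1) (k := 2) (by decide) (by decide) (by decide)
  rw [C.B_zero] at hn
  have hs : 0 ≤ ∑ ψ ∈ C.others, C.c 0 ψ ^ 2 := Finset.sum_nonneg fun ψ _ => sq_nonneg _
  have hm1 := C.two_le_mZ 1
  have hm2 := C.two_le_mZ 2
  have h1 : 0 ≤ (C.m 1 : ℤ) * C.c 0 (C.eta 1) ^ 2 := mul_nonneg (by linarith) (sq_nonneg _)
  have h2 : 0 ≤ (C.m 2 : ℤ) * C.c 0 (C.eta 2) ^ 2 := mul_nonneg (by linarith) (sq_nonneg _)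
  have z1 : C.c 0 (C.eta 1) = 0 := by
    by_contra h
    nlinarith [sq_pos_of_ne_zero h]
  have z2 : C.c 0 (C.eta 2) = 0 := by
    by_contra h
    nlinarith [sq_pos_of_ne_zero h]
  rw [z1, z2] at hn
  obtain ⟨θ, hθ, hne⟩ : ∃ θ ∈ C.others, C.c 0 θ ≠ 0 := by
    by_contra! h
    rw [Finset.sum_eq_zero (fun ψ hψ => by rw [h ψ hψ]; ring)] at hn
    simp at hn
  have hsplit := Finset.add_sum_erase C.others (fun ψ => C.c 0 ψ ^ 2) hθ
  have hrest : 0 ≤ ∑ ψ ∈ C.others.erase θ, C.c 0 ψ ^ 2 := Finset.sum_nonneg fun ψ _ => sq_nonneg _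
  have hpos := sq_pos_of_ne_zero hne
  have hsq : C.c 0 θ ^ 2 = 1 := by nlinarith
  refine ⟨θ, hθ, sq_eq_one_iff.1 hsq, fun ψ hψ hψθ => ?_, z1, z2⟩
  exact eq_zero_of_sum_sq (s := C.others.erase θ) (f := C.c 0) (by nlinarith) ψ
    (Finset.mem_erase.2 ⟨hψθ, hψ⟩)

/-- The character seen by the first subgroup. -/
noncomputable def th : IrrCharacter G := C.exists_th.choose

/-- Its sign. -/
noncomputable def δ : ℤ := C.c 0 C.th

/-- The remaining others. -/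
noncomputable def rst : Finset (IrrCharacter G) := C.others.erase C.th

theorem th_mem : C.th ∈ C.others := C.exists_th.choose_spec.1

theorem δ_sign : C.δ = 1 ∨ C.δ = -1 := C.exists_th.choose_spec.2.1

theorem c_zero_rst {ψ : IrrCharacter G} (h : ψ ∈ C.rst) : C.c 0 ψ = 0 :=
  C.exists_th.choose_spec.2.2.1 ψ (Finset.mem_of_mem_erase h) (Finset.mem_erase.1 h).1

theorem c_zero_eta {l : Fin 3} (hl : l ≠ 0) : C.c 0 (C.eta l) = 0 := by
  fin_cases l
  · exact absurd rfl hl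
  · exact C.exists_th.choose_spec.2.2.2.1
  · exact C.exists_th.choose_spec.2.2.2.2

theorem sum_others_eq {R : Type*} [AddCommMonoid R] (f : IrrCharacter G → R) :
    ∑ ψ ∈ C.others, f ψ = f C.th + ∑ ψ ∈ C.rst, f ψ :=
  (Finset.add_sum_erase C.others f C.th_mem).symm

theorem rel_zero {g : G} {z : IrrCharacter G → ℤ} (hz : C.Col g z) :
    1 + C.δ * z C.th + C.e 0 * z (C.eta 0) = 0 := by
  have h := C.col_rel hz (i := 0) (j := 1) (k := 2) (by decide) (by decide) (by decide)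
  rw [C.sum_others_eq, Finset.sum_eq_zero (fun ψ hψ => by rw [C.c_zero_rst hψ, zero_mul]),
    C.c_zero_eta (by decide), C.c_zero_eta (by decide)] at h
  simp only [mul_zero, zero_mul, add_zero] at h
  exact h

theorem orth_zero {l k : Fin 3} (hl : l ≠ 0) (hk : k ≠ 0) (hlk : l ≠ k) :
    1 + C.δ * C.c l C.th + C.e 0 * C.c l (C.eta 0) = 0 := by
  have h := C.orth (i := 0) (j := l) (k := k) hl hk hlk
  rw [C.sum_others_eq, Finset.sum_eq_zero (fun ψ hψ => by rw [C.c_zero_rst hψ, zero_mul]),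
    C.c_zero_eta hl, C.c_zero_eta hk] at h
  simp only [mul_zero, zero_mul, add_zero] at h
  exact h

theorem norm_slot {l k : Fin 3} (hl : l ≠ 0) (hk : k ≠ 0) (hlk : l ≠ k) :
    1 + C.c l C.th ^ 2 + ∑ ψ ∈ C.rst, C.c l ψ ^ 2 + C.m 0 * C.c l (C.eta 0) ^ 2 +
      C.m k * C.c l (C.eta k) ^ 2 = C.B l := by
  have h := C.norm_eq (i := l) (j := 0) (k := k) hl.symm hlk.symm hk.symm
  rw [C.sum_others_eq] at h
  linarith

theorem orth_slot {l k : Fin 3} (hl : l ≠ 0) (hk : k ≠ 0) (hlk : l ≠ k) :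
    1 + C.c l C.th * C.c k C.th + ∑ ψ ∈ C.rst, C.c l ψ * C.c k ψ +
      C.m 0 * C.c l (C.eta 0) * C.c k (C.eta 0) + C.e l * C.c k (C.eta l) +
      C.e k * C.c l (C.eta k) = 0 := by
  have h := C.orth (i := l) (j := k) (k := 0) hlk.symm hl.symm hk
  rw [C.sum_others_eq] at h
  linarith

theorem rel_slot {g : G} {z : IrrCharacter G → ℤ} (hz : C.Col g z) {l k : Fin 3} (hl : l ≠ 0)
    (hk : k ≠ 0) (hlk : l ≠ k) :
    1 + C.c l C.th * z C.th + ∑ ψ ∈ C.rst, C.c l ψ * z ψ + C.e l * z (C.eta l) +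
      C.m 0 * C.c l (C.eta 0) * z (C.eta 0) + C.m k * C.c l (C.eta k) * z (C.eta k) = 0 := by
  have h := C.col_rel hz (i := l) (j := 0) (k := k) hl.symm hlk.symm hk.symm
  rw [C.sum_others_eq] at h
  linarith

theorem slot {l k : Fin 3} (hl : l ≠ 0) (hk : k ≠ 0) (hlk : l ≠ k) :
    (C.c l (C.eta 0) = 0 ∧ C.c l C.th = -C.δ ∧
      ∑ ψ ∈ C.rst, C.c l ψ ^ 2 + C.m k * C.c l (C.eta k) ^ 2 ≤ 2) ∨
    (C.c l (C.eta 0) = -C.e 0 ∧ C.c l C.th = 0 ∧ C.c l (C.eta k) = 0 ∧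
      ∑ ψ ∈ C.rst, C.c l ψ ^ 2 + C.m 0 ≤ 3) := by
  have hn := C.norm_slot hl hk hlk
  have hB := C.B_le l
  rw [wt_ne_zero hl] at hB
  have ho := C.orth_zero hl hk hlk
  have hs : 0 ≤ ∑ ψ ∈ C.rst, C.c l ψ ^ 2 := Finset.sum_nonneg fun ψ _ => sq_nonneg _
  have hm0 := C.two_le_mZ 0
  have hmk := C.two_le_mZ k
  have hq : 0 ≤ (C.m k : ℤ) * C.c l (C.eta k) ^ 2 := mul_nonneg (by linarith) (sq_nonneg _)
  have hδ := C.δ_sign
  have he := C.e_zero_sign
  push_cast at hB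
  rcases eq_or_ne (C.c l (C.eta 0)) 0 with hv | hv
  · refine Or.inl ⟨hv, ?_, ?_⟩
    · rw [hv] at ho
      rcases hδ with hδ | hδ <;> rw [hδ] at ho ⊢ <;> linarith
    · have hθ : C.c l C.th ^ 2 = 1 := by
        rw [hv] at ho
        rcases hδ with hδ | hδ <;> rw [hδ] at ho
        · rw [show C.c l C.th = -1 by linarith]; norm_num
        · rw [show C.c l C.th = 1 by linarith]; norm_num
      rw [hv, hθ] at hn
      linarith
  · have hv2 := sq_pos_of_ne_zero hv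
    have hv1 : C.c l (C.eta 0) = 1 ∨ C.c l (C.eta 0) = -1 := by
      refine sq_eq_one_iff.1 ?_
      nlinarith [sq_nonneg (C.c l C.th)]
    have hv' : C.c l (C.eta 0) ^ 2 = 1 := sq_eq_one_iff.2 hv1
    rw [hv', mul_one] at hn
    have hθ : C.c l C.th = 0 := by
      have hb : C.c l C.th ≤ 1 ∧ -1 ≤ C.c l C.th := by constructor <;> nlinarith
      rcases hδ with hδ | hδ <;> rcases he with he | he <;> rcases hv1 with hv1 | hv1 <;>
        rw [hδ, he, hv1] at ho <;> omega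
    have hq0 : C.c l (C.eta k) = 0 := by
      by_contra h
      nlinarith [sq_pos_of_ne_zero h]
    refine Or.inr ⟨?_, hθ, hq0, ?_⟩
    · rw [hθ] at ho
      rcases he with he | he <;> rw [he] at ho ⊢ <;> linarith
    · rw [hθ, hq0] at hn
      linarith

/-- Both columns meet `th`. -/
structure Std : Prop where
  θ₁ : C.c 1 C.th = -C.δ
  θ₂ : C.c 2 C.th = -C.δ
  v₁ : C.c 1 (C.eta 0) = 0
  v₂ : C.c 2 (C.eta 0) = 0
  q₁ : C.c 1 (C.eta 2) = 0
  q₂ : C.c 2 (C.eta 1) = 0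
  neg : ∀ ψ ∈ C.rst, C.c 2 ψ = -C.c 1 ψ
  sq : ∑ ψ ∈ C.rst, C.c 1 ψ ^ 2 ≤ 2
  e₁ : C.e 1 = 1 ∨ C.e 1 = -1
  e₂ : C.e 2 = 1 ∨ C.e 2 = -1

/-- Only the column `k` meets `th`. -/
structure Mix (l k : Fin 3) : Prop where
  hl : l ≠ 0
  hk : k ≠ 0
  ne : l ≠ k
  θl : C.c l C.th = 0
  θk : C.c k C.th = -C.δ
  vl : C.c l (C.eta 0) = -C.e 0
  vk : C.c k (C.eta 0) = 0
  ql : C.c l (C.eta k) = 0
  sl : ∑ ψ ∈ C.rst, C.c l ψ ^ 2 + C.m 0 ≤ 3
  sk : ∑ ψ ∈ C.rst, C.c k ψ ^ 2 + C.m l * C.c k (C.eta l) ^ 2 ≤ 2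
  or : 1 + ∑ ψ ∈ C.rst, C.c l ψ * C.c k ψ + C.e l * C.c k (C.eta l) = 0

theorem mix_of_slot {l k : Fin 3} (hl : l ≠ 0) (hk : k ≠ 0) (hlk : l ≠ k)
    (h : C.c l (C.eta 0) = -C.e 0 ∧ C.c l C.th = 0 ∧ C.c l (C.eta k) = 0 ∧
      ∑ ψ ∈ C.rst, C.c l ψ ^ 2 + C.m 0 ≤ 3)
    (h' : C.c k (C.eta 0) = 0 ∧ C.c k C.th = -C.δ ∧
      ∑ ψ ∈ C.rst, C.c k ψ ^ 2 + C.m l * C.c k (C.eta l) ^ 2 ≤ 2) : C.Mix l k := by
  obtain ⟨hv, hθ, hq, hs⟩ := h
  obtain ⟨hv', hθ', hs'⟩ := h'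
  refine ⟨hl, hk, hlk, hθ, hθ', hv, hv', hq, hs, hs', ?_⟩
  have ho := C.orth_slot hl hk hlk
  rw [hθ, hv', hq] at ho
  linarith

theorem q_eq_zero {l k : Fin 3} (hl : l ≠ 0) (hk : k ≠ 0) (hlk : l ≠ k)
    (hθl : C.c l C.th = -C.δ) (hθk : C.c k C.th = -C.δ)
    (hvl : C.c l (C.eta 0) = 0) (hvk : C.c k (C.eta 0) = 0)
    (hsl : ∑ ψ ∈ C.rst, C.c l ψ ^ 2 + C.m k * C.c l (C.eta k) ^ 2 ≤ 2)
    (hsk : ∑ ψ ∈ C.rst, C.c k ψ ^ 2 + C.m l * C.c k (C.eta l) ^ 2 ≤ 2) : C.c l (C.eta k) = 0 := by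
  by_contra hq
  have hmk := C.two_le_mZ k
  have hml := C.two_le_mZ l
  have hq2 := sq_pos_of_ne_zero hq
  have hs : 0 ≤ ∑ ψ ∈ C.rst, C.c l ψ ^ 2 := Finset.sum_nonneg fun ψ _ => sq_nonneg _
  have hs' : 0 ≤ ∑ ψ ∈ C.rst, C.c k ψ ^ 2 := Finset.sum_nonneg fun ψ _ => sq_nonneg _
  have hq1 : C.c l (C.eta k) ^ 2 = 1 := by nlinarith
  rw [hq1, mul_one] at hsl
  have hm2 : (C.m k : ℤ) = 2 := by linarith
  have hz := eq_zero_of_sum_sq (s := C.rst) (f := C.c l) (by linarith)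
  have hm3 : (3 : ℤ) ≤ C.m l := by
    have hne : C.m l ≠ C.m k := by
      fin_cases l <;> fin_cases k <;> first
        | exact absurd rfl hl | exact absurd rfl hk | exact absurd rfl hlk
        | exact C.m_ne | exact C.m_ne.symm
    have := C.two_le_m l
    omega
  have hq' : C.c k (C.eta l) = 0 := by
    by_contra h
    nlinarith [sq_pos_of_ne_zero h]
  have ho := C.orth_slot hl hk hlk
  rw [Finset.sum_eq_zero (fun ψ hψ => by rw [hz ψ hψ, zero_mul]), hθl, hθk, hvl, hvk, hq'] at ho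
  have hδ : (-C.δ) * (-C.δ) = 1 := by rcases C.δ_sign with h | h <;> rw [h] <;> norm_num
  obtain ⟨f, hf⟩ := C.e_odd (i := k) (by omega)
  rw [hδ, hf] at ho
  rcases sq_eq_one_iff.1 hq1 with h | h <;> rw [h] at ho <;> omega

theorem type_cases : C.Std ∨ C.Mix 1 2 ∨ C.Mix 2 1 := by
  have h10 : (1 : Fin 3) ≠ 0 := by decide
  have h20 : (2 : Fin 3) ≠ 0 := by decide
  have h12 : (1 : Fin 3) ≠ 2 := by decide
  rcases C.slot h10 h20 h12 with h1 | h1 <;> rcases C.slot h20 h10 h12.symm with h2 | h2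
  · left
    obtain ⟨v1, t1, s1⟩ := h1
    obtain ⟨v2, t2, s2⟩ := h2
    have q1 := C.q_eq_zero h10 h20 h12 t1 t2 v1 v2 s1 s2
    have q2 := C.q_eq_zero h20 h10 h12.symm t2 t1 v2 v1 s2 s1
    have hδ : (-C.δ) * (-C.δ) = 1 := by rcases C.δ_sign with h | h <;> rw [h] <;> norm_num
    have ho := C.orth_slot h10 h20 h12
    rw [q1, q2, v1, v2, t1, t2, hδ] at ho
    rw [q1] at s1
    rw [q2] at s2
    simp only [ne_eq, OfNat.ofNat_ne_zero, not_false_eq_true, zero_pow, mul_zero, add_zero] at s1 s2 ho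
    have hsum : ∑ ψ ∈ C.rst, (C.c 1 ψ + C.c 2 ψ) ^ 2 ≤ 0 := by
      simp only [add_sq, Finset.sum_add_distrib, mul_assoc, ← Finset.mul_sum]
      linarith
    have hneg : ∀ ψ ∈ C.rst, C.c 2 ψ = -C.c 1 ψ := fun ψ hψ => by
      linarith [eq_zero_of_sum_sq hsum ψ hψ]
    have hS : ∑ ψ ∈ C.rst, C.c 1 ψ ^ 2 = 2 := by
      have e : ∑ ψ ∈ C.rst, C.c 1 ψ * C.c 2 ψ = -∑ ψ ∈ C.rst, C.c 1 ψ ^ 2 := by
        rw [← Finset.sum_neg_distrib]
        exact Finset.sum_congr rfl fun ψ hψ => by rw [hneg ψ hψ]; ring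
      linarith
    have hS2 : ∑ ψ ∈ C.rst, C.c 2 ψ ^ 2 = 2 := by
      rw [← hS]
      exact Finset.sum_congr rfl fun ψ hψ => by rw [hneg ψ hψ]; ring
    have n1 := C.norm_slot h10 h20 h12
    have n2 := C.norm_slot h20 h10 h12.symm
    rw [q1, v1, t1, hS] at n1
    rw [q2, v2, t2, hS2] at n2
    have hB : ∀ l : Fin 3, l ≠ 0 → C.B l = 4 → C.e l = 1 ∨ C.e l = -1 := fun l hl h =>
      C.eq_zero_or_of_B_eq (by rw [h, wt_ne_zero hl]; rfl)
    exact ⟨t1, t2, v1, v2, q1, q2, hneg, hS.le, hB 1 h10 (by nlinarith), hB 2 h20 (by nlinarith)⟩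
  · exact Or.inr (Or.inr (C.mix_of_slot h20 h10 h12.symm h2 h1))
  · exact Or.inr (Or.inl (C.mix_of_slot h10 h20 h12 h1 h2))
  · exfalso
    obtain ⟨v1, t1, q1, s1⟩ := h1
    obtain ⟨v2, t2, q2, s2⟩ := h2
    have ho := C.orth_slot h10 h20 h12
    rw [q1, q2, v1, v2, t1, t2] at ho
    have hsum : 0 ≤ ∑ ψ ∈ C.rst, (C.c 1 ψ + C.c 2 ψ) ^ 2 := Finset.sum_nonneg fun ψ _ => sq_nonneg _
    simp only [add_sq, Finset.sum_add_distrib, mul_assoc, ← Finset.mul_sum] at hsum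
    have hm0 := C.two_le_mZ 0
    have he : C.e 0 * C.e 0 = 1 := by rcases C.e_zero_sign with h | h <;> rw [h] <;> norm_num
    nlinarith

/-- The others seen by one of the three subgroups, `th` excepted. -/
noncomputable def inv : Finset (IrrCharacter G) := C.rst.filter fun ψ => C.c 1 ψ ≠ 0 ∨ C.c 2 ψ ≠ 0

/-- The others seen by none of the three subgroups. -/
noncomputable def unseen : Finset (IrrCharacter G) := C.rst.filter fun ψ => ¬(C.c 1 ψ ≠ 0 ∨ C.c 2 ψ ≠ 0)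

theorem card_R : C.R = 1 + C.inv.card + C.unseen.card := by
  rw [← C.card_others, inv, unseen, add_assoc, Finset.card_filter_add_card_filter_not, rst,
    Finset.card_erase_of_mem C.th_mem]
  have : 0 < C.others.card := Finset.card_pos.2 ⟨_, C.th_mem⟩
  omega

theorem supp_eq_of_mix {l k : Fin 3} (h : C.Mix l k) :
    C.inv = C.rst.filter (fun ψ => C.c l ψ ≠ 0) ∪ C.rst.filter (fun ψ => C.c k ψ ≠ 0) := by
  obtain ⟨hl, hk, hlk⟩ := h.hl, h.hk, h.ne
  ext ψ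
  simp only [inv, Finset.mem_union, Finset.mem_filter]
  fin_cases l <;> fin_cases k <;> first
    | exact absurd rfl hl | exact absurd rfl hk | exact absurd rfl hlk
    | (simp only [Fin.zero_eta, Fin.mk_one, Fin.reduceFinMk] <;> tauto)

theorem mix_inv {l k : Fin 3} (h : C.Mix l k) : C.inv = ∅ ∨ (C.m 0 = 2 ∧
    ((C.inv.card = 1) ∨ (C.inv.card = 2 ∧ C.c k (C.eta l) = 0 ∧ (C.e l = 1 ∨ C.e l = -1) ∧
      (C.e k = 1 ∨ C.e k = -1) ∧ ∃ a b, a ∈ C.rst ∧ b ∈ C.rst ∧ a ≠ b ∧ C.inv = {a, b} ∧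
        C.c l a ≠ 0 ∧ C.c l b = 0 ∧ C.c k b ≠ 0))) := by
  have hm0 := C.two_le_mZ 0
  have hml := C.two_le_mZ l
  have hsl := h.sl
  have hsk := h.sk
  have ho := h.or
  have cl := card_supp_le C.rst (C.c l)
  have ck := card_supp_le C.rst (C.c k)
  have hU := C.supp_eq_of_mix h
  have hle := Finset.card_union_le (C.rst.filter fun ψ => C.c l ψ ≠ 0) (C.rst.filter fun ψ => C.c k ψ ≠ 0)
  rw [← hU] at hle
  by_cases hq : C.c k (C.eta l) = 0
  · rw [hq] at hsk ho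
    simp only [ne_eq, OfNat.ofNat_ne_zero, not_false_eq_true, zero_pow, mul_zero, add_zero] at hsk ho
    obtain ⟨a, ha, hne⟩ : ∃ a ∈ C.rst, C.c l a * C.c k a ≠ 0 := by
      by_contra! h'
      rw [Finset.sum_eq_zero h'] at ho
      simp at ho
    obtain ⟨hla, hka⟩ := mul_ne_zero_iff.1 hne
    have hal : a ∈ C.rst.filter fun ψ => C.c l ψ ≠ 0 := Finset.mem_filter.2 ⟨ha, hla⟩
    have h1 : 1 ≤ (C.rst.filter fun ψ => C.c l ψ ≠ 0).card := Finset.card_pos.2 ⟨a, hal⟩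
    have hm : C.m 0 = 2 := by omega
    have hsupp : C.rst.filter (fun ψ => C.c l ψ ≠ 0) = {a} := by
      refine Finset.eq_singleton_iff_unique_mem.2 ⟨hal, fun x hx => ?_⟩
      by_contra hxa
      have : 1 < (C.rst.filter fun ψ => C.c l ψ ≠ 0).card := Finset.one_lt_card.2 ⟨x, hx, a, hal, hxa⟩
      omega
    have hinv : C.inv = C.rst.filter fun ψ => C.c k ψ ≠ 0 := by
      rw [hU, hsupp]
      exact Finset.union_eq_right.2 (Finset.singleton_subset_iff.2 (Finset.mem_filter.2 ⟨ha, hka⟩))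
    refine Or.inr ⟨hm, ?_⟩
    have hak : a ∈ C.inv := by rw [hinv]; exact Finset.mem_filter.2 ⟨ha, hka⟩
    have hpos : 1 ≤ C.inv.card := Finset.card_pos.2 ⟨a, hak⟩
    have h2 : C.inv.card ≤ 2 := by rw [hinv]; omega
    rcases Nat.lt_or_ge C.inv.card 2 with h' | h'
    · exact Or.inl (by omega)
    · refine Or.inr ⟨by omega, hq, ?_, ?_, ?_⟩
      · refine C.eq_zero_or_of_B_eq ?_
        have hn := C.norm_slot h.hl h.hk h.ne
        rw [h.ql, h.θl, h.vl] at hn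
        have he : (-C.e 0) ^ 2 = 1 := by rcases C.e_zero_sign with e | e <;> rw [e] <;> norm_num
        rw [he] at hn
        have hB := C.B_le l
        rw [wt_ne_zero h.hl] at hB ⊢
        push_cast at hB ⊢
        have h1' : (1 : ℤ) ≤ ∑ ψ ∈ C.rst, C.c l ψ ^ 2 := le_trans (by exact_mod_cast h1) cl
        have hm' : (C.m 0 : ℤ) = 2 := by exact_mod_cast hm
        linarith
      · refine C.eq_zero_or_of_B_eq ?_
        have hn := C.norm_slot h.hk h.hl h.ne.symm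
        rw [hq, h.θk, h.vk] at hn
        have hδ : (-C.δ) ^ 2 = 1 := by rcases C.δ_sign with e | e <;> rw [e] <;> norm_num
        rw [hδ] at hn
        have hB := C.B_le k
        rw [wt_ne_zero h.hk] at hB ⊢
        push_cast at hB ⊢
        have h2' : (2 : ℤ) ≤ ∑ ψ ∈ C.rst, C.c k ψ ^ 2 := by
          refine le_trans ?_ ck
          rw [← hinv]; omega
        linarith
      · obtain ⟨x, y, hxy, hset⟩ := Finset.card_eq_two.1 (show C.inv.card = 2 by omega)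
        obtain ⟨b, hb, hba⟩ := Finset.exists_mem_ne (show 1 < C.inv.card by omega) a
        have hb' := hb
        rw [hinv, Finset.mem_filter] at hb'
        refine ⟨a, b, ha, hb'.1, hba.symm, ?_, hla, ?_, hb'.2⟩
        · refine (Finset.eq_of_subset_of_card_le ?_ ?_).symm
          · exact Finset.insert_subset_iff.2 ⟨hak, Finset.singleton_subset_iff.2 hb⟩
          · rw [Finset.card_pair hba.symm]; omega
        · by_contra hlb
          have : b ∈ ({a} : Finset (IrrCharacter G)) := hsupp ▸ Finset.mem_filter.2 ⟨hb'.1, hlb⟩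
          exact hba (Finset.mem_singleton.1 this)
  · have hq2 := sq_pos_of_ne_zero hq
    have hk0 : ∑ ψ ∈ C.rst, C.c k ψ ^ 2 ≤ 0 := by nlinarith
    rcases C.inv.eq_empty_or_nonempty with he | he
    · exact Or.inl he
    · have hpos := Finset.card_pos.2 he
      refine Or.inr ⟨?_, Or.inl ?_⟩ <;> omega

theorem inv_le : C.inv.card ≤ 2 := by
  rcases C.type_cases with h | h | h
  · have hsub : C.inv ⊆ C.rst.filter fun ψ => C.c 1 ψ ≠ 0 := fun ψ hψ => by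
      obtain ⟨hr, hc⟩ := Finset.mem_filter.1 hψ
      refine Finset.mem_filter.2 ⟨hr, fun e => ?_⟩
      have := h.neg ψ hr
      rw [e, neg_zero] at this
      exact hc.elim (fun f => f e) (fun f => f this)
    have := card_supp_le C.rst (C.c 1)
    have := h.sq
    have := Finset.card_le_card hsub
    omega
  all_goals
    rcases C.mix_inv h with h' | ⟨-, h' | ⟨h', -⟩⟩
    · rw [h']; simp
    · omega
    · omega

theorem unseen_c {ψ : IrrCharacter G} (h : ψ ∈ C.unseen) (i : Fin 3) : C.c i ψ = 0 := by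
  obtain ⟨hr, hc⟩ := Finset.mem_filter.1 h
  push Not at hc
  fin_cases i
  · exact C.c_zero_rst hr
  · exact hc.1
  · exact hc.2

theorem unseen_lt : C.unseen.card * C.N < C.M := by
  haveI := Fintype.ofFinite (IrrCharacter G)
  obtain ⟨z, hz, hpos⟩ := C.exists_col_one
  have hdeg : ∀ ψ ∈ C.unseen, (C.N : ℤ) ≤ z ψ := fun ψ hψ => by
    obtain ⟨d, hd⟩ : ∃ d : ℕ, z ψ = d := ⟨(z ψ).toNat, (Int.toNat_of_nonneg (hpos ψ).le).symm⟩
    have hd' : (ψ : G → ℂ) 1 = d := by rw [hz.2 ψ, hd]; simp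
    have hfam := (C.mem_others.1 (Finset.mem_of_mem_erase (Finset.mem_filter.1 hψ).1)).2
    have hdvd := fun i => C.dvd_degree (hfam i) (C.unseen_c hψ i) hd'
    have hN : C.N ∣ d := by
      unfold Hyp.N
      exact Nat.Coprime.mul_dvd_of_dvd_of_dvd
        (Nat.Coprime.mul_left (C.pairwise_coprime (by decide)) (C.pairwise_coprime (by decide)))
        (Nat.Coprime.mul_dvd_of_dvd_of_dvd (C.pairwise_coprime (by decide)) (hdvd 0) (hdvd 1)) (hdvd 2)
    have h0 := hpos ψ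
    rw [hd] at h0 ⊢
    exact_mod_cast Nat.le_of_dvd (by exact_mod_cast h0) hN
  have hn := C.col_norm hz
  have hC : Nat.card (Subgroup.centralizer ({(1 : G)} : Set G)) = Nat.card G := by
    rw [show Subgroup.centralizer ({(1 : G)} : Set G) = ⊤ by
      ext x; simp [Subgroup.mem_centralizer_singleton_iff], Subgroup.card_top]
  rw [hC, C.card_eq] at hn
  have hsub : C.unseen ⊆ C.others := fun ψ hψ => Finset.mem_of_mem_erase (Finset.mem_filter.1 hψ).1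
  have h1 : (C.unseen.card : ℤ) * (C.N : ℤ) ^ 2 ≤ ∑ ψ ∈ C.others, z ψ ^ 2 := by
    refine le_trans ?_ (Finset.sum_le_sum_of_subset_of_nonneg hsub fun x _ _ => sq_nonneg _)
    rw [← nsmul_eq_mul, ← Finset.sum_const]
    exact Finset.sum_le_sum fun ψ hψ => by
      have := hdeg ψ hψ
      have : (0 : ℤ) ≤ C.N := Nat.cast_nonneg _
      gcongr
  push_cast at hn
  have hm : ∀ i, 0 ≤ (C.m i : ℤ) * z (C.eta i) ^ 2 := fun i =>
    mul_nonneg (Nat.cast_nonneg _) (sq_nonneg _)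
  have hlt : (C.unseen.card : ℤ) * C.N < C.M := by
    refine lt_of_mul_lt_mul_left (a := (C.N : ℤ)) ?_ (Nat.cast_nonneg _)
    linarith [hm 0, hm 1, hm 2]
  exact_mod_cast hlt

theorem R_facts : C.R ≤ 5 ∧ (4 ≤ C.R → C.N < C.M) ∧ (C.R = 5 → 2 * C.N < C.M ∧ C.inv.card = 2) := by
  have hu := C.unseen_lt
  have hM := C.M_le
  have hR := C.card_R
  have hi := C.inv_le
  have h3 : C.unseen.card < 3 := lt_of_mul_lt_mul_right (hu.trans_le hM) (Nat.zero_le _)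
  refine ⟨by omega, fun h => ?_, fun h => ?_⟩
  · refine lt_of_le_of_lt (Nat.le_mul_of_pos_left _ ?_) hu
    omega
  · have e : C.unseen.card = 2 := by omega
    rw [e] at hu
    exact ⟨hu, by omega⟩

theorem std_of_large (hR : 4 ≤ C.R) (h0 : 3 ≤ C.m 0) : C.Std := by
  have hu := C.unseen_lt
  have hM := C.M_le
  have hR' := C.card_R
  have h3 : C.unseen.card < 3 := lt_of_mul_lt_mul_right (hu.trans_le hM) (Nat.zero_le _)
  rcases C.type_cases with h | h | h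
  · exact h
  all_goals
    rcases C.mix_inv h with h' | ⟨h', -⟩
    · rw [h', Finset.card_empty] at hR'; omega
    · omega

theorem std_bracket (h : C.Std) {g : G} {z : IrrCharacter G → ℤ} (hz : C.Col g z) :
    ∃ τ Y : ℤ, τ = C.δ * z C.th ∧ Y = ∑ ψ ∈ C.rst, C.c 1 ψ * z ψ ∧
      1 + (τ ^ 2 + C.m 0 * (1 + τ) ^ 2 + C.m 1 * (1 - τ + Y) ^ 2 + C.m 2 * (1 - τ - Y) ^ 2) +
        ∑ ψ ∈ C.rst, z ψ ^ 2 = Nat.card (Subgroup.centralizer ({g} : Set G)) := by
  refine ⟨_, _, rfl, rfl, ?_⟩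
  have hY : ∑ ψ ∈ C.rst, C.c 2 ψ * z ψ = -∑ ψ ∈ C.rst, C.c 1 ψ * z ψ := by
    rw [← Finset.sum_neg_distrib]
    exact Finset.sum_congr rfl fun ψ hψ => by rw [h.neg ψ hψ]; ring
  have r0 := C.rel_zero hz
  have r1 := C.rel_slot hz (l := 1) (k := 2) (by decide) (by decide) (by decide)
  have r2 := C.rel_slot hz (l := 2) (k := 1) (by decide) (by decide) (by decide)
  rw [h.θ₁, h.v₁, h.q₁] at r1
  rw [h.θ₂, h.v₂, h.q₂, hY] at r2
  have hn := C.col_norm hz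
  rw [C.sum_others_eq] at hn
  have sq_of : ∀ {e : ℤ}, e = 1 ∨ e = -1 → e ^ 2 = 1 := fun h => sq_eq_one_iff.2 h
  have d1 : (C.δ * z C.th) ^ 2 = z C.th ^ 2 := by rw [mul_pow, sq_of C.δ_sign, one_mul]
  have d0 : (1 + C.δ * z C.th) ^ 2 = z (C.eta 0) ^ 2 := by
    rw [show 1 + C.δ * z C.th = -(C.e 0 * z (C.eta 0)) by linarith, neg_sq, mul_pow,
      sq_of C.e_zero_sign, one_mul]
  have f1 : (1 - C.δ * z C.th + ∑ ψ ∈ C.rst, C.c 1 ψ * z ψ) ^ 2 = z (C.eta 1) ^ 2 := by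
    rw [show 1 - C.δ * z C.th + ∑ ψ ∈ C.rst, C.c 1 ψ * z ψ = -(C.e 1 * z (C.eta 1)) by linarith,
      neg_sq, mul_pow, sq_of h.e₁, one_mul]
  have f2 : (1 - C.δ * z C.th - ∑ ψ ∈ C.rst, C.c 1 ψ * z ψ) ^ 2 = z (C.eta 2) ^ 2 := by
    rw [show 1 - C.δ * z C.th - ∑ ψ ∈ C.rst, C.c 1 ψ * z ψ = -(C.e 2 * z (C.eta 2)) by linarith,
      neg_sq, mul_pow, sq_of h.e₂, one_mul]
  rw [d1, d0, f1, f2]
  linarith

theorem m_sum_le (hR : 4 ≤ C.R) (h0 : 3 ≤ C.m 0) {g : G} {z : IrrCharacter G → ℤ} (hz : C.Col g z)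
    (hC : Nat.card (Subgroup.centralizer ({g} : Set G)) = 10) : C.m 0 + C.m 1 + C.m 2 ≤ 9 := by
  obtain ⟨τ, Y, -, -, h⟩ := C.std_bracket (C.std_of_large hR h0) hz
  rw [hC] at h
  push_cast at h
  have hs : 0 ≤ ∑ ψ ∈ C.rst, z ψ ^ 2 := Finset.sum_nonneg fun ψ _ => sq_nonneg _
  have := bracket_small (τ := τ) (Y := Y) (m₀ := C.m 0) (by exact_mod_cast h0) (C.two_le_mZ 1)
    (C.two_le_mZ 2) (by linarith)
  exact_mod_cast this

theorem no_pair (hR : C.R = 5) (h1 : 3 ≤ C.m 1) (h2 : 3 ≤ C.m 2) {g g' : G}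
    {z z' d : IrrCharacter G → ℤ} (hz : C.Col g z) (hz' : C.Col g' z') (hne : ¬ IsConj g g')
    (hC : Nat.card (Subgroup.centralizer ({g} : Set G)) = 36)
    (hC' : Nat.card (Subgroup.centralizer ({g'} : Set G)) = 12)
    (hd : ∀ ψ, z ψ - z' ψ = 4 * d ψ) : False := by
  have hz'' : ∀ ψ, z ψ = z' ψ + 4 * d ψ := fun ψ => by linarith [hd ψ]
  have n1 := C.col_norm hz
  have n2 := C.col_norm hz'
  have n3 := C.col_inner hz hz' hne
  rw [hC] at n1
  rw [hC'] at n2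
  rw [C.sum_others_eq] at n1 n2 n3
  have e1 : ∑ ψ ∈ C.rst, z ψ ^ 2 = ∑ ψ ∈ C.rst, z' ψ ^ 2 + 8 * ∑ ψ ∈ C.rst, d ψ * z' ψ +
      16 * ∑ ψ ∈ C.rst, d ψ ^ 2 := by
    simp only [Finset.mul_sum, ← Finset.sum_add_distrib]
    exact Finset.sum_congr rfl fun ψ _ => by rw [hz'']; ring
  have e3 : ∑ ψ ∈ C.rst, z ψ * z' ψ = ∑ ψ ∈ C.rst, z' ψ ^ 2 + 4 * ∑ ψ ∈ C.rst, d ψ * z' ψ := by
    simp only [Finset.mul_sum, ← Finset.sum_add_distrib]
    exact Finset.sum_congr rfl fun ψ _ => by rw [hz'']; ring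
  rw [e1, hz'' C.th, hz'' (C.eta 0), hz'' (C.eta 1), hz'' (C.eta 2)] at n1
  rw [e3, hz'' C.th, hz'' (C.eta 0), hz'' (C.eta 1), hz'' (C.eta 2)] at n3
  push_cast at n1 n2
  have hsq : d C.th ^ 2 + ∑ ψ ∈ C.rst, d ψ ^ 2 + (C.m 0 * d (C.eta 0) ^ 2 + C.m 1 * d (C.eta 1) ^ 2 +
      C.m 2 * d (C.eta 2) ^ 2) = 3 := by
    linarith
  have hip : d C.th * z' C.th + ∑ ψ ∈ C.rst, d ψ * z' ψ + (C.m 0 * (d (C.eta 0) * z' (C.eta 0)) +
      C.m 1 * (d (C.eta 1) * z' (C.eta 1)) + C.m 2 * (d (C.eta 2) * z' (C.eta 2))) = -3 := by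
    linarith
  have p0 : 0 ≤ ∑ ψ ∈ C.rst, d ψ ^ 2 := Finset.sum_nonneg fun ψ _ => sq_nonneg _
  have hm0 := C.two_le_mZ 0
  have hm1 : (3 : ℤ) ≤ C.m 1 := by exact_mod_cast h1
  have hm2 : (3 : ℤ) ≤ C.m 2 := by exact_mod_cast h2
  have h7 : (7 : ℤ) ≤ C.m 1 + C.m 2 := by
    have := C.m_ne
    omega
  have r0 := C.rel_zero hz
  have r0' := C.rel_zero hz'
  rw [hz'', hz''] at r0
  have hd0 : C.δ * d C.th + C.e 0 * d (C.eta 0) = 0 := by linarith
  have hθ0 : d C.th ^ 2 = d (C.eta 0) ^ 2 := by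
    have e := congrArg (· ^ 2) (show C.δ * d C.th = -(C.e 0 * d (C.eta 0)) by linarith)
    simp only [neg_sq, mul_pow, sq_eq_one_iff.2 C.δ_sign, sq_eq_one_iff.2 C.e_zero_sign, one_mul] at e
    exact e
  have hlin : ∀ {l k : Fin 3}, l ≠ 0 → k ≠ 0 → l ≠ k →
      C.c l C.th * d C.th + ∑ ψ ∈ C.rst, C.c l ψ * d ψ + C.e l * d (C.eta l) +
        C.m 0 * C.c l (C.eta 0) * d (C.eta 0) + C.m k * C.c l (C.eta k) * d (C.eta k) = 0 := by
    intro l k hl hk hlk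
    have r := C.rel_slot hz hl hk hlk
    have r' := C.rel_slot hz' hl hk hlk
    simp only [hz'', mul_add, Finset.sum_add_distrib, mul_left_comm _ (4 : ℤ), ← Finset.mul_sum] at r
    linarith
  have hfam : ∀ l : Fin 3, l ≠ 0 → (C.m l : ℤ) * d (C.eta l) ^ 2 ≤ 3 - d C.th ^ 2 * 3 := by
    intro l hl
    have p1 : 0 ≤ (C.m 1 : ℤ) * d (C.eta 1) ^ 2 := mul_nonneg (by linarith) (sq_nonneg _)
    have p2 : 0 ≤ (C.m 2 : ℤ) * d (C.eta 2) ^ 2 := mul_nonneg (by linarith) (sq_nonneg _)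
    have p : 2 * d C.th ^ 2 ≤ C.m 0 * d (C.eta 0) ^ 2 := by
      rw [hθ0]; exact mul_le_mul_of_nonneg_right hm0 (sq_nonneg _)
    fin_cases l
    · exact absurd rfl hl
    · simp only [Fin.mk_one]; linarith
    · simp only [Fin.reduceFinMk]; linarith
  have hθ : d C.th = 0 := by
    by_contra hθ
    have hθ1 := sq_pos_of_ne_zero hθ
    have z1 : d (C.eta 1) = 0 := by
      by_contra h
      nlinarith [sq_pos_of_ne_zero h, hfam 1 (by decide)]
    have z2 : d (C.eta 2) = 0 := by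
      by_contra h
      nlinarith [sq_pos_of_ne_zero h, hfam 2 (by decide)]
    have hr : ∑ ψ ∈ C.rst, d ψ ^ 2 ≤ 0 := by
      rw [z1, z2] at hsq
      have : 2 * d C.th ^ 2 ≤ C.m 0 * d (C.eta 0) ^ 2 := by
        rw [hθ0]; exact mul_le_mul_of_nonneg_right hm0 (sq_nonneg _)
      linarith
    have hz0 := eq_zero_of_sum_sq hr
    have hsum : ∀ l : Fin 3, ∑ ψ ∈ C.rst, C.c l ψ * d ψ = 0 := fun l =>
      Finset.sum_eq_zero fun ψ hψ => by rw [hz0 ψ hψ, mul_zero]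
    rcases C.type_cases with h | h | h
    · have := hlin (l := 1) (k := 2) (by decide) (by decide) (by decide)
      rw [hsum, z1, h.v₁, h.q₁, h.θ₁] at this
      rcases C.δ_sign with e | e <;> rw [e] at this <;> apply hθ <;> linarith
    all_goals
      have := hlin h.hk h.hl h.ne.symm
      rw [hsum, z1, z2, h.vk, h.θk] at this
      rcases C.δ_sign with e | e <;> rw [e] at this <;> apply hθ <;> linarith
  have he0 : d (C.eta 0) = 0 := by
    rw [hθ] at hθ0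
    simpa using hθ0.symm
  rw [hθ, he0] at hsq hip
  simp only [ne_eq, OfNat.ofNat_ne_zero, not_false_eq_true, zero_pow, mul_zero, zero_mul, zero_add] at hsq hip
  obtain ⟨-, -, hR5⟩ := C.R_facts
  have hinv := (hR5 hR).2
  rcases C.type_cases with h | h | h
  · have l1 := hlin (l := 1) (k := 2) (by decide) (by decide) (by decide)
    have l2 := hlin (l := 2) (k := 1) (by decide) (by decide) (by decide)
    have hY : ∑ ψ ∈ C.rst, C.c 2 ψ * d ψ = -∑ ψ ∈ C.rst, C.c 1 ψ * d ψ := by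
      rw [← Finset.sum_neg_distrib]
      exact Finset.sum_congr rfl fun ψ hψ => by rw [h.neg ψ hψ]; ring
    rw [hθ, he0, h.q₁] at l1
    rw [hθ, he0, h.q₂, hY] at l2
    have s12 : d (C.eta 1) ^ 2 = d (C.eta 2) ^ 2 := by
      have e := congrArg (· ^ 2) (show C.e 1 * d (C.eta 1) = -(C.e 2 * d (C.eta 2)) by linarith)
      simp only [neg_sq, mul_pow, sq_eq_one_iff.2 h.e₁, sq_eq_one_iff.2 h.e₂, one_mul] at e
      exact e
    have z1 : d (C.eta 1) = 0 := by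
      by_contra hz1
      have hp := sq_pos_of_ne_zero hz1
      have e2 : (C.m 1 + C.m 2 : ℤ) * d (C.eta 1) ^ 2 ≤ 3 := by
        rw [add_mul]; nth_rewrite 2 [s12]; linarith
      nlinarith
    have z2 : d (C.eta 2) = 0 := by
      rw [z1] at s12
      simpa using s12.symm
    rw [z1, z2] at hsq hip
    simp only [ne_eq, OfNat.ofNat_ne_zero, not_false_eq_true, zero_pow, mul_zero, zero_mul, add_zero]
      at hsq hip
    obtain ⟨τ, Y, -, -, hb⟩ := C.std_bracket h hz'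
    rw [hC'] at hb
    push_cast at hb
    have h9 := nine_le_bracket (τ := τ) (Y := Y) (m₀ := C.m 0) hm0 hm1 hm2 h7
    have hcs : 0 ≤ ∑ ψ ∈ C.rst, (z' ψ + d ψ) ^ 2 := Finset.sum_nonneg fun ψ _ => sq_nonneg _
    have hcomm : ∑ ψ ∈ C.rst, z' ψ * d ψ = ∑ ψ ∈ C.rst, d ψ * z' ψ :=
      Finset.sum_congr rfl fun ψ _ => mul_comm _ _
    simp only [add_sq, Finset.sum_add_distrib, mul_assoc, ← Finset.mul_sum] at hcs
    linarith
  all_goals
    rcases C.mix_inv h with h' | ⟨-, h' | ⟨-, hq, hel, hek, a, b, ha, hb, hab, hset, hla, hlb, hkb⟩⟩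
    · rw [h'] at hinv; simp at hinv
    · omega
    have ll := hlin h.hl h.hk h.ne
    have lk := hlin h.hk h.hl h.ne.symm
    rw [hθ, he0, h.ql] at ll
    rw [hθ, he0, hq] at lk
    simp only [mul_zero, zero_mul, zero_add, add_zero] at ll lk
    have hsub : C.inv ⊆ C.rst := Finset.filter_subset _ _
    have hvan : ∀ l : Fin 3, l ≠ 0 → ∀ ψ ∈ C.rst, ψ ∉ C.inv → C.c l ψ = 0 := fun l hl ψ hψ hn => by
      by_contra hc
      refine hn (Finset.mem_filter.2 ⟨hψ, ?_⟩)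
      fin_cases l
      · exact absurd rfl hl
      · exact Or.inl hc
      · exact Or.inr hc
    have hred : ∀ l : Fin 3, l ≠ 0 →
        ∑ ψ ∈ C.rst, C.c l ψ * d ψ = C.c l a * d a + C.c l b * d b := fun l hl => by
      rw [← Finset.sum_subset hsub fun ψ hψ hn => by rw [hvan l hl ψ hψ hn, zero_mul], hset,
        Finset.sum_pair hab]
    rw [hred _ h.hl, hlb, zero_mul, add_zero] at ll
    rw [hred _ h.hk] at lk
    have zl : d (C.eta 1) = 0 ∧ d (C.eta 2) = 0 := by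
      by_contra hcon
      have f1 := hfam 1 (by decide)
      have f2 := hfam 2 (by decide)
      rw [hθ] at f1 f2
      have hr : ∑ ψ ∈ C.rst, d ψ ^ 2 ≤ 0 := by
        rcases not_and_or.1 hcon with hh | hh <;> nlinarith [sq_pos_of_ne_zero hh]
      have hz0 := eq_zero_of_sum_sq hr
      rw [hz0 a ha, mul_zero, zero_add] at ll
      rw [hz0 a ha, hz0 b hb, mul_zero, mul_zero, zero_add, zero_add] at lk
      refine hcon ⟨?_, ?_⟩ <;>
        first
          | exact (mul_eq_zero.1 ll).resolve_left (C.e_ne_zero _)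
          | exact (mul_eq_zero.1 lk).resolve_left (C.e_ne_zero _)
    obtain ⟨z1, z2⟩ := zl
    rw [z1, z2] at hsq
    simp only [z1, z2, mul_zero, zero_mul, add_zero] at ll lk
    simp only [ne_eq, OfNat.ofNat_ne_zero, not_false_eq_true, zero_pow, mul_zero, add_zero] at hsq
    have da : d a = 0 := (mul_eq_zero.1 ll).resolve_left hla
    rw [da, mul_zero, zero_add] at lk
    have db : d b = 0 := (mul_eq_zero.1 lk).resolve_left hkb
    have hU : ∑ ψ ∈ C.rst, d ψ ^ 2 = ∑ ψ ∈ C.unseen, d ψ ^ 2 := by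
      refine (Finset.sum_subset (Finset.filter_subset _ _) fun ψ hψ hn => ?_).symm
      have : ψ ∈ C.inv := by
        by_contra hi
        exact hn (Finset.mem_filter.2 ⟨hψ, fun hc => hi (Finset.mem_filter.2 ⟨hψ, hc⟩)⟩)
      rw [hset] at this
      rcases Finset.mem_insert.1 this with e | e
      · rw [e, da]; ring
      · rw [Finset.mem_singleton.1 e, db]; ring
    have hcard := C.card_R
    obtain ⟨x, y, hxy, hxyU⟩ := Finset.card_eq_two.1 (show C.unseen.card = 2 by omega)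
    rw [hU, hxyU, Finset.sum_pair hxy] at hsq
    have hx : d x ≤ 1 ∧ -1 ≤ d x := by constructor <;> nlinarith [sq_nonneg (d y)]
    have hy : d y ≤ 1 ∧ -1 ≤ d y := by constructor <;> nlinarith [sq_nonneg (d x)]
    nlinarith

end Coh

end CfsgLib.CIT.ThreeSystems
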