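import Mathlib
import Cfsg.Agent.Lib.CIT.ThreeSystems.Config
import Cfsg.Agent.Lib.CIT.ThreeSystems.Pieces

/-!
# Three self-centralizing systems: an element of odd order commuting with an involution

`Loc D` records an involution `t` and a commuting element `x` of odd prime order `r`.  Then `r` is three or
five, there is one class of elements of order `2r`, and the centralizer of `x * t` has order `2 r ^ c` or
`4 * 3 ^ c`.
-/

set_option autoImplicit false
set_option linter.unusedSectionVars false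
set_option linter.style.haveILetI false
set_option linter.style.openClassical false

namespace CfsgLib.CIT.ThreeSystems

open Cfsg Subgroup
open scoped Classical

universe u

variable {G : Type u} [Group G] [Fintype G]

theorem isConj_orderOf {a b : G} (h : IsConj a b) : orderOf a = orderOf b := by
  obtain ⟨y, rfl⟩ := isConj_iff.1 h
  rw [orderOf_conj_eq]

theorem not_isConj_of_orderOf {a b : G} (h : orderOf a ≠ orderOf b) : ¬ IsConj a b :=
  fun h' => h (isConj_orderOf h')

theorem card_centralizer_isConj {a b : G} (h : IsConj a b) :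
    Nat.card (centralizer ({a} : Set G)) = Nat.card (centralizer ({b} : Set G)) := by
  have e : Hyp.cls a = Hyp.cls b := by
    ext z
    rw [mem_cls, mem_cls]
    exact ⟨h.symm.trans, h.trans⟩
  have h1 := Hyp.card_cls a
  rw [e, ← Hyp.card_cls b] at h1
  exact Nat.eq_of_mul_eq_mul_left (Finset.card_pos.2 ⟨b, mem_cls.2 (IsConj.refl b)⟩) h1

namespace Hyp

variable (D : Hyp G)

theorem R_le : D.R ≤ 5 := by
  obtain ⟨C, rfl⟩ := D.exists_coh
  exact C.R_facts.1

theorem N_lt_M (h : 4 ≤ D.R) : D.N < D.M := by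
  obtain ⟨C, rfl⟩ := D.exists_coh
  exact C.R_facts.2.1 h

theorem two_N_lt_M (h : D.R = 5) : 2 * D.N < D.M := by
  obtain ⟨C, rfl⟩ := D.exists_coh
  exact (C.R_facts.2.2 h).1

theorem M_coprime_N : D.M.Coprime D.N := by
  refine Nat.coprime_of_dvd fun p hp hM hN => ?_
  obtain ⟨i, hi⟩ := D.dvd_n_of_dvd_N hp hN
  refine Nat.not_coprime_of_dvd_of_dvd hp.one_lt hi ?_ (D.n_coprime_index i)
  obtain ⟨k, hk⟩ := D.n_dvd_N i
  have h := Subgroup.card_mul_index (D.A i)
  rw [D.card_eq, hk, mul_assoc] at h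
  rw [Nat.eq_of_mul_eq_mul_left (D.n_pos i) h]
  exact hM.trans (dvd_mul_left _ _)

theorem dvd_M_of_coprime {n : ℕ} (h : n ∣ Nat.card G) (hc : n.Coprime D.N) : n ∣ D.M :=
  hc.dvd_of_dvd_mul_left (by rwa [← D.card_eq])

theorem prime_dvd_M {p : ℕ} (hp : p.Prime) (h : p ∣ D.M) : ∃ g : G, orderOf g = p ∧ D.Rest g := by
  haveI := Fact.mk hp
  obtain ⟨g, hg⟩ := exists_prime_orderOf_dvd_card' (G := G) p
    (h.trans (by rw [D.card_eq]; exact dvd_mul_left _ _))
  exact ⟨g, hg, D.rest_of_prime hp hg fun hN => Nat.not_coprime_of_dvd_of_dvd hp.one_lt h hN D.M_coprime_N⟩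

/-- An involution central in a Sylow two-subgroup. -/
theorem exists_central_two (D : Hyp G) : ∃ z : G, orderOf z = 2 ∧ ∀ k, 2 ^ k ∣ Nat.card G →
    2 ^ k ∣ Nat.card (centralizer ({z} : Set G)) := by
  haveI : Fact (Nat.Prime 2) := ⟨Nat.prime_two⟩
  obtain ⟨y, hyN, hy⟩ := D.exists_involution 0
  obtain ⟨P, hP⟩ := (IsPGroup.of_card (n := 1)
    (by rw [pow_one, Nat.card_zpowers, hy] : Nat.card (Subgroup.zpowers y) = 2 ^ 1)).exists_le_sylow
  obtain ⟨z, hzP, hz, hzc⟩ := exists_central_invol P.isPGroup' (fun e => by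
    have := hP (Subgroup.mem_zpowers y)
    rw [e, Subgroup.mem_bot] at this
    rw [this, orderOf_one] at hy
    omega)
  refine ⟨z, hz, fun k hk => (P.pow_dvd_card_of_pow_dvd_card hk).trans ?_⟩
  exact Subgroup.card_dvd_of_le fun g hg => mem_centralizer_of_commute (hzc g hg)

theorem reps_le (l : List G) (hr : ∀ g ∈ l, D.Rest g) (hp : l.Pairwise fun a b => ¬ IsConj a b) :
    l.length ≤ D.R := by
  have hnd : l.Nodup := hp.imp fun {a b} h e => h (by rw [e])
  rw [← List.toFinset_card_of_nodup hnd]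
  refine D.card_le_R _ (fun g hg => hr g (List.mem_toFinset.1 hg)) fun g hg g' hg' hc => ?_
  by_contra hne
  have : Std.Symm fun a b : G => ¬ IsConj a b := ⟨fun a b h h' => h h'.symm⟩
  exact hp.forall (List.mem_toFinset.1 hg) (List.mem_toFinset.1 hg') hne hc

theorem orders_le (s : List ℕ) (hs : s.Nodup) (h : ∀ k ∈ s, ∃ g, D.Rest g ∧ orderOf g = k) :
    s.length ≤ D.R := by
  choose f hf hk using h
  have hlen := D.reps_le (s.attach.map fun k => f k.1 k.2) (fun g hg => by
    obtain ⟨k, -, rfl⟩ := List.mem_map.1 hg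
    exact hf _ _) ?_
  · simpa using hlen
  · rw [List.pairwise_map]
    refine (List.nodup_attach.2 hs).imp fun {a b} hab => not_isConj_of_orderOf ?_
    rw [hk, hk]
    exact fun e => hab (Subtype.ext e)

theorem orders_pair_le (s : List ℕ) (hs : s.Nodup) (h : ∀ k ∈ s, ∃ g, D.Rest g ∧ orderOf g = k)
    {g g' : G} (hg : D.Rest g) (hg' : D.Rest g') (he : orderOf g = orderOf g')
    (hne : ¬ IsConj g g') (hns : orderOf g ∉ s) : s.length + 2 ≤ D.R := by
  choose f hf hk using h
  have hlen := D.reps_le (g :: g' :: s.attach.map fun k => f k.1 k.2) (fun z hz => by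
    rcases List.mem_cons.1 hz with rfl | hz
    · exact hg
    rcases List.mem_cons.1 hz with rfl | hz
    · exact hg'
    obtain ⟨k, -, rfl⟩ := List.mem_map.1 hz
    exact hf _ _) ?_
  · simp only [List.length_cons, List.length_map, List.length_attach] at hlen
    omega
  · refine List.pairwise_cons.2 ⟨fun z hz => ?_, List.pairwise_cons.2 ⟨fun z hz => ?_, ?_⟩⟩
    · rcases List.mem_cons.1 hz with rfl | hz
      · exact hne
      obtain ⟨k, -, rfl⟩ := List.mem_map.1 hz
      exact not_isConj_of_orderOf (by rw [hk]; exact fun e => hns (e ▸ k.2))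
    · obtain ⟨k, -, rfl⟩ := List.mem_map.1 hz
      exact not_isConj_of_orderOf (by rw [hk, ← he]; exact fun e => hns (e ▸ k.2))
    · rw [List.pairwise_map]
      refine (List.nodup_attach.2 hs).imp fun {a b} hab => not_isConj_of_orderOf ?_
      rw [hk, hk]
      exact fun e => hab (Subtype.ext e)

end Hyp

/-- An involution commuting with an element of odd prime order. -/
structure Loc (D : Hyp G) where
  t : G
  x : G
  r : ℕ
  ht : orderOf t = 2
  hr : r.Prime
  hr2 : r ≠ 2
  hx : orderOf x = r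
  comm : Commute x t
  ab : ∀ p : ℕ, p.Prime → p ≠ 2 → ¬ p ∣ D.N → ∀ P : Sylow p G, IsMulCommutative ↥(P : Subgroup G)

namespace Loc

variable {D : Hyp G} (L : Loc D)

theorem r_fact : Fact L.r.Prime := ⟨L.hr⟩

theorem r_odd : Odd L.r := L.hr.odd_of_ne_two L.hr2

theorem three_le_r : 3 ≤ L.r := by
  have := L.hr.two_le; have := L.hr2; omega

theorem rest_t : D.Rest L.t := D.rest_of_even (by rw [L.ht])

theorem not_dvd_N_of_commute {u z : G} {p : ℕ} (hu : D.Rest u) (hz : orderOf z = p) (hp : p.Prime)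
    (hc : Commute z u) : ¬ p ∣ D.N := fun h => by
  refine Nat.not_coprime_of_dvd_of_dvd hp.one_lt ?_ h (D.centralizer_coprime hu)
  rw [← hz]
  exact Subgroup.orderOf_dvd_natCard _ (mem_centralizer_of_commute hc)

theorem rN : ¬ L.r ∣ D.N := not_dvd_N_of_commute L.rest_t L.hx L.hr L.comm

theorem rest_x : D.Rest L.x := D.rest_of_prime L.hr L.hx L.rN

theorem ord_mul {a u : G} (ha : orderOf a = L.r) (hu : orderOf u = 2) (h : Commute a u) :
    orderOf (a * u) = 2 * L.r := by
  rw [h.orderOf_mul_eq_mul_orderOf_of_coprime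
    (by rw [ha, hu]; exact (Nat.coprime_primes L.hr Nat.prime_two).2 L.hr2), ha, hu, mul_comm]

theorem ord_xt : orderOf (L.x * L.t) = 2 * L.r := L.ord_mul L.hx L.ht L.comm

theorem rest_xt : D.Rest (L.x * L.t) := D.rest_of_even (by rw [L.ord_xt]; exact dvd_mul_right 2 _)

theorem exists_four' (L : Loc D) : ∃ y : G, orderOf y = 4 ∧ D.Rest y := by
  obtain ⟨y, -, hy⟩ := D.exists_four (i := 1) rfl
  exact ⟨y, hy, D.rest_of_even (by rw [hy]; norm_num)⟩

/-- The four standard orders. -/
theorem basic_orders : ∀ k ∈ [2, 4, L.r, 2 * L.r], ∃ g, D.Rest g ∧ orderOf g = k := by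
  intro k hk
  simp only [List.mem_cons, List.not_mem_nil, or_false] at hk
  rcases hk with rfl | rfl | rfl | rfl
  · exact ⟨_, L.rest_t, L.ht⟩
  · obtain ⟨y, hy, hy'⟩ := L.exists_four'
    exact ⟨y, hy', hy⟩
  · exact ⟨_, L.rest_x, L.hx⟩
  · exact ⟨_, L.rest_xt, L.ord_xt⟩

theorem four_le_R (L : Loc D) : 4 ≤ D.R := by
  refine D.orders_le [2, 4, L.r, 2 * L.r] ?_ L.basic_orders
  have h := L.three_le_r
  obtain ⟨j, hj⟩ := L.r_odd
  simp only [List.nodup_cons, List.mem_cons, List.not_mem_nil, or_false, List.nodup_nil, and_true,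
    not_or, not_false_eq_true]
  omega

/-- Two further orders are impossible. -/
theorem false_of_two_orders {g h : G} (hg : D.Rest g) (hh : D.Rest h)
    (hne : orderOf g ≠ orderOf h)
    (h1 : orderOf g ∉ [2, 4, L.r, 2 * L.r]) (h2 : orderOf h ∉ [2, 4, L.r, 2 * L.r]) : False := by
  have h5 := D.R_le
  have := D.orders_le (orderOf g :: orderOf h :: [2, 4, L.r, 2 * L.r]) ?_ ?_
  · simp only [List.length_cons, List.length_nil] at this
    omega
  · have h := L.three_le_r
    obtain ⟨j, hj⟩ := L.r_odd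
    refine List.nodup_cons.2 ⟨?_, List.nodup_cons.2 ⟨h2, ?_⟩⟩
    · simp only [List.mem_cons] at h1 ⊢
      tauto
    · simp only [List.nodup_cons, List.mem_cons, List.not_mem_nil, or_false, List.nodup_nil, and_true,
        not_or, not_false_eq_true]
      omega
  · intro k hk
    rcases List.mem_cons.1 hk with rfl | hk
    · exact ⟨g, hg, rfl⟩
    rcases List.mem_cons.1 hk with rfl | hk
    · exact ⟨h, hh, rfl⟩
    exact L.basic_orders k hk

/-- Only one odd prime occurs in centralizers of involutions. -/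
theorem prime_eq {u z : G} {p : ℕ} (hu : orderOf u = 2) (hp : p.Prime) (hp2 : p ≠ 2)
    (hz : orderOf z = p) (hc : Commute z u) : p = L.r := by
  by_contra hne
  have hN := not_dvd_N_of_commute (D.rest_of_even (by rw [hu])) hz hp hc
  have ho : orderOf (z * u) = 2 * p := by
    rw [hc.orderOf_mul_eq_mul_orderOf_of_coprime
      (by rw [hz, hu]; exact (Nat.coprime_primes hp Nat.prime_two).2 hp2), hz, hu, mul_comm]
  have h3 := L.three_le_r
  have hp3 : 3 ≤ p := by have := hp.two_le; omega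
  obtain ⟨j, hj⟩ := L.r_odd
  obtain ⟨i, hi⟩ := hp.odd_of_ne_two hp2
  refine L.false_of_two_orders (D.rest_of_prime hp hz hN)
    (D.rest_of_even (g := z * u) (by rw [ho]; exact dvd_mul_right 2 _)) ?_ ?_ ?_ <;>
    simp only [hz, ho, List.mem_cons, List.not_mem_nil, or_false, not_or] <;> omega

theorem prime_centralizer_invol {u : G} (hu : orderOf u = 2) {p : ℕ} (hp : p.Prime)
    (h : p ∣ Nat.card (centralizer ({u} : Set G))) : p = 2 ∨ p = L.r := by
  haveI := Fact.mk hp
  rcases eq_or_ne p 2 with h2 | h2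
  · exact Or.inl h2
  obtain ⟨z, hz⟩ := exists_prime_orderOf_dvd_card' (G := centralizer ({u} : Set G)) p h
  exact Or.inr (L.prime_eq hu hp h2 (by rw [Subgroup.orderOf_coe, hz]) (commute_of_mem_centralizer z.2))

/-- Elements of order `r * r` commute with no involution. -/
theorem no_sq {u z : G} (hu : orderOf u = 2) (hc : Commute z u) : orderOf z ≠ L.r * L.r := by
  intro hz
  have h3 := L.three_le_r
  obtain ⟨j, hj⟩ := L.r_odd
  have hcop : (orderOf z).Coprime (orderOf u) := by
    rw [hz, hu]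
    exact Nat.Coprime.mul_left ((Nat.coprime_primes L.hr Nat.prime_two).2 L.hr2)
      ((Nat.coprime_primes L.hr Nat.prime_two).2 L.hr2)
  have ho : orderOf (z * u) = L.r * L.r * 2 := by
    rw [hc.orderOf_mul_eq_mul_orderOf_of_coprime hcop, hz, hu]
  have hz1 : z ≠ 1 := fun e => by rw [e, orderOf_one] at hz; nlinarith
  have hrest : D.Rest z := by
    refine D.rest_of_not_dvd hz1 fun i hi => L.rN ((dvd_mul_right L.r L.r).trans ?_)
    exact (hz ▸ hi).trans (D.n_dvd_N i)
  have hbig : 3 * L.r ≤ L.r * L.r := Nat.mul_le_mul_right _ h3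
  refine L.false_of_two_orders hrest
    (D.rest_of_even (g := z * u) (by rw [ho]; exact dvd_mul_left 2 _)) ?_ ?_ ?_ <;>
    simp only [hz, ho, List.mem_cons, List.not_mem_nil, or_false, not_or] <;> omega

theorem prime_centralizer_x {p : ℕ} (hp : p.Prime) (h : p ∣ Nat.card (centralizer ({L.x} : Set G))) :
    p = 2 ∨ p = L.r := by
  haveI := Fact.mk hp
  by_contra! hne
  obtain ⟨⟨z, hzC⟩, hz⟩ := exists_prime_orderOf_dvd_card' (G := centralizer ({L.x} : Set G)) p h
  rw [Subgroup.orderOf_mk] at hz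
  have hc := commute_of_mem_centralizer hzC
  have hN := not_dvd_N_of_commute L.rest_x hz hp hc
  have ho : orderOf (z * L.x) = p * L.r := by
    rw [hc.orderOf_mul_eq_mul_orderOf_of_coprime
      (by rw [hz, L.hx]; exact (Nat.coprime_primes hp L.hr).2 hne.2), hz, L.hx]
  have hrest : D.Rest (z * L.x) := by
    refine D.rest_of_not_dvd (fun e => ?_) fun i hi => L.rN ((dvd_mul_left L.r p).trans ?_)
    · rw [e, orderOf_one] at ho
      exact hp.ne_one (Nat.eq_one_of_mul_eq_one_right ho.symm)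
    · exact (ho ▸ hi).trans (D.n_dvd_N i)
  have h3 := L.three_le_r
  have hp3 : 3 ≤ p := by have := hp.two_le; omega
  have hbig : 3 * L.r ≤ p * L.r := Nat.mul_le_mul_right _ hp3
  have hbig' : p * 3 ≤ p * L.r := Nat.mul_le_mul_left _ h3
  obtain ⟨j, hj⟩ := L.r_odd
  obtain ⟨i, hi⟩ := hp.odd_of_ne_two hne.1
  refine L.false_of_two_orders (D.rest_of_prime hp hz hN) hrest ?_ ?_ ?_ <;>
    simp only [hz, ho, List.mem_cons, List.not_mem_nil, or_false, not_or] <;> omega

/-- The two parts of an element of order `2r`. -/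
theorem split {a u : G} (ha : orderOf a = L.r) (hu : orderOf u = 2) (h : Commute a u) :
    (a * u) ^ (L.r + 1) = a ∧ (a * u) ^ L.r = u := by
  obtain ⟨j, hj⟩ := L.r_odd
  have ha' : a ^ L.r = 1 := by rw [← ha]; exact pow_orderOf_eq_one a
  have hu' : u ^ 2 = 1 := by rw [← hu]; exact pow_orderOf_eq_one u
  constructor
  · rw [h.mul_pow, pow_succ, ha', one_mul, show L.r + 1 = 2 * (j + 1) by omega, pow_mul u, hu', one_pow,
      mul_one]
  · rw [h.mul_pow, ha', one_mul, hj, pow_succ, pow_mul, hu', one_pow, one_mul]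

/-- There is one class of elements of order `2r`. -/
theorem conj_two_r {g g' : G} (hg : orderOf g = 2 * L.r) (hg' : orderOf g' = 2 * L.r) : IsConj g g' := by
  by_contra hne
  have h3 := L.three_le_r
  obtain ⟨j, hj⟩ := L.r_odd
  have h5 := D.R_le
  have hrest : ∀ {z : G}, orderOf z = 2 * L.r → D.Rest z := fun h =>
    D.rest_of_even (by rw [h]; exact dvd_mul_right 2 _)
  obtain ⟨y, hy, hy'⟩ := L.exists_four'
  have hparts : ∀ z : G, orderOf z = 2 * L.r →
      orderOf (z ^ (L.r + 1)) = L.r ∧ orderOf (z ^ L.r) = 2 ∧ z ^ (L.r + 1) * z ^ L.r = z := by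
    intro z hz
    refine ⟨?_, ?_, ?_⟩
    · rw [orderOf_pow' z (by omega), hz, show L.r + 1 = 2 * (j + 1) by omega, Nat.gcd_mul_left,
        show Nat.gcd L.r (j + 1) = 1 by
          refine (L.hr.coprime_iff_not_dvd.2 fun h => ?_)
          have := Nat.le_of_dvd (by omega) h
          omega, mul_one, Nat.mul_div_cancel_left _ two_pos]
    · rw [orderOf_pow' z (by omega), hz, Nat.gcd_eq_right (dvd_mul_left _ _), Nat.mul_div_cancel _ (by omega)]
    · rw [← pow_add, show L.r + 1 + L.r = 2 * L.r + 1 by ring, pow_succ, ← hz, pow_orderOf_eq_one, one_mul]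
  -- the `r`-parts are conjugate to `x`
  have hto : ∀ z : G, orderOf z = 2 * L.r → ∃ u : G, orderOf u = 2 ∧ Commute L.x u ∧ IsConj (L.x * u) z := by
    intro z hz
    obtain ⟨hp, hi, hm⟩ := hparts z hz
    have hzr : D.Rest (z ^ (L.r + 1)) := D.rest_of_prime L.hr hp L.rN
    have hc : IsConj L.x (z ^ (L.r + 1)) := by
      by_contra hnc
      have := D.reps_le [L.t, y, L.x, z ^ (L.r + 1), g, g'] ?_ ?_
      · simp only [List.length_cons, List.length_nil] at this
        omega
      · simp only [List.mem_cons, List.not_mem_nil, or_false]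
        rintro w (rfl | rfl | rfl | rfl | rfl | rfl)
        exacts [L.rest_t, hy', L.rest_x, hzr, hrest hg, hrest hg']
      · simp only [List.pairwise_cons, List.mem_cons, List.not_mem_nil, or_false, forall_eq_or_imp,
          forall_eq, List.Pairwise.nil, and_true, false_implies, implies_true]
        repeat' constructor
        all_goals first
          | exact hne
          | exact hnc
          | (refine not_isConj_of_orderOf ?_; simp only [L.ht, hy, L.hx, hp, hg, hg']; omega)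
    obtain ⟨w, hw⟩ := isConj_iff.1 hc.symm
    refine ⟨w * z ^ L.r * w⁻¹, by rw [orderOf_conj_eq]; exact hi, ?_, ?_⟩
    · rw [← hw]
      show w * z ^ (L.r + 1) * w⁻¹ * (w * z ^ L.r * w⁻¹) = w * z ^ L.r * w⁻¹ * (w * z ^ (L.r + 1) * w⁻¹)
      rw [show w * z ^ (L.r + 1) * w⁻¹ * (w * z ^ L.r * w⁻¹) = w * (z ^ (L.r + 1) * z ^ L.r) * w⁻¹ by group,
        show w * z ^ L.r * w⁻¹ * (w * z ^ (L.r + 1) * w⁻¹) = w * (z ^ L.r * z ^ (L.r + 1)) * w⁻¹ by group,
        ← pow_add, ← pow_add, add_comm]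
    · refine isConj_iff.2 ⟨w⁻¹, ?_⟩
      rw [← hw, show w⁻¹ * (w * z ^ (L.r + 1) * w⁻¹ * (w * z ^ L.r * w⁻¹)) * w⁻¹⁻¹ =
        z ^ (L.r + 1) * z ^ L.r by group]
      exact hm
  obtain ⟨u₁, hu₁, hc₁, hg₁⟩ := hto g hg
  obtain ⟨u₂, hu₂, hc₂, hg₂⟩ := hto g' hg'
  have hback : ∀ {u u' : G}, orderOf u = 2 → orderOf u' = 2 → ∀ (hu : Commute L.x u)
      (hu' : Commute L.x u'), IsConj (L.x * u) (L.x * u') →
      IsConj (⟨u, mem_centralizer_of_commute hu.symm⟩ : centralizer ({L.x} : Set G))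
        ⟨u', mem_centralizer_of_commute hu'.symm⟩ := by
    intro u u' hu hu' h1 h2 h
    obtain ⟨w, hw⟩ := isConj_iff.1 h
    obtain ⟨e1, e2⟩ := L.split L.hx hu h1
    obtain ⟨e1', e2'⟩ := L.split L.hx hu' h2
    have hwx : w * L.x * w⁻¹ = L.x := by
      conv_lhs => rw [← e1, ← conj_pow, hw, e1']
    refine isConj_iff.2 ⟨⟨w, mem_centralizer_of_commute (mul_inv_eq_iff_eq_mul.1 hwx)⟩, Subtype.ext ?_⟩
    show w * u * w⁻¹ = u'
    rw [← e2, ← conj_pow, hw, e2']
  refine false_of_two_classes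
    (u₁ := (⟨u₁, mem_centralizer_of_commute hc₁.symm⟩ : centralizer ({L.x} : Set G)))
    (u₂ := ⟨u₂, mem_centralizer_of_commute hc₂.symm⟩)
    (by rw [Subgroup.orderOf_mk]; exact hu₁) (by rw [Subgroup.orderOf_mk]; exact hu₂) ?_ ?_ ?_
  · intro h
    obtain ⟨⟨w, hw⟩, e⟩ := isConj_iff.1 h
    have e' : w * u₁ * w⁻¹ = u₂ := congrArg Subtype.val e
    refine hne (hg₁.symm.trans (IsConj.trans (isConj_iff.2 ⟨w, ?_⟩) hg₂))
    rw [← e', show w * (L.x * u₁) * w⁻¹ = w * L.x * w⁻¹ * (w * u₁ * w⁻¹) by group,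
      show w * L.x * w⁻¹ = L.x by rw [(commute_of_mem_centralizer hw).eq]; group]
  · rintro ⟨u, hu⟩ hu2
    rw [Subgroup.orderOf_mk] at hu2
    have hcu : Commute L.x u := (commute_of_mem_centralizer hu).symm
    by_contra! hnc
    have hou := L.ord_mul L.hx hu2 hcu
    have := D.reps_le [L.t, y, L.x, L.x * u, g, g'] ?_ ?_
    · simp only [List.length_cons, List.length_nil] at this
      omega
    · simp only [List.mem_cons, List.not_mem_nil, or_false]
      rintro w (rfl | rfl | rfl | rfl | rfl | rfl)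
      exacts [L.rest_t, hy', L.rest_x, hrest hou, hrest hg, hrest hg']
    · have n1 : ¬ IsConj (L.x * u) g := fun h => hnc.1 (hback hu₁ hu2 hc₁ hcu (hg₁.trans h.symm))
      have n2 : ¬ IsConj (L.x * u) g' := fun h => hnc.2 (hback hu₂ hu2 hc₂ hcu (hg₂.trans h.symm))
      simp only [List.pairwise_cons, List.mem_cons, List.not_mem_nil, or_false, forall_eq_or_imp,
        forall_eq, List.Pairwise.nil, and_true, false_implies, implies_true]
      repeat' constructor
      all_goals first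
        | exact hne
        | exact n1
        | exact n2
        | (refine not_isConj_of_orderOf ?_; simp only [L.ht, hy, L.hx, hou, hg, hg']; omega)
  · rintro ⟨z, hz⟩ hz4
    rw [Subgroup.orderOf_mk] at hz4
    have hc := commute_of_mem_centralizer hz
    have ho : orderOf (z * L.x) = 4 * L.r := by
      rw [hc.orderOf_mul_eq_mul_orderOf_of_coprime (by
        rw [hz4, L.hx]
        exact (Nat.Coprime.pow_left 2 ((Nat.coprime_primes Nat.prime_two L.hr).2 L.hr2.symm))), hz4, L.hx]
    have hrz : D.Rest (z * L.x) := D.rest_of_even (by rw [ho]; exact ⟨2 * L.r, by ring⟩)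
    have := D.orders_pair_le [2, 4, L.r, 4 * L.r] ?_ ?_ (hrest hg) (hrest hg') (hg.trans hg'.symm) hne ?_
    · simp only [List.length_cons, List.length_nil] at this
      omega
    · simp only [List.nodup_cons, List.mem_cons, List.not_mem_nil, or_false, List.nodup_nil, and_true,
        not_or, not_false_eq_true]
      omega
    · intro k hk
      simp only [List.mem_cons, List.not_mem_nil, or_false] at hk
      rcases hk with rfl | rfl | rfl | rfl
      exacts [⟨_, L.rest_t, L.ht⟩, ⟨y, hy', hy⟩, ⟨_, L.rest_x, L.hx⟩, ⟨_, hrz, ho⟩]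
    · simp only [hg, List.mem_cons, List.not_mem_nil, or_false, not_or]
      omega

/-- Involutions centralizing `x` are conjugate there. -/
theorem conj_invol {u u' : G} (hu : orderOf u = 2) (hu' : orderOf u' = 2) (hc : Commute L.x u)
    (hc' : Commute L.x u') : ∃ w, Commute w L.x ∧ w * u * w⁻¹ = u' := by
  obtain ⟨w, hw⟩ := isConj_iff.1 (L.conj_two_r (L.ord_mul L.hx hu hc) (L.ord_mul L.hx hu' hc'))
  obtain ⟨e1, e2⟩ := L.split L.hx hu hc
  obtain ⟨e1', e2'⟩ := L.split L.hx hu' hc'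
  refine ⟨w, mul_inv_eq_iff_eq_mul.1 ?_, ?_⟩
  · conv_lhs => rw [← e1, ← conj_pow, hw, e1']
  · rw [← e2, ← conj_pow, hw, e2']

/-- Elements of order `r` centralizing an involution are conjugate there. -/
theorem conj_r {u a a' : G} (hu : orderOf u = 2) (ha : orderOf a = L.r) (ha' : orderOf a' = L.r)
    (hc : Commute a u) (hc' : Commute a' u) : ∃ w, Commute w u ∧ w * a * w⁻¹ = a' := by
  obtain ⟨w, hw⟩ := isConj_iff.1 (L.conj_two_r (L.ord_mul ha hu hc) (L.ord_mul ha' hu hc'))
  obtain ⟨e1, e2⟩ := L.split ha hu hc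
  obtain ⟨e1', e2'⟩ := L.split ha' hu hc'
  refine ⟨w, mul_inv_eq_iff_eq_mul.1 ?_, ?_⟩
  · conv_lhs => rw [← e2, ← conj_pow, hw, e2']
  · rw [← e1, ← conj_pow, hw, e1']

/-- The two columns are rational. -/
theorem rational {m : ℕ} (hm : m.Coprime (Nat.card G)) :
    IsConj L.x (L.x ^ m) ∧ IsConj (L.x * L.t) ((L.x * L.t) ^ m) := by
  have h2 : m.Coprime (orderOf L.t) := hm.coprime_dvd_right (orderOf_dvd_natCard _)
  have hx' : orderOf (L.x ^ m) = L.r := by
    rw [Nat.Coprime.orderOf_pow (hm.coprime_dvd_right (orderOf_dvd_natCard _)).symm, L.hx]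
  have htm : L.t ^ m = L.t := by
    obtain ⟨i, rfl⟩ : Odd m := by
      rw [L.ht] at h2
      rw [← Nat.not_even_iff_odd, even_iff_two_dvd]
      exact fun h => Nat.not_coprime_of_dvd_of_dvd one_lt_two h dvd_rfl h2
    rw [pow_succ, pow_mul, ← L.ht, pow_orderOf_eq_one, one_pow, one_mul]
  obtain ⟨w, -, hw⟩ := L.conj_r L.ht L.hx hx' L.comm (L.comm.pow_left m)
  refine ⟨isConj_iff.2 ⟨w, hw⟩, ?_⟩
  rw [L.comm.mul_pow, htm]
  exact L.conj_two_r L.ord_xt (L.ord_mul hx' L.ht (L.comm.pow_left m))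

theorem exists_sylow_x : ∃ P : Sylow L.r G, L.x ∈ (P : Subgroup G) ∧
    (∀ a ∈ (P : Subgroup G), ∀ b ∈ (P : Subgroup G), Commute a b) ∧
    (P : Subgroup G) ≤ centralizer ({L.x} : Set G) := by
  haveI := L.r_fact
  obtain ⟨P, hP⟩ := (IsPGroup.of_card (n := 1)
    (by rw [pow_one, Nat.card_zpowers, L.hx] : Nat.card (Subgroup.zpowers L.x) = L.r ^ 1)).exists_le_sylow
  have hab := L.ab L.r L.hr L.hr2 L.rN P
  have hcomm : ∀ a ∈ (P : Subgroup G), ∀ b ∈ (P : Subgroup G), Commute a b := fun a ha b hb =>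
    congrArg Subtype.val (hab.is_comm.comm (⟨a, ha⟩ : (P : Subgroup G)) ⟨b, hb⟩)
  exact ⟨P, hP (Subgroup.mem_zpowers _), hcomm,
    fun g hg => mem_centralizer_of_commute (hcomm g hg _ (hP (Subgroup.mem_zpowers _)))⟩

/-- The `r`-part of the centralizer of `t`. -/
theorem exists_rpart : ∃ (c : ℕ) (Q : Subgroup G), L.x ∈ Q ∧ Q ≤ centralizer ({L.t} : Set G) ∧
    Q ≤ centralizer ({L.x} : Set G) ∧ (∀ a ∈ Q, ∀ b ∈ Q, Commute a b) ∧
    (∀ a ∈ Q, a ≠ 1 → orderOf a = L.r) ∧ Nat.card Q = L.r ^ c ∧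
    (∀ k, L.r ^ k ∣ Nat.card (centralizer ({L.t} : Set G)) → k ≤ c) ∧
    ((L.r = 3 ∧ (c = 1 ∨ c = 2)) ∨ (L.r = 5 ∧ c = 1)) := by
  haveI := L.r_fact
  set H := centralizer ({L.t} : Set G)
  have hxH : L.x ∈ H := mem_centralizer_of_commute L.comm
  let x' : H := ⟨L.x, hxH⟩
  obtain ⟨P, hP⟩ := (IsPGroup.of_card (n := 1)
    (by rw [pow_one, Nat.card_zpowers, Subgroup.orderOf_mk, L.hx] :
      Nat.card (Subgroup.zpowers x') = L.r ^ 1)).exists_le_sylow
  have hxP : x' ∈ (P : Subgroup H) := hP (Subgroup.mem_zpowers _)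
  obtain ⟨S, hS⟩ := (P.isPGroup'.map H.subtype).exists_le_sylow
  have hab := L.ab L.r L.hr L.hr2 L.rN S
  have hcomm : ∀ a ∈ (P : Subgroup H).map H.subtype, ∀ b ∈ (P : Subgroup H).map H.subtype, Commute a b :=
    fun a ha b hb => congrArg Subtype.val (hab.is_comm.comm (⟨a, hS ha⟩ : (S : Subgroup G)) ⟨b, hS hb⟩)
  have hcommP : ∀ a ∈ (P : Subgroup H), ∀ b ∈ (P : Subgroup H), Commute a b := fun a ha b hb =>
    Subtype.ext (hcomm _ (Subgroup.mem_map_of_mem _ ha) _ (Subgroup.mem_map_of_mem _ hb)).eq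
  have hxQ : L.x ∈ (P : Subgroup H).map H.subtype := ⟨x', hxP, rfl⟩
  obtain ⟨c, hc⟩ := IsPGroup.iff_card.1 P.isPGroup'
  have hexp : ∀ a ∈ (P : Subgroup H).map H.subtype, a ≠ 1 → orderOf a = L.r := by
    intro a ha ha1
    obtain ⟨a', ha', rfl⟩ := ha
    obtain ⟨k, hk⟩ := IsPGroup.iff_orderOf.1 P.isPGroup' ⟨a', ha'⟩
    rw [Subgroup.orderOf_mk] at hk
    have hk' : orderOf (a' : G) = L.r ^ k := by rw [Subgroup.orderOf_coe, hk]
    show orderOf (a' : G) = L.r
    rcases Nat.lt_or_ge k 2 with h | h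
    · interval_cases k
      · exact absurd (orderOf_eq_one_iff.1 (by simpa using hk')) ha1
      · simpa using hk'
    · exfalso
      refine L.no_sq L.ht (z := (a' : G) ^ (orderOf (a' : G) / (L.r * L.r)))
        ((commute_of_mem_centralizer a'.2).pow_left _) ?_
      refine orderOf_pow_orderOf_div (orderOf_pos _).ne' ?_
      rw [hk', ← pow_two]
      exact pow_dvd_pow _ h
  have hc0 : c ≠ 0 := fun h0 => by
    have h1 : orderOf x' ∣ Nat.card (P : Subgroup H) := Subgroup.orderOf_dvd_natCard _ hxP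
    rw [hc, h0, pow_zero, Subgroup.orderOf_mk, L.hx, Nat.dvd_one] at h1
    exact L.hr.ne_one h1
  -- Burnside fusion inside the centralizer
  have hcent : ∀ a ∈ (P : Subgroup H), (P : Subgroup H) ≤ centralizer ({a} : Set H) := fun a ha b hb =>
    mem_centralizer_of_commute (hcommP b hb a ha)
  have horb := orbit_dvd (P : Subgroup H) hcommP hxP (fun e => L.hr.ne_one (by
      rw [← L.hx, show L.x = 1 from congrArg Subtype.val e, orderOf_one])) (fun z hz hz1 => by
    have hz' : orderOf (z : G) = L.r := hexp _ (Subgroup.mem_map_of_mem _ hz) fun e => hz1 (Subtype.ext e)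
    obtain ⟨w, hw, e⟩ := L.conj_r L.ht L.hx hz' L.comm (commute_of_mem_centralizer z.2)
    let w' : H := ⟨w, mem_centralizer_of_commute hw⟩
    have e' : w' * x' * w'⁻¹ = z := Subtype.ext e
    obtain ⟨n, hn, hn'⟩ := Fusion.exists_normalizer_conj_eq_of_central P (hcent x' hxP) w'
      (by rw [e']; exact hcent z hz)
    exact ⟨n, hn, hn'.trans e'⟩)
  have hdvd : (L.r ^ c - 1) * L.r ^ c ∣ Nat.card H := by
    rw [← hc]
    exact horb.trans (Subgroup.card_subgroup_dvd_card _)
  have h1c : 1 < L.r ^ c := Nat.one_lt_pow hc0 L.hr.one_lt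
  have hj : L.r ^ c - 1 = 2 ^ (L.r ^ c - 1).primeFactorsList.length :=
    Nat.eq_prime_pow_of_unique_prime_dvd (by omega) fun {q} hq hqd => by
      rcases L.prime_centralizer_invol L.ht hq (hqd.trans ((dvd_mul_right _ _).trans hdvd)) with h | h
      · exact h
      · exfalso
        subst h
        have := (Nat.dvd_sub (dvd_pow_self L.r hc0) hqd)
        rw [Nat.sub_sub_self h1c.le, Nat.dvd_one] at this
        exact L.hr.ne_one this
  refine ⟨c, (P : Subgroup H).map H.subtype, hxQ, Subgroup.map_subtype_le _,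
    fun g hg => mem_centralizer_of_commute (hcomm g hg _ hxQ), hcomm, hexp, ?_, fun k hk => ?_, ?_⟩
  · rw [Subgroup.card_map_of_injective H.subtype_injective, hc]
  · have := P.pow_dvd_card_of_pow_dvd_card hk
    rw [hc] at this
    exact (Nat.pow_dvd_pow_iff_le_right L.hr.one_lt).1 this
  · rcases pow_sub_one_two L.hr L.hr2 (by omega) hj with hc1 | ⟨h3, h2⟩
    swap
    · exact Or.inl ⟨h3, Or.inr h2⟩
    subst hc1
    rw [pow_one] at hj
    set j := (L.r - 1).primeFactorsList.length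
    rcases Nat.lt_or_ge j 4 with hj4 | hj4
    · interval_cases j
      · have := L.three_le_r; omega
      · exact Or.inl ⟨by omega, Or.inl rfl⟩
      · exact Or.inr ⟨by omega, rfl⟩
      · have h9 : L.r = 9 := by omega
        have := L.hr
        rw [h9] at this
        norm_num at this
    · exfalso
      obtain ⟨e, he⟩ := IsCyclic.exists_ofOrder_eq_natCard (α := (ZMod L.r)ˣ)
      rw [Nat.card_eq_fintype_card, ZMod.card_units L.r, hj] at he
      set ρ := (e : ZMod L.r).val with hρ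
      have hρ0 : ¬ L.r ∣ ρ := fun h => by
        have h0 : (ρ : ZMod L.r) = 0 := (ZMod.natCast_eq_zero_iff _ _).2 h
        rw [hρ, ZMod.natCast_zmod_val] at h0
        exact Units.ne_zero e h0
      have hxρ : orderOf (L.x ^ ρ) = L.r := by
        rw [Nat.Coprime.orderOf_pow (by rw [L.hx]; exact L.hr.coprime_iff_not_dvd.2 hρ0), L.hx]
      obtain ⟨g, hgc, hg⟩ := L.conj_r L.ht L.hx hxρ L.comm (L.comm.pow_left ρ)
      have hpow : ∀ k : ℕ, g ^ k * L.x * (g ^ k)⁻¹ = L.x ^ (ρ ^ k) := by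
        intro k
        induction k with
        | zero => simp
        | succ k ih =>
          rw [pow_succ' g, mul_inv_rev, show g * g ^ k * L.x * ((g ^ k)⁻¹ * g⁻¹) =
            g * (g ^ k * L.x * (g ^ k)⁻¹) * g⁻¹ by group, ih, ← conj_pow, hg, ← pow_mul, pow_succ']
      have h16 : 2 ^ 4 ∣ orderOf g := by
        refine (pow_dvd_pow 2 hj4).trans ?_
        rw [← he]
        refine orderOf_dvd_of_pow_eq_one (Units.ext ?_)
        have h := hpow (orderOf g)
        rw [pow_orderOf_eq_one, one_mul, inv_one, mul_one] at h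
        nth_rewrite 1 [← pow_one L.x] at h
        rw [pow_eq_pow_iff_modEq, L.hx, ← (ZMod.natCast_eq_natCast_iff 1 _ L.r), Nat.cast_one, Nat.cast_pow,
          hρ, ZMod.natCast_zmod_val] at h
        rw [Units.val_pow_eq_pow_val, Units.val_one]
        exact h.symm
      have o16 : orderOf (g ^ (orderOf g / 16)) = 16 := orderOf_pow_orderOf_div (orderOf_pos g).ne' h16
      have o8 : orderOf (g ^ (orderOf g / 8)) = 8 :=
        orderOf_pow_orderOf_div (orderOf_pos g).ne' ((pow_dvd_pow 2 (show 3 ≤ 4 by norm_num)).trans h16)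
      have hr17 : 17 ≤ L.r := by
        have := Nat.pow_le_pow_right two_pos hj4
        omega
      refine L.false_of_two_orders (D.rest_of_even (g := g ^ (orderOf g / 16)) (by rw [o16]; norm_num))
        (D.rest_of_even (g := g ^ (orderOf g / 8)) (by rw [o8]; norm_num)) ?_ ?_ ?_ <;>
        simp only [o16, o8, List.mem_cons, List.not_mem_nil, or_false, not_or] <;> omega

theorem r_three_five : L.r = 3 ∨ L.r = 5 := by
  obtain ⟨c, Q, -, -, -, -, -, -, -, h⟩ := L.exists_rpart
  exact h.imp And.left And.left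

theorem cent_xt : centralizer ({L.x * L.t} : Set G) =
    centralizer ({L.x} : Set G) ⊓ centralizer ({L.t} : Set G) := by
  ext g
  rw [Subgroup.mem_inf]
  refine ⟨fun h => ?_, fun h => ?_⟩
  · have hc := commute_of_mem_centralizer h
    obtain ⟨e1, e2⟩ := L.split L.hx L.ht L.comm
    refine ⟨mem_centralizer_of_commute ?_, mem_centralizer_of_commute ?_⟩
    · rw [← e1]; exact hc.pow_right _
    · rw [← e2]; exact hc.pow_right _
  · exact mem_centralizer_of_commute
      ((commute_of_mem_centralizer h.1).mul_right (commute_of_mem_centralizer h.2))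

/-- The three `m` add up to at least nine when three is prime to `N`. -/
theorem nine_le_sum (h3 : L.r = 3) : 9 ≤ D.m 0 + D.m 1 + D.m 2 ∧ 3 ≤ D.m 1 ∧ 3 ≤ D.m 2 := by
  have hN := L.rN
  rw [h3] at hN
  have hn : ∀ i, ¬ 3 ∣ D.n i := fun i h => hN (h.trans (D.n_dvd_N i))
  have e1 := D.n_eq_one
  have e2 := D.n_eq_two
  have h1 : D.m 1 ≠ 2 := fun h => hn 1 (by rw [e1, h]; norm_num)
  have h2 : D.m 2 ≠ 2 := fun h => hn 2 (by rw [e2, h]; norm_num)
  have := D.two_le_m 0
  have := D.two_le_m 1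
  have := D.two_le_m 2
  have := D.m_ne
  omega

/-- One class of involutions is impossible when the centralizer of `x` is small. -/
theorem single_false (hinv : ∀ u : G, orderOf u = 2 → IsConj L.t u)
    (hM : ∀ p : ℕ, p.Prime → p ∣ D.M → p = 2 ∨ p = L.r) {k : ℕ}
    (hk : k = 1 ∨ (L.r = 3 ∧ k = 3))
    (hX : Nat.card (centralizer ({L.x} : Set G)) = k * Nat.card (centralizer ({L.x * L.t} : Set G))) :
    False := by
  haveI := L.r_fact
  set c := Nat.card (centralizer ({L.t} : Set G)) with hc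
  have hdvd : D.M ∣ k * c := by
    refine dvd_of_parts hM (fun j hj => ?_) fun j hj => ?_
    · obtain ⟨z, hz, hzk⟩ := D.exists_central_two
      refine Dvd.dvd.mul_left ?_ k
      rw [hc, card_centralizer_isConj (hinv z hz)]
      exact hzk j (hj.trans (by rw [D.card_eq]; exact dvd_mul_left _ _))
    · obtain ⟨P, -, -, hP⟩ := L.exists_sylow_x
      refine (((P.pow_dvd_card_of_pow_dvd_card (hj.trans (by rw [D.card_eq]; exact dvd_mul_left _ _))).trans
        (Subgroup.card_dvd_of_le hP)).trans (dvd_of_eq hX)).trans (Nat.mul_dvd_mul_left k ?_)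
      refine Subgroup.card_dvd_of_le ?_
      rw [L.cent_xt]
      exact inf_le_right
  have hk0 : 0 < k := by rcases hk with rfl | ⟨-, rfl⟩ <;> norm_num
  have hle : D.M ≤ k * c := Nat.le_of_dvd (Nat.mul_pos hk0 Nat.card_pos) hdvd
  have hJ := D.invert_count L.t Finset.univ (fun i _ => by
    obtain ⟨u, huN, hu⟩ := D.exists_involution i
    exact ⟨u, huN, hu, hinv u hu⟩)
  rw [Fin.sum_univ_three] at hJ
  set S := D.m 0 + D.m 1 + D.m 2 with hS
  have hcls := Hyp.card_cls L.t
  rw [← hc] at hcls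
  have hG := D.card_eq
  have h1 : c ^ 2 * S ≤ Nat.card G := by
    have hGpos : 0 < Nat.card G := Nat.card_pos
    refine Nat.le_of_mul_le_mul_left ?_ hGpos
    calc Nat.card G * (c ^ 2 * S) = Nat.card G * S * c ^ 2 := by ring
      _ ≤ (Hyp.cls L.t).card ^ 2 * c ^ 2 := Nat.mul_le_mul_right _ hJ
      _ = Nat.card G * Nat.card G := by rw [← mul_pow, hcls, pow_two]
  have h2 : D.M * S ≤ k ^ 2 * D.N := by
    refine Nat.le_of_mul_le_mul_left ?_ D.M_pos
    calc D.M * (D.M * S) = D.M ^ 2 * S := by ring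
      _ ≤ (k * c) ^ 2 * S := Nat.mul_le_mul_right _ (Nat.pow_le_pow_left hle 2)
      _ = k ^ 2 * (c ^ 2 * S) := by ring
      _ ≤ k ^ 2 * Nat.card G := Nat.mul_le_mul_left _ h1
      _ = D.M * (k ^ 2 * D.N) := by rw [hG]; ring
  have h3 : S < k ^ 2 := by
    have hN := D.N_lt_M L.four_le_R
    have hS0 : 0 < S := by have := D.two_le_m 0; omega
    refine Nat.lt_of_mul_lt_mul_right (a := D.N) ?_
    calc S * D.N < S * D.M := Nat.mul_lt_mul_of_pos_left hN hS0
      _ = D.M * S := mul_comm _ _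
      _ ≤ k ^ 2 * D.N := h2
  rcases hk with rfl | ⟨h3', rfl⟩
  · have := D.two_le_m 0; omega
  · have := (L.nine_le_sum h3').1; omega

theorem card_cent_sub : Nat.card (centralizer
    ({⟨L.t, mem_centralizer_of_commute L.comm.symm⟩} : Set (centralizer ({L.x} : Set G)))) =
    Nat.card (centralizer ({L.x * L.t} : Set G)) := by
  have e : centralizer ({⟨L.t, mem_centralizer_of_commute L.comm.symm⟩} :
      Set (centralizer ({L.x} : Set G))) =
      (centralizer ({L.x * L.t} : Set G)).subgroupOf (centralizer ({L.x} : Set G)) := by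
    ext ⟨g, hg⟩
    rw [Subgroup.mem_subgroupOf, L.cent_xt, Subgroup.mem_inf]
    simp only [hg, true_and, Subgroup.mem_centralizer_singleton_iff, Subtype.ext_iff, Subgroup.coe_mul]
  rw [e]
  refine Nat.card_congr (Subgroup.subgroupOfEquivOfLe ?_).toEquiv
  rw [L.cent_xt]
  exact inf_le_left

theorem conj_X (u u' : centralizer ({L.x} : Set G)) (hu : orderOf u = 2) (hu' : orderOf u' = 2) :
    IsConj u u' := by
  rw [← Subgroup.orderOf_coe] at hu hu'
  obtain ⟨w, hw, e⟩ := L.conj_invol hu hu' (commute_of_mem_centralizer u.2).symm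
    (commute_of_mem_centralizer u'.2).symm
  exact isConj_iff.2 ⟨⟨w, mem_centralizer_of_commute hw⟩, Subtype.ext e⟩

/-- No element of order four commutes with `x`. -/
theorem no_four {y : G} (hy : orderOf y = 4) (hc : Commute y L.x) : False := by
  haveI := L.r_fact
  haveI : Fact (Nat.Prime 2) := ⟨Nat.prime_two⟩
  have h3 := L.three_le_r
  obtain ⟨j, hj⟩ := L.r_odd
  have h5 := D.R_le
  have hcop : (4 : ℕ).Coprime L.r :=
    Nat.Coprime.pow_left 2 ((Nat.coprime_primes Nat.prime_two L.hr).2 L.hr2.symm)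
  have ho : ∀ {z : G}, orderOf z = 4 → Commute z L.x → orderOf (z * L.x) = 4 * L.r := fun hz hzc => by
    rw [hzc.orderOf_mul_eq_mul_orderOf_of_coprime (by rw [hz, L.hx]; exact hcop), hz, L.hx]
  have hrz : ∀ {z : G}, orderOf z = 4 * L.r → D.Rest z := fun hz =>
    D.rest_of_even (by rw [hz]; exact ⟨2 * L.r, by ring⟩)
  have hbase : ∀ k ∈ [2, 4, L.r, 2 * L.r, 4 * L.r], ∃ g, D.Rest g ∧ orderOf g = k := by
    intro k hk
    simp only [List.mem_cons, List.not_mem_nil, or_false] at hk
    rcases hk with rfl | rfl | rfl | rfl | rfl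
    exacts [⟨_, L.rest_t, L.ht⟩, L.basic_orders 4 (by simp), ⟨_, L.rest_x, L.hx⟩, ⟨_, L.rest_xt, L.ord_xt⟩,
      ⟨_, hrz (ho hy hc), ho hy hc⟩]
  have hnd : [2, 4, L.r, 2 * L.r, 4 * L.r].Nodup := by
    simp only [List.nodup_cons, List.mem_cons, List.not_mem_nil, or_false, List.nodup_nil, and_true,
      not_or, not_false_eq_true]
    omega
  have honly : ∀ z : G, D.Rest z → orderOf z ∈ [2, 4, L.r, 2 * L.r, 4 * L.r] := by
    intro z hz
    by_contra hn
    have := D.orders_le (orderOf z :: [2, 4, L.r, 2 * L.r, 4 * L.r]) (List.nodup_cons.2 ⟨hn, hnd⟩)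
      fun k hk => by
        rcases List.mem_cons.1 hk with rfl | hk
        exacts [⟨z, hz, rfl⟩, hbase k hk]
    simp only [List.length_cons, List.length_nil] at this
    omega
  have huniq : ∀ z z' : G, D.Rest z → D.Rest z' → orderOf z = orderOf z' → IsConj z z' := by
    intro z z' hz hz' e
    by_contra hn
    have := D.orders_pair_le ([2, 4, L.r, 2 * L.r, 4 * L.r].erase (orderOf z)) (hnd.erase _)
      (fun k hk => hbase k (List.mem_of_mem_erase hk)) hz hz' e hn (fun h => (hnd.mem_erase_iff.1 h).1 rfl)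
    rw [List.length_erase_of_mem (honly z hz)] at this
    simp only [List.length_cons, List.length_nil] at this
    omega
  set X := centralizer ({L.x} : Set G) with hXdef
  obtain ⟨P, -, hPab, hPX⟩ := L.exists_sylow_x
  let R : Sylow L.r X := P.subtype hPX
  have hR : ∀ a ∈ (R : Subgroup X), ∀ b ∈ (R : Subgroup X), Commute a b := fun a ha b hb =>
    Subtype.ext (hPab a (by simpa [R, Sylow.coe_subtype, Subgroup.mem_subgroupOf] using ha) b
      (by simpa [R, Sylow.coe_subtype, Subgroup.mem_subgroupOf] using hb)).eq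
  have hp : ∀ q : ℕ, q.Prime → q ∣ Nat.card X → q = 2 ∨ q = L.r := fun q => L.prime_centralizer_x
  have hconj4 : ∀ u u' : X, orderOf u = 4 → orderOf u' = 4 → IsConj u u' := by
    intro u u' hu hu'
    rw [← Subgroup.orderOf_coe] at hu hu'
    have hcu := commute_of_mem_centralizer u.2
    have hcu' := commute_of_mem_centralizer u'.2
    obtain ⟨w, hw⟩ := isConj_iff.1 (huniq _ _ (hrz (ho hu hcu)) (hrz (ho hu' hcu'))
      ((ho hu hcu).trans (ho hu' hcu').symm))
    have hr4 : (L.r * L.r) % 4 = 1 := by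
      rw [hj]
      have : (2 * j + 1) * (2 * j + 1) = 4 * (j * j + j) + 1 := by ring
      omega
    have hxr : L.x ^ L.r = 1 := by rw [← L.hx]; exact pow_orderOf_eq_one _
    have hpu : ∀ {z : G}, orderOf z = 4 → Commute z L.x → (z * L.x) ^ (L.r * L.r) = z := fun {z} hz hzc => by
      rw [hzc.mul_pow, pow_mul L.x, hxr, one_pow, mul_one, ← pow_mod_orderOf, hz, hr4, pow_one]
    have hwx : w * L.x * w⁻¹ = L.x := by
      have hu4 : ∀ {z : G}, orderOf z = 4 → Commute z L.x → ∀ i, (z * L.x) ^ (4 * i) = L.x ^ (4 * i) :=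
        fun {z} hz hzc i => by
          rw [hzc.mul_pow, pow_mul z, ← hz, pow_orderOf_eq_one, one_pow, one_mul]
      obtain ⟨i, hi⟩ := Nat.exists_mul_mod_eq_one_of_coprime hcop (by omega)
      have hx4 : L.x ^ (4 * i) = L.x := by
        rw [← pow_mod_orderOf, L.hx, hi.2, pow_one]
      conv_lhs => rw [← hx4, ← hu4 hu hcu, ← conj_pow, hw, hu4 hu' hcu', hx4]
    refine isConj_iff.2 ⟨⟨w, mem_centralizer_of_commute (mul_inv_eq_iff_eq_mul.1 hwx)⟩, Subtype.ext ?_⟩
    show w * (u : G) * w⁻¹ = u'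
    rw [← hpu hu hcu, ← conj_pow, hw, hpu hu' hcu']
  have h8 : ∀ u : X, orderOf u ≠ 8 := fun u hu => by
    rw [← Subgroup.orderOf_coe] at hu
    have := honly _ (D.rest_of_even (g := (u : G)) (by rw [hu]; norm_num))
    simp only [hu, List.mem_cons, List.not_mem_nil, or_false] at this
    omega
  have hn : ¬ (R : Subgroup X).Normal := not_normal_of_four L.hr2 hp L.conj_X hconj4 h8
    (y := ⟨y, mem_centralizer_of_commute hc⟩) (by rw [Subgroup.orderOf_mk]; exact hy) R
  obtain ⟨a, b, hab⟩ : ∃ a b, Nat.card X = 2 ^ a * L.r ^ b := by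
    refine ⟨(Nat.card X).factorization 2, (Nat.card X).factorization L.r, Nat.dvd_antisymm ?_ ?_⟩
    · refine dvd_of_parts hp (fun k hk => ?_) fun k hk => ?_
      · exact ((pow_dvd_pow 2 ((Nat.prime_two.pow_dvd_iff_le_factorization Nat.card_pos.ne').1 hk))).trans
          (dvd_mul_right _ _)
      · exact (pow_dvd_pow _ ((L.hr.pow_dvd_iff_le_factorization Nat.card_pos.ne').1 hk)).trans
          (dvd_mul_left _ _)
    · exact Nat.Coprime.mul_dvd_of_dvd_of_dvd (Nat.coprime_pow_primes _ _ Nat.prime_two L.hr L.hr2.symm)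
        (Nat.ordProj_dvd _ _) (Nat.ordProj_dvd _ _)
  haveI := Char.isSolvable_of_card_two_primes Nat.prime_two L.hr X a b hab
  obtain ⟨hk, -⟩ := index_centralizer L.r_three_five hp R hR hn L.conj_X
    (t := ⟨L.t, mem_centralizer_of_commute L.comm.symm⟩) (by rw [Subgroup.orderOf_mk]; exact L.ht)
  refine L.single_false (fun u hu => huniq _ _ L.rest_t (D.rest_of_even (by rw [hu]))
    (L.ht.trans hu.symm)) (fun p hp' hpM => ?_) hk ?_
  · obtain ⟨g, hg, hgr⟩ := D.prime_dvd_M hp' hpM
    have h := honly g hgr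
    simp only [hg, List.mem_cons, List.not_mem_nil, or_false] at h
    rcases h with h | h | h | h | h
    · exact Or.inl h
    · rw [h] at hp'; exact absurd hp' (by norm_num)
    · exact Or.inr h
    · rw [h] at hp'; exact absurd hp' (Nat.not_prime_mul (by norm_num) (by omega))
    · rw [h] at hp'; exact absurd hp' (Nat.not_prime_mul (by norm_num) (by omega))
  · rw [← L.card_cent_sub, Subgroup.index_mul_card]

/-- The centralizers of `x * t` and of `x`. -/
theorem shape : ∃ (c : ℕ) (Q : Subgroup G), L.x ∈ Q ∧ Q ≤ centralizer ({L.t} : Set G) ∧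
    Q ≤ centralizer ({L.x} : Set G) ∧ (∀ a ∈ Q, ∀ b ∈ Q, Commute a b) ∧
    (∀ a ∈ Q, a ≠ 1 → orderOf a = L.r) ∧ Nat.card Q = L.r ^ c ∧
    (∀ k, L.r ^ k ∣ Nat.card (centralizer ({L.t} : Set G)) → k ≤ c) ∧
    ((L.r = 3 ∧ (c = 1 ∨ c = 2)) ∨ (L.r = 5 ∧ c = 1)) ∧
    ((Nat.card (centralizer ({L.x * L.t} : Set G)) = 2 * L.r ^ c ∧
        ¬ 4 ∣ Nat.card (centralizer ({L.x} : Set G))) ∨
      (L.r = 3 ∧ Nat.card (centralizer ({L.x * L.t} : Set G)) = 4 * 3 ^ c ∧
        Nat.card (centralizer ({L.x} : Set G)) = 12 * 3 ^ c ∧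
        ∀ u u' : G, Commute u L.x → Commute u' L.x → u * u = 1 → u' * u' = 1 →
          u * u' * (u * u') = 1)) := by
  haveI := L.r_fact
  haveI : Fact (Nat.Prime 2) := ⟨Nat.prime_two⟩
  obtain ⟨c, Q, hxQ, hQt, hQx, hQc, hQe, hQ, hmax, hrc⟩ := L.exists_rpart
  refine ⟨c, Q, hxQ, hQt, hQx, hQc, hQe, hQ, hmax, hrc, ?_⟩
  set X := centralizer ({L.x} : Set G) with hXdef
  let t' : X := ⟨L.t, mem_centralizer_of_commute L.comm.symm⟩
  have ht' : orderOf t' = 2 := by rw [Subgroup.orderOf_mk]; exact L.ht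
  have h4 : ∀ g : X, orderOf g ≠ 4 := fun g hg => L.no_four
    (by rw [Subgroup.orderOf_coe]; exact hg) (commute_of_mem_centralizer g.2)
  obtain ⟨E, hE⟩ := (IsPGroup.of_card (n := 1)
    (by rw [pow_one, Nat.card_zpowers, ht'] : Nat.card (Subgroup.zpowers t') = 2 ^ 1)).exists_le_sylow
  have htE : t' ∈ (E : Subgroup X) := hE (Subgroup.mem_zpowers _)
  have hexp : ∀ g ∈ (E : Subgroup X), g * g = 1 := by
    intro g hg
    obtain ⟨k, hk⟩ := IsPGroup.iff_orderOf.1 E.isPGroup' ⟨g, hg⟩
    rw [Subgroup.orderOf_mk] at hk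
    have hk1 : k ≤ 1 := by
      by_contra hlt
      exact h4 (g ^ (orderOf g / 4)) (orderOf_pow_orderOf_div (orderOf_pos g).ne'
        (hk ▸ pow_dvd_pow 2 (show 2 ≤ k by omega)))
    rw [← pow_two]
    exact orderOf_dvd_iff_pow_eq_one.1 (hk ▸ pow_dvd_pow 2 hk1)
  have hEt : (E : Subgroup X) ≤ centralizer ({t'} : Set X) := fun g hg => by
    refine mem_centralizer_singleton_iff.2 ?_
    have e1 := inv_eq_of_mul_eq_one_right (hexp g hg)
    have e2 := inv_eq_of_mul_eq_one_right (invol_sq ht')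
    have e3 := inv_eq_of_mul_eq_one_right (hexp (g * t') (mul_mem hg htE))
    rw [mul_inv_rev, e1, e2] at e3
    exact e3.symm
  have hp : ∀ q : ℕ, q.Prime → q ∣ Nat.card X → q = 2 ∨ q = L.r := fun q => L.prime_centralizer_x
  -- the order of the centralizer of `x * t`
  have hC : Nat.card (centralizer ({L.x * L.t} : Set G)) = Nat.card (E : Subgroup X) * L.r ^ c := by
    have hsub : centralizer ({L.x * L.t} : Set G) ≤ X := by rw [L.cent_xt]; exact inf_le_left
    refine Nat.dvd_antisymm (dvd_of_parts (fun p hpp hd => hp p hpp (hd.trans (Subgroup.card_dvd_of_le hsub)))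
      (fun k hk => ?_) fun k hk => ?_) ?_
    · exact Dvd.dvd.mul_right
        (E.pow_dvd_card_of_pow_dvd_card (hk.trans (Subgroup.card_dvd_of_le hsub))) _
    · refine Dvd.dvd.mul_left (pow_dvd_pow _ (hmax k (hk.trans (Subgroup.card_dvd_of_le ?_)))) _
      rw [L.cent_xt]; exact inf_le_right
    · obtain ⟨i, hi⟩ := IsPGroup.iff_card.1 E.isPGroup'
      refine Nat.Coprime.mul_dvd_of_dvd_of_dvd ?_ ?_ ?_
      · rw [hi]; exact Nat.coprime_pow_primes _ _ Nat.prime_two L.hr L.hr2.symm
      · rw [← L.card_cent_sub]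
        exact Subgroup.card_dvd_of_le hEt
      · rw [← hQ]
        exact Subgroup.card_dvd_of_le (by rw [L.cent_xt]; exact le_inf hQx hQt)
  obtain ⟨P, -, hPab, hPX⟩ := L.exists_sylow_x
  let R : Sylow L.r X := P.subtype hPX
  have htwo : Nat.card (E : Subgroup X) = 2 → Nat.card (centralizer ({L.x * L.t} : Set G)) = 2 * L.r ^ c ∧
      ¬ 4 ∣ Nat.card X := fun h => ⟨by rw [hC, h], fun h4' => by
    have := E.pow_dvd_card_of_pow_dvd_card (n := 2) (show 2 ^ 2 ∣ Nat.card X from h4')
    rw [h] at this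
    exact absurd (Nat.le_of_dvd two_pos this) (by norm_num)⟩
  by_cases hn : (R : Subgroup X).Normal
  · left
    refine htwo ?_
    have e : (E : Subgroup X) = Subgroup.zpowers t' := by
      refine le_antisymm (fun g hg => ?_) hE
      by_cases hg1 : g = 1
      · rw [hg1]; exact one_mem _
      · haveI := hn
        rw [unique_invol L.hr2 hp L.conj_X R E hg htE (orderOf_two (hexp g hg) hg1) ht']
        exact Subgroup.mem_zpowers _
    rw [e, Nat.card_zpowers, ht']
  · obtain ⟨a, b, hab⟩ : ∃ a b, Nat.card X = 2 ^ a * L.r ^ b := by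
      refine ⟨(Nat.card X).factorization 2, (Nat.card X).factorization L.r, Nat.dvd_antisymm ?_ ?_⟩
      · refine dvd_of_parts hp (fun k hk => ?_) fun k hk => ?_
        · exact ((pow_dvd_pow 2 ((Nat.prime_two.pow_dvd_iff_le_factorization Nat.card_pos.ne').1 hk))).trans
            (dvd_mul_right _ _)
        · exact (pow_dvd_pow _ ((L.hr.pow_dvd_iff_le_factorization Nat.card_pos.ne').1 hk)).trans
            (dvd_mul_left _ _)
      · exact Nat.Coprime.mul_dvd_of_dvd_of_dvd (Nat.coprime_pow_primes _ _ Nat.prime_two L.hr L.hr2.symm)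
          (Nat.ordProj_dvd _ _) (Nat.ordProj_dvd _ _)
    haveI := Char.isSolvable_of_card_two_primes Nat.prime_two L.hr X a b hab
    have hR : ∀ a ∈ (R : Subgroup X), ∀ b ∈ (R : Subgroup X), Commute a b := fun a ha b hb =>
      Subtype.ext (hPab a (by simpa [R, Sylow.coe_subtype, Subgroup.mem_subgroupOf] using ha) b
        (by simpa [R, Sylow.coe_subtype, Subgroup.mem_subgroupOf] using hb)).eq
    obtain ⟨hk, hE'⟩ := index_centralizer L.r_three_five hp R hR hn L.conj_X ht'
    have hEk := hE' h4 E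
    rcases hk with hk | ⟨h3, hk⟩
    · left
      exact htwo (by rw [hEk, hk])
    · right
      refine ⟨h3, by rw [hC, hEk, hk, h3], ?_, fun u u' hu hu' h1 h1' => ?_⟩
      · have := Subgroup.index_mul_card (centralizer ({t'} : Set X))
        rw [hk, L.card_cent_sub, hC, hEk, hk, h3] at this
        rw [← this]; ring
      · obtain ⟨V, -, hV, -⟩ := invol_subgroup L.hr2 hp R hR hn L.conj_X
        have := (hV _).1 (mul_mem ((hV ⟨u, mem_centralizer_of_commute hu⟩).2 (Subtype.ext h1))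
          ((hV ⟨u', mem_centralizer_of_commute hu'⟩).2 (Subtype.ext h1')))
        exact congrArg Subtype.val this

end Loc

end CfsgLib.CIT.ThreeSystems
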