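import Mathlib
import Cfsg.Agent.Lib.CIT.ThreeSystems.Local
import Cfsg.Agent.Lib.CIT.ThreeSystems.CentEighteen

/-!
# Three self-centralizing systems: centralizer of order eighteen

The centralizer of `t` has order 144, there is a second class of involutions, the Sylow three-subgroups have
order nine, and counting pairs of conjugate involutions leaves finitely many orders, none of which satisfies
the class equation.
-/

set_option autoImplicit false
set_option linter.unusedSectionVars false
set_option linter.style.haveILetI false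
set_option linter.style.openClassical false

namespace CfsgLib.CIT.ThreeSystems

open Cfsg Subgroup

universe u

/-- The finite check: no order fits the class equation. -/
def smallCheck : Bool :=
  (List.range 38).all fun b => (List.range 38).all fun c =>
    b < 3 || c < 3 || b == c || 40 < b + c || Nat.gcd (1 + 4 * b) (1 + 4 * c) != 1 ||
      (1 + 4 * b) % 3 == 0 || (1 + 4 * c) % 3 == 0 || (1 + 4 * b) % 5 == 0 || (1 + 4 * c) % 5 == 0 ||
      (List.range 15).all fun a =>
        decide (2 ^ a * 9 ≤ 2 * (5 * (1 + 4 * b) * (1 + 4 * c))) ||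
        decide (3 * (5 * (1 + 4 * b) * (1 + 4 * c)) < 2 ^ a * 9) ||
        (2 ^ a * 9 * (2 * (1 + 4 * b) * (1 + 4 * c) + b * 5 * (1 + 4 * c) + c * 5 * (1 + 4 * b)) + 1) %
          (5 * (1 + 4 * b) * (1 + 4 * c)) != 0

theorem smallCheck_eq : smallCheck = true := by decide +kernel

theorem no_small_solution : ∀ b < 38, 3 ≤ b → ∀ c < 38, 3 ≤ c → b ≠ c → b + c ≤ 40 →
    (Nat.gcd (1 + 4 * b) (1 + 4 * c) = 1 ∧ (1 + 4 * b) % 3 ≠ 0 ∧ (1 + 4 * c) % 3 ≠ 0 ∧
      (1 + 4 * b) % 5 ≠ 0 ∧ (1 + 4 * c) % 5 ≠ 0) → ∀ a < 15,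
    2 * (5 * (1 + 4 * b) * (1 + 4 * c)) < 2 ^ a * 9 → 2 ^ a * 9 ≤ 3 * (5 * (1 + 4 * b) * (1 + 4 * c)) →
    (2 ^ a * 9 * (2 * (1 + 4 * b) * (1 + 4 * c) + b * 5 * (1 + 4 * c) + c * 5 * (1 + 4 * b)) + 1) %
      (5 * (1 + 4 * b) * (1 + 4 * c)) ≠ 0 := by
  intro b hb hb3 c hc hc3 hbc hsum ⟨hg, h1, h2, h3, h4⟩ a ha hlt hle h0
  have h := smallCheck_eq
  simp only [smallCheck, List.all_eq_true, List.mem_range] at h
  have h' := h b hb c hc
  simp only [Bool.or_eq_true, decide_eq_true_eq, beq_iff_eq, bne_iff_ne, List.all_eq_true,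
    List.mem_range] at h'
  rcases h' with ((((((((h' | h') | h') | h') | h') | h') | h') | h') | h') | h'
  all_goals first
    | omega
    | (rcases h' a ha with (h' | h') | h' <;> omega)
    | exact absurd hg h'

open scoped Classical

variable {G : Type u} [Group G] [Fintype G]

namespace Loc

variable {D : Hyp G} (L : Loc D)

theorem n_not_dvd' (hr : L.r = 3) (i : Fin 3) : ¬ 3 ∣ D.n i := fun h =>
  L.rN (hr ▸ h.trans (D.n_dvd_N i))

theorem card_cent_in {a u : G} (h : Commute a u) : Nat.card (centralizer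
    ({⟨a, mem_centralizer_of_commute h⟩} : Set (centralizer ({u} : Set G)))) =
    Nat.card ↥(centralizer ({a} : Set G) ⊓ centralizer ({u} : Set G)) := by
  have e : centralizer ({⟨a, mem_centralizer_of_commute h⟩} : Set (centralizer ({u} : Set G))) =
      (centralizer ({a} : Set G) ⊓ centralizer ({u} : Set G)).subgroupOf (centralizer ({u} : Set G)) := by
    ext ⟨g, hg⟩
    rw [Subgroup.mem_subgroupOf, Subgroup.mem_inf]
    simp only [hg, and_true, Subgroup.mem_centralizer_singleton_iff, Subtype.ext_iff, Subgroup.coe_mul]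
  rw [e]
  exact Nat.card_congr (Subgroup.subgroupOfEquivOfLe inf_le_right).toEquiv

theorem eighteen_data (hr : L.r = 3) (Q : Subgroup G) (hxQ : L.x ∈ Q)
    (hQt : Q ≤ centralizer ({L.t} : Set G)) (hQc : ∀ a ∈ Q, ∀ b ∈ Q, Commute a b)
    (hQe : ∀ a ∈ Q, a ≠ 1 → orderOf a = L.r) (hQ : Nat.card Q = 3 ^ 2)
    (hmax : ∀ k, L.r ^ k ∣ Nat.card (centralizer ({L.t} : Set G)) → k ≤ 2)
    (hC : Nat.card (centralizer ({L.x * L.t} : Set G)) = 18) :
    Nat.card (centralizer ({L.t} : Set G)) = 144 ∧ ∃ v y : G, orderOf v = 2 ∧ orderOf y = 4 ∧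
      v = y * y ∧ ¬ IsConj L.t v ∧ ∀ a ∈ Q, v * a * v⁻¹ = a⁻¹ := by
  haveI : Fact (Nat.Prime 3) := ⟨Nat.prime_three⟩
  set H := centralizer ({L.t} : Set G) with hH
  have h5 := D.R_le
  have hmax' : ∀ k, 3 ^ k ∣ Nat.card H → k ≤ 2 := by rw [hr] at hmax; exact hmax
  have hQH : Nat.card (Q.subgroupOf H) = 3 ^ (Nat.card H).factorization 3 := by
    rw [Nat.card_congr (Subgroup.subgroupOfEquivOfLe hQt).toEquiv, hQ]
    refine congrArg _ (le_antisymm ?_ (hmax' _ (Nat.ordProj_dvd _ _)))
    exact ((Nat.prime_three).pow_dvd_iff_le_factorization Nat.card_pos.ne').1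
      (hQ ▸ Subgroup.card_dvd_of_le hQt)
  have hp : ∀ q : ℕ, q.Prime → q ∣ Nat.card H → q = 2 ∨ q = 3 := fun q hq h => by
    have := L.prime_centralizer_invol L.ht hq h
    rwa [hr] at this
  obtain ⟨a, b, hab⟩ : ∃ a b, Nat.card H = 2 ^ a * 3 ^ b := by
    refine ⟨(Nat.card H).factorization 2, (Nat.card H).factorization 3, Nat.dvd_antisymm ?_ ?_⟩
    · refine dvd_of_parts hp (fun k hk => ?_) fun k hk => ?_
      · exact ((pow_dvd_pow 2 ((Nat.prime_two.pow_dvd_iff_le_factorization Nat.card_pos.ne').1 hk))).trans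
          (dvd_mul_right _ _)
      · exact (pow_dvd_pow _ ((Nat.prime_three.pow_dvd_iff_le_factorization Nat.card_pos.ne').1 hk)).trans
          (dvd_mul_left _ _)
    · exact Nat.Coprime.mul_dvd_of_dvd_of_dvd (Nat.coprime_pow_primes _ _ Nat.prime_two Nat.prime_three
        (by norm_num)) (Nat.ordProj_dvd _ _) (Nat.ordProj_dvd _ _)
  haveI := Char.isSolvable_of_card_two_primes Nat.prime_two Nat.prime_three H a b hab
  have hx' : orderOf (⟨L.x, hQt hxQ⟩ : H) = 3 := by rw [Subgroup.orderOf_mk, L.hx, hr]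
  let E : Eighteen H :=
    { t := ⟨L.t, mem_centralizer_of_commute (Commute.refl L.t)⟩
      x := ⟨L.x, hQt hxQ⟩
      P := Sylow.ofCard (Q.subgroupOf H) hQH
      ht := by rw [Subgroup.orderOf_mk]; exact L.ht
      cen := fun g => Subtype.ext (commute_of_mem_centralizer g.2).eq
      hx := hxQ
      hx1 := fun e => by rw [e, orderOf_one] at hx'; omega
      comm := fun a ha b hb => Subtype.ext (hQc _ ha _ hb).eq
      expo := fun a ha h1 => by
        rw [← Subgroup.orderOf_coe, hQe (a : G) ha (fun e => h1 (Subtype.ext e)), hr]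
      nine := by
        rw [Sylow.coe_ofCard, Nat.card_congr (Subgroup.subgroupOfEquivOfLe hQt).toEquiv, hQ]
        norm_num
      primes := hp
      conj := fun a ha => by
        rw [← Subgroup.orderOf_coe, ← hr] at ha
        obtain ⟨w, hw, e⟩ := L.conj_r L.ht L.hx ha L.comm (commute_of_mem_centralizer a.2)
        exact isConj_iff.2 ⟨⟨w, mem_centralizer_of_commute hw⟩, Subtype.ext e⟩
      cent := by
        rw [card_cent_in L.comm, ← L.cent_xt, hC]
      no16 := fun g hg => by
        have o8 : orderOf (g ^ 2) = 8 := by rw [orderOf_pow' g two_ne_zero, hg]; norm_num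
        rw [← Subgroup.orderOf_coe] at hg o8
        refine L.false_of_two_orders (D.rest_of_even (g := (g : G)) (by rw [hg]; norm_num))
          (D.rest_of_even (g := ((g ^ 2 : H) : G)) (by rw [o8]; norm_num)) ?_ ?_ ?_ <;>
          simp only [hg, o8, hr, List.mem_cons, List.not_mem_nil, or_false, not_or] <;> omega }
  refine ⟨E.card_eq, ?_⟩
  obtain ⟨hnsq, v, y, hv, hy, hvy, -, hinv⟩ := E.two_facts
  refine ⟨v, y, by rw [Subgroup.orderOf_coe]; exact hv, by rw [Subgroup.orderOf_coe]; exact hy,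
    by rw [hvy]; rfl, fun hc => ?_, fun a ha => ?_⟩
  · obtain ⟨w, hw⟩ := isConj_iff.1 hc.symm
    have e : w * (y : G) * w⁻¹ * (w * (y : G) * w⁻¹) = L.t := by
      rw [← hw, hvy, Subgroup.coe_mul]; group
    have hmem : w * (y : G) * w⁻¹ ∈ H := mem_centralizer_of_commute
      (e ▸ (Commute.refl (w * (y : G) * w⁻¹)).mul_right (Commute.refl _))
    exact hnsq ⟨_, hmem⟩ (Subtype.ext e)
  · exact congrArg Subtype.val (hinv ⟨a, hQt ha⟩ ha)

theorem false_eighteen (hr : L.r = 3) (Q : Subgroup G) (hxQ : L.x ∈ Q)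
    (hQt : Q ≤ centralizer ({L.t} : Set G)) (hQc : ∀ a ∈ Q, ∀ b ∈ Q, Commute a b)
    (hQe : ∀ a ∈ Q, a ≠ 1 → orderOf a = L.r) (hQ : Nat.card Q = 3 ^ 2)
    (hmax : ∀ k, L.r ^ k ∣ Nat.card (centralizer ({L.t} : Set G)) → k ≤ 2)
    (hC : Nat.card (centralizer ({L.x * L.t} : Set G)) = 18)
    (h4 : ¬ 4 ∣ Nat.card (centralizer ({L.x} : Set G))) : False := by
  haveI : Fact (Nat.Prime 3) := ⟨Nat.prime_three⟩
  haveI : Fact (Nat.Prime 2) := ⟨Nat.prime_two⟩
  obtain ⟨hCt, v, y, hv, hy, hvy, hvt, hinv⟩ := L.eighteen_data hr Q hxQ hQt hQc hQe hQ hmax hC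
  have h5 := D.R_le
  have hrv : D.Rest v := D.rest_of_even (by rw [hv])
  have hry : D.Rest y := D.rest_of_even (by rw [hy]; norm_num)
  have hx : orderOf L.x = 3 := L.hx.trans hr
  have hxt : orderOf (L.x * L.t) = 6 := by rw [L.ord_xt, hr]
  have hbase : ∀ w ∈ [L.t, v, y, L.x, L.x * L.t], D.Rest w := by
    simp only [List.mem_cons, List.not_mem_nil, or_false]
    rintro w (rfl | rfl | rfl | rfl | rfl)
    exacts [L.rest_t, hrv, hry, L.rest_x, L.rest_xt]
  have hpw : [L.t, v, y, L.x, L.x * L.t].Pairwise fun a b => ¬ IsConj a b := by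
    simp only [List.pairwise_cons, List.mem_cons, List.not_mem_nil, or_false, forall_eq_or_imp, forall_eq,
      List.Pairwise.nil, and_true, false_implies, implies_true]
    repeat' constructor
    all_goals first
      | exact hvt
      | (refine not_isConj_of_orderOf ?_; simp only [L.ht, hv, hy, hx, hxt]; omega)
  have hR : D.R = 5 := le_antisymm h5 (D.reps_le _ hbase hpw)
  have hsix : ∀ g : G, D.Rest g → IsConj g L.t ∨ IsConj g v ∨ IsConj g y ∨ IsConj g L.x ∨
      IsConj g (L.x * L.t) := by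
    intro g hg
    by_contra! hn
    have := D.reps_le (g :: [L.t, v, y, L.x, L.x * L.t]) ?_ ?_
    · simp only [List.length_cons, List.length_nil] at this
      omega
    · intro w hw
      rcases List.mem_cons.1 hw with rfl | hw
      exacts [hg, hbase w hw]
    · refine List.pairwise_cons.2 ⟨?_, hpw⟩
      simp only [List.mem_cons, List.not_mem_nil, or_false]
      rintro w (rfl | rfl | rfl | rfl | rfl)
      exacts [hn.1, hn.2.1, hn.2.2.1, hn.2.2.2.1, hn.2.2.2.2]
  have horders : ∀ g : G, D.Rest g → orderOf g = 2 ∨ orderOf g = 4 ∨ orderOf g = 3 ∨ orderOf g = 6 := by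
    intro g hg
    rcases hsix g hg with h | h | h | h | h <;> have := isConj_orderOf h <;>
      simp only [L.ht, hv, hy, hx, hxt] at this <;> omega
  have hthree : ∀ z : G, orderOf z = 3 → IsConj z L.x := by
    intro z hz
    rcases hsix z (D.rest_of_prime Nat.prime_three hz (hr ▸ L.rN)) with h | h | h | h | h
    rotate_right
    · have := isConj_orderOf h; simp only [hxt, hz] at this; omega
    all_goals first
      | exact h
      | (have := isConj_orderOf h; simp only [L.ht, hv, hy, hz] at this; omega)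
  -- no element of order three commutes with `v`
  have hv3 : ∀ z : G, orderOf z = 3 → ¬ Commute z v := by
    intro z hz hc
    obtain ⟨w, hw⟩ := isConj_iff.1 (hthree z hz)
    have hv' : orderOf (w * v * w⁻¹) = 2 := by rw [orderOf_conj_eq]; exact hv
    have hcx : Commute L.x (w * v * w⁻¹) := by
      rw [← hw]
      show w * z * w⁻¹ * (w * v * w⁻¹) = w * v * w⁻¹ * (w * z * w⁻¹)
      calc w * z * w⁻¹ * (w * v * w⁻¹) = w * (z * v) * w⁻¹ := by group
        _ = w * (v * z) * w⁻¹ := by rw [hc.eq]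
        _ = w * v * w⁻¹ * (w * z * w⁻¹) := by group
    obtain ⟨u, -, hu⟩ := L.conj_invol L.ht hv' L.comm hcx
    exact hvt ((isConj_iff.2 ⟨u, hu⟩).trans (isConj_iff.2 ⟨w⁻¹, by group⟩))
  obtain ⟨S, hS⟩ := (IsPGroup.of_card hQ).exists_le_sylow
  have hSc : ∀ a ∈ (S : Subgroup G), ∀ b ∈ (S : Subgroup G), Commute a b := fun a ha b hb =>
    congrArg Subtype.val ((L.ab 3 Nat.prime_three (by norm_num) (hr ▸ L.rN) S).is_comm.comm
      (⟨a, ha⟩ : (S : Subgroup G)) ⟨b, hb⟩)
  have hSx : (S : Subgroup G) ≤ centralizer ({L.x} : Set G) := fun g hg =>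
    mem_centralizer_of_commute (hSc g hg _ (hS hxQ))
  obtain ⟨n, hn⟩ := IsPGroup.iff_card.1 S.isPGroup'
  have hexp : ∀ a ∈ (S : Subgroup G), a ≠ 1 → orderOf a = 3 := by
    intro a ha h1
    obtain ⟨k, hk⟩ := IsPGroup.iff_orderOf.1 S.isPGroup' ⟨a, ha⟩
    rw [Subgroup.orderOf_mk] at hk
    have hra : D.Rest a := D.rest_of_not_dvd h1 fun i hi => by
      rcases Nat.eq_zero_or_pos k with h | h
      · rw [h, pow_zero, orderOf_eq_one_iff] at hk; exact h1 hk
      · exact L.rN (hr ▸ ((dvd_pow_self 3 h.ne').trans (hk ▸ hi)).trans (D.n_dvd_N i))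
    have hodd : Odd (orderOf a) := by rw [hk]; exact Odd.pow (by decide)
    rcases horders a hra with h | h | h | h
    all_goals first
      | exact h
      | (rw [h] at hodd; exact absurd hodd (by decide))
  have hn2 : n ≤ 2 := by
    by_contra hn3
    have hp : ∀ q : ℕ, q.Prime → q ∣ Nat.card (centralizer ({L.x} : Set G)) → q = 2 ∨ q = 3 :=
      fun q hq h => by have := L.prime_centralizer_x hq h; rwa [hr] at this
    have hX : ∀ g : G, (∀ a ∈ Q, Commute g a) → g ∈ centralizer ({L.x} : Set G) := fun g hg =>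
      mem_centralizer_of_commute (hg _ hxQ)
    have hXdvd : Nat.card (centralizer ({L.x} : Set G)) ∣ 2 * Nat.card (S : Subgroup G) := by
      refine dvd_of_parts hp (fun k hk => ?_) fun k hk => ?_
      · refine Dvd.dvd.mul_right ((pow_dvd_pow 2 (?_ : k ≤ 1)).trans (by norm_num)) _
        by_contra hlt
        exact h4 ((pow_dvd_pow 2 (show 2 ≤ k by omega)).trans hk)
      · exact Dvd.dvd.mul_left
          (S.pow_dvd_card_of_pow_dvd_card (hk.trans (Subgroup.card_subgroup_dvd_card _))) _
    -- `v` normalises `S`, the only Sylow subgroup of the centralizer of `Q`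
    set D' := centralizer (Q : Set G) with hD'
    have hSD : (S : Subgroup G) ≤ D' := fun g hg =>
      mem_centralizer_iff.2 fun a ha => (hSc a (hS ha) g hg).eq
    have hD'X : D' ≤ centralizer ({L.x} : Set G) := fun g hg =>
      hX g fun a ha => (mem_centralizer_iff.1 hg a ha).symm
    let S' : Sylow 3 D' := S.subtype hSD
    have hidx : (S' : Subgroup D').index ∣ 2 := by
      have h1 := Subgroup.card_mul_index (S' : Subgroup D')
      rw [show Nat.card (S' : Subgroup D') = Nat.card (S : Subgroup G) from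
        Nat.card_congr (Subgroup.subgroupOfEquivOfLe hSD).toEquiv] at h1
      have h2 := (Subgroup.card_dvd_of_le hD'X).trans hXdvd
      rw [← h1, mul_comm 2] at h2
      exact Nat.dvd_of_mul_dvd_mul_left Nat.card_pos h2
    have hS'n : (S' : Subgroup D').Normal := by
      rcases (Nat.dvd_prime Nat.prime_two).1 hidx with h | h
      · rw [Subgroup.index_eq_one.1 h]; infer_instance
      · exact Subgroup.normal_of_index_eq_two h
    have hvS : ∀ a ∈ (S : Subgroup G), v * a * v⁻¹ ∈ (S : Subgroup G) := by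
      intro a ha
      by_cases h1 : a = 1
      · simp [h1]
      have hb : v * a * v⁻¹ ∈ D' := by
        refine mem_centralizer_iff.2 fun q hq => ?_
        have hq' := hinv q⁻¹ (inv_mem hq)
        rw [inv_inv] at hq'
        have hc := hSc (q⁻¹) (inv_mem (hS hq)) a ha
        calc q * (v * a * v⁻¹) = v * q⁻¹ * v⁻¹ * (v * a * v⁻¹) := by rw [hq']
          _ = v * (q⁻¹ * a) * v⁻¹ := by group
          _ = v * (a * q⁻¹) * v⁻¹ := by rw [hc.eq]
          _ = v * a * v⁻¹ * (v * q⁻¹ * v⁻¹) := by group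
          _ = v * a * v⁻¹ * q := by rw [hq']
      let b : D' := ⟨v * a * v⁻¹, hb⟩
      have hb3 : orderOf b = 3 := by rw [Subgroup.orderOf_mk, orderOf_conj_eq]; exact hexp a ha h1
      have hbi : b ^ (S' : Subgroup D').index ∈ (S' : Subgroup D') :=
        Subgroup.pow_index_mem (S' : Subgroup D') b
      have hmem : b ∈ (S' : Subgroup D') := by
        rcases (Nat.dvd_prime Nat.prime_two).1 hidx with h | h
        · rw [h, pow_one] at hbi; exact hbi
        · rw [h] at hbi
          have := pow_mem hbi 2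
          rwa [← pow_mul, ← pow_mod_orderOf, hb3, show 2 * 2 % 3 = 1 by norm_num, pow_one] at this
      exact hmem
    have hfpf : ∀ a ∈ (S : Subgroup G), Commute v a → a = 1 := fun a ha hc => by
      by_contra h1
      exact hv3 a (hexp a ha h1) hc.symm
    have hinvS : ∀ a ∈ (S : Subgroup G), v * a * v⁻¹ = a⁻¹ := fun a ha =>
      inverts_of_fpf hSc (invol_sq hv) hvS hfpf ha
    have hCS : ∀ g : G, (∀ a ∈ (S : Subgroup G), Commute g a) → g ∈ (S : Subgroup G) := by
      set K := centralizer ((S : Subgroup G) : Set G) with hK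
      have hodd : ¬ 2 ∣ Nat.card K := by
        intro hd
        obtain ⟨u, hu⟩ := exists_prime_orderOf_dvd_card' (G := K) 2 hd
        have hu' : orderOf (u : G) = 2 := by rw [Subgroup.orderOf_coe, hu]
        have hSu : (S : Subgroup G) ≤ centralizer ({(u : G)} : Set G) := fun g hg =>
          mem_centralizer_singleton_iff.2 (mem_centralizer_iff.1 u.2 g hg)
        rcases hsix u (D.rest_of_even (by rw [hu'])) with h | h | h | h | h
        · have hd' := Subgroup.card_dvd_of_le hSu
          rw [card_centralizer_isConj h, hn] at hd'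
          rw [hr] at hmax
          exact hn3 (hmax n hd')
        · obtain ⟨w, hw⟩ := isConj_iff.1 h
          have hz := hexp _ (hS hxQ) (fun e => by rw [e, orderOf_one] at hx; omega)
          refine hv3 (w * L.x * w⁻¹) (by rw [orderOf_conj_eq]; exact hx) ?_
          rw [← hw]
          show w * L.x * w⁻¹ * (w * u * w⁻¹) = w * u * w⁻¹ * (w * L.x * w⁻¹)
          have := commute_of_mem_centralizer (hSu (hS hxQ))
          calc w * L.x * w⁻¹ * (w * u * w⁻¹) = w * (L.x * u) * w⁻¹ := by group
            _ = w * (u * L.x) * w⁻¹ := by rw [this.eq]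
            _ = w * u * w⁻¹ * (w * L.x * w⁻¹) := by group
        all_goals
          have := isConj_orderOf h
          simp only [hy, hx, hxt, hu'] at this
          omega
      intro g hg
      have hgK : g ∈ K := mem_centralizer_iff.2 fun a ha => (hg a ha).eq.symm
      have hSK : (S : Subgroup G) ≤ K := fun a ha => mem_centralizer_iff.2 fun b hb => (hSc b hb a ha).eq
      have hKX : K ≤ centralizer ({L.x} : Set G) := fun g hg =>
        mem_centralizer_singleton_iff.2 (mem_centralizer_iff.1 hg _ (hS hxQ)).symm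
      have hKS : Nat.card K ∣ Nat.card (S : Subgroup G) := by
        refine Nat.Coprime.dvd_of_dvd_mul_left ?_ ((Subgroup.card_dvd_of_le hKX).trans hXdvd)
        exact Nat.Coprime.symm (Nat.prime_two.coprime_iff_not_dvd.2 hodd)
      rw [Subgroup.eq_of_le_of_card_ge hSK (Nat.le_of_dvd Nat.card_pos hKS)]
      exact hgK
    have horb := orbit_dvd (S : Subgroup G) hSc (hS hxQ)
      (fun e => by rw [e, orderOf_one] at hx; omega) fun z hz hz1 => by
        obtain ⟨w, hw⟩ := isConj_iff.1 (hthree z (hexp z hz hz1)).symm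
        have hcen : ∀ a ∈ (S : Subgroup G), (S : Subgroup G) ≤ centralizer ({a} : Set G) :=
          fun a ha b hb => mem_centralizer_of_commute (hSc b hb a ha)
        obtain ⟨k, hk, hk'⟩ := Fusion.exists_normalizer_conj_eq_of_central S (hcen _ (hS hxQ)) w
          (by rw [hw]; exact hcen z hz)
        exact ⟨k, hk, hk'.trans hw⟩
    rw [hn] at horb
    have h13 : 1 < 3 ^ n := Nat.one_lt_pow (by omega) (by norm_num)
    have hj : 3 ^ n - 1 = 2 ^ (3 ^ n - 1).primeFactorsList.length :=
      Nat.eq_prime_pow_of_unique_prime_dvd (by omega) fun {q} hq hqd => by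
        have hq3 : q ≠ 3 := by
          rintro rfl
          have := Nat.dvd_sub (dvd_pow_self 3 (show n ≠ 0 by omega)) hqd
          rw [Nat.sub_sub_self h13.le] at this
          omega
        have hqv := prime_of_inverted hSc hCS (by rw [hn]; exact Odd.pow (by decide)) (invol_sq hv) hinvS hq
          (hqd.trans ((dvd_mul_right _ _).trans horb)) (by
            rw [hn]
            exact fun h => hq3 ((Nat.prime_dvd_prime_iff_eq hq Nat.prime_three).1 (hq.dvd_of_dvd_pow h)))
        rcases L.prime_centralizer_invol hv hq hqv with h | h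
        · exact h
        · exact absurd (h.trans hr) hq3
    rcases pow_sub_one_two Nat.prime_three (by norm_num) (by omega) hj with h | ⟨-, h⟩ <;> omega
  -- the order of the group
  set a := D.M.factorization 2 with ha
  have hMp : ∀ q : ℕ, q.Prime → q ∣ D.M → q = 2 ∨ q = 3 := fun q hq h => by
    obtain ⟨g, hg, hgr⟩ := D.prime_dvd_M hq h
    rcases horders g hgr with e | e | e | e <;> rw [hg] at e <;> subst e
    · exact Or.inl rfl
    · exact absurd hq (by norm_num)
    · exact Or.inr rfl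
    · exact absurd hq (by norm_num)
  have hMG : D.M ∣ Nat.card G := by rw [D.card_eq]; exact dvd_mul_left _ _
  have hxtM := D.centralizer_dvd_M L.rest_xt
  rw [hC] at hxtM
  have hM : D.M = 2 ^ a * 9 := by
    refine Nat.dvd_antisymm (dvd_of_parts hMp (fun k hk => ?_) fun k hk => ?_) ?_
    · exact (pow_dvd_pow 2 ((Nat.prime_two.pow_dvd_iff_le_factorization D.M_pos.ne').1 hk)).mul_right _
    · have := (S.pow_dvd_card_of_pow_dvd_card (hk.trans hMG))
      rw [hn] at this
      exact ((this.trans (pow_dvd_pow 3 hn2)).trans (by norm_num : 3 ^ 2 ∣ 9)).mul_left _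
    · exact Nat.Coprime.mul_dvd_of_dvd_of_dvd
        (Nat.Coprime.pow_left _ (by norm_num)) (Nat.ordProj_dvd _ _) ((Dvd.intro 2 rfl : 9 ∣ 18).trans hxtM)
  have hX18 : Nat.card (centralizer ({L.x} : Set G)) = 18 := by
    refine Nat.dvd_antisymm (dvd_of_parts
      (fun q hq h => by have := L.prime_centralizer_x hq h; rwa [hr] at this)
      (fun k hk => ?_) fun k hk => ?_) ?_
    · refine (pow_dvd_pow 2 (?_ : k ≤ 1)).trans (by norm_num)
      by_contra hlt
      exact h4 ((pow_dvd_pow 2 (show 2 ≤ k by omega)).trans hk)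
    · have := S.pow_dvd_card_of_pow_dvd_card (hk.trans (Subgroup.card_subgroup_dvd_card _))
      rw [hn] at this
      exact (this.trans (pow_dvd_pow 3 hn2)).trans (by norm_num)
    · rw [← hC, L.cent_xt]
      exact Subgroup.card_dvd_of_le inf_le_left
  have h2N := D.two_N_lt_M hR
  have hle := D.M_le
  have e0 := D.n_eq_zero
  have e1 := D.n_eq_one
  have e2 := D.n_eq_two
  obtain ⟨-, hm1, hm2⟩ := L.nine_le_sum hr
  have hlow := D.low₀
  have hn0 : 5 ≤ D.n 0 := hlow
  have hN585 : 5 * 13 * 13 ≤ D.N := Nat.mul_le_mul (Nat.mul_le_mul hn0 (by omega)) (by omega)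
  -- `v` is central in a Sylow two-subgroup
  have hCv : 2 ^ a ∣ Nat.card (centralizer ({v} : Set G)) := by
    obtain ⟨z, hz, hzk⟩ := D.exists_central_two
    have hza : 2 ^ a ∣ Nat.card (centralizer ({z} : Set G)) := hzk a ((Nat.ordProj_dvd _ _).trans hMG)
    rcases hsix z (D.rest_of_even (by rw [hz])) with h | h | h | h | h
    · exfalso
      rw [card_centralizer_isConj h, hCt] at hza
      have ha4 : a ≤ 4 := by
        by_contra hlt
        exact absurd ((pow_dvd_pow 2 (show 5 ≤ a by omega)).trans hza) (by norm_num)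
      have := Nat.pow_le_pow_right two_pos ha4
      rw [hM] at h2N
      omega
    · rwa [card_centralizer_isConj h] at hza
    all_goals
      have := isConj_orderOf h
      simp only [hy, hx, hxt, hz] at this
      omega
  have hJ := D.invert_count v ({1, 2} : Finset (Fin 3)) (fun i hi => by
    have hi4 : wt i = 4 := by
      simp only [Finset.mem_insert, Finset.mem_singleton] at hi
      rcases hi with rfl | rfl <;> rfl
    obtain ⟨w, hwN, hw⟩ := D.exists_four hi4
    obtain ⟨hw2, hw2N⟩ := D.sq_mem_normalizer hw hwN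
    refine ⟨w ^ 2, hw2N, hw2, ?_⟩
    rcases hsix w (D.rest_of_even (by rw [hw]; norm_num)) with h | h | h | h | h
    rotate_left 2
    · obtain ⟨k, hk⟩ := isConj_iff.1 h.symm
      refine isConj_iff.2 ⟨k, ?_⟩
      rw [hvy, ← hk, pow_two]; group
    all_goals
      have := isConj_orderOf h
      simp only [L.ht, hv, hy, hx, hxt, hw] at this
      omega)
  rw [Finset.sum_pair (by decide : (1 : Fin 3) ≠ 2)] at hJ
  have hcls := Hyp.card_cls v
  set cv := Nat.card (centralizer ({v} : Set G))
  have hcv : 2 ^ a ≤ cv := Nat.le_of_dvd Nat.card_pos hCv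
  have h1 : cv ^ 2 * (D.m 1 + D.m 2) ≤ Nat.card G := by
    refine Nat.le_of_mul_le_mul_left ?_ (Nat.card_pos : 0 < Nat.card G)
    calc Nat.card G * (cv ^ 2 * (D.m 1 + D.m 2)) = Nat.card G * (D.m 1 + D.m 2) * cv ^ 2 := by ring
      _ ≤ (Hyp.cls v).card ^ 2 * cv ^ 2 := Nat.mul_le_mul_right _ hJ
      _ = Nat.card G * Nat.card G := by rw [← mul_pow, hcls, pow_two]
  have h2 : 2 ^ a * (D.m 1 + D.m 2) ≤ 9 * D.N := by
    refine Nat.le_of_mul_le_mul_left ?_ (Nat.two_pow_pos a)
    calc 2 ^ a * (2 ^ a * (D.m 1 + D.m 2)) = (2 ^ a) ^ 2 * (D.m 1 + D.m 2) := by ring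
      _ ≤ cv ^ 2 * (D.m 1 + D.m 2) := Nat.mul_le_mul_right _ (Nat.pow_le_pow_left hcv 2)
      _ ≤ Nat.card G := h1
      _ = 2 ^ a * (9 * D.N) := by rw [D.card_eq, hM]; ring
  have h3 : D.m 1 + D.m 2 ≤ 40 := by
    by_contra hlt
    have := Nat.mul_le_mul_left (2 ^ a) (show 41 ≤ D.m 1 + D.m 2 by omega)
    rw [hM] at h2N
    omega
  -- the first subgroup has order five
  have hn0' : D.n 0 = 5 := by
    have hs := D.sum_inv_lt {L.x, L.x * L.t, L.t}
      (by simp [L.rest_x, L.rest_xt, L.rest_t]) (by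
        intro g hg g' hg' hc
        have ho := isConj_orderOf hc
        simp only [Finset.mem_insert, Finset.mem_singleton] at hg hg'
        rcases hg with rfl | rfl | rfl <;> rcases hg' with rfl | rfl | rfl <;>
          first
            | rfl
            | (exfalso; simp only [L.ht, hx, hxt] at ho; omega))
    rw [Finset.sum_insert, Finset.sum_pair, hX18, hC, hCt] at hs
    · by_contra hne
      have h7 : (7 : ℚ) ≤ D.n 0 := by exact_mod_cast (show 7 ≤ D.n 0 by omega)
      have h13 : (13 : ℚ) ≤ D.n 1 := by exact_mod_cast (show 13 ≤ D.n 1 by omega)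
      have h13' : (13 : ℚ) ≤ D.n 2 := by exact_mod_cast (show 13 ≤ D.n 2 by omega)
      have a0 : 1 / (2 * (D.n 0 : ℚ)) ≤ 1 / 14 := one_div_le_one_div_of_le (by norm_num) (by linarith)
      have a1 : 1 / (4 * (D.n 1 : ℚ)) ≤ 1 / 52 := one_div_le_one_div_of_le (by norm_num) (by linarith)
      have a2 : 1 / (4 * (D.n 2 : ℚ)) ≤ 1 / 52 := one_div_le_one_div_of_le (by norm_num) (by linarith)
      push_cast at hs
      linarith
    · intro e
      have := congrArg orderOf e
      rw [hxt, L.ht] at this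
      omega
    · simp only [Finset.mem_insert, Finset.mem_singleton]
      rintro (e | e) <;> have := congrArg orderOf e <;> simp only [L.ht, hx, hxt] at this <;> omega
  have hlam := D.lam_mod
  have hm0 : D.m 0 = 2 := by omega
  have c12 := D.pairwise_coprime (i := 1) (j := 2) (by decide)
  have c01 := D.pairwise_coprime (i := 0) (j := 1) (by decide)
  have c02 := D.pairwise_coprime (i := 0) (j := 2) (by decide)
  have d1 := L.n_not_dvd' hr 1
  have d2 := L.n_not_dvd' hr 2
  unfold Hyp.lam Hyp.N at hlam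
  unfold Hyp.N at h2N hle
  rw [hn0'] at c01 c02
  rw [hn0', hm0, hM, e1, e2] at hlam
  rw [hn0', hM, e1, e2] at h2N hle
  rw [e1] at c01 c12 d1
  rw [e2] at c02 c12 d2
  refine no_small_solution (D.m 1) (by omega) hm1 (D.m 2) (by omega) hm2 D.m_ne h3
    ⟨c12, fun h => d1 (Nat.dvd_of_mod_eq_zero h), fun h => d2 (Nat.dvd_of_mod_eq_zero h),
      fun h => Nat.not_coprime_of_dvd_of_dvd (by norm_num) dvd_rfl (Nat.dvd_of_mod_eq_zero h) c01,
      fun h => Nat.not_coprime_of_dvd_of_dvd (by norm_num) dvd_rfl (Nat.dvd_of_mod_eq_zero h) c02⟩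
    a ?_ h2N hle hlam
  by_contra hlt
  have hbig := Nat.pow_le_pow_right two_pos (show 15 ≤ a by omega)
  have hb : (1 + 4 * D.m 1) * (1 + 4 * D.m 2) ≤ 81 * 81 := by
    nlinarith [sq_nonneg ((D.m 1 : ℤ) - D.m 2)]
  have : 5 * (1 + 4 * D.m 1) * (1 + 4 * D.m 2) ≤ 5 * (81 * 81) := by
    rw [mul_assoc]; exact Nat.mul_le_mul_left _ hb
  omega

end Loc

end CfsgLib.CIT.ThreeSystems
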