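import Mathlib
import Cfsg.Agent.Lib.CIT.ThreeSystems.Local
import Cfsg.Agent.Lib.BSW.CharTools

/-!
# Three self-centralizing systems: centralizers of order six and ten
-/

set_option autoImplicit false
set_option linter.unusedSectionVars false
set_option linter.style.haveILetI false
set_option linter.style.openClassical false

namespace CfsgLib.CIT.ThreeSystems

open Cfsg Subgroup CfsgLib.Char
open scoped Classical

universe u

variable {G : Type u} [Group G] [Fintype G]

theorem Coh.exists_col (C : Coh G) {g : G} (hg : C.Rest g)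
    (h : ∀ m : ℕ, m.Coprime (Nat.card G) → IsConj g (g ^ m)) :
    ∃ z : IrrCharacter G → ℤ, C.Col g z := by
  have hz : ∀ ψ : IrrCharacter G, ∃ z : ℤ, (ψ : G → ℂ) g = z := fun ψ =>
    BSW.exists_int_value ψ fun m hm => (classFun_isConj (isClassFunction_irr ψ) (h m hm)).symm
  choose z hz' using hz
  exact ⟨z, C.off_rest hg, hz'⟩

namespace Loc

variable {D : Hyp G} (L : Loc D)

theorem n_not_dvd (i : Fin 3) : ¬ L.r ∣ D.n i := fun h => L.rN (h.trans (D.n_dvd_N i))

theorem false_six (h : Nat.card (centralizer ({L.x * L.t} : Set G)) = 6) : False := by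
  have hs := D.sum_inv_lt {L.x * L.t} (by simp [L.rest_xt]) (by simp)
  rw [Finset.sum_singleton, h] at hs
  have h0 : (5 : ℚ) ≤ D.n 0 := by exact_mod_cast D.low₀
  have e1 := D.n_eq_one
  have e2 := D.n_eq_two
  have := D.two_le_m 1
  have := D.two_le_m 2
  have h1 : (9 : ℚ) ≤ D.n 1 := by exact_mod_cast (show 9 ≤ D.n 1 by omega)
  have h2 : (9 : ℚ) ≤ D.n 2 := by exact_mod_cast (show 9 ≤ D.n 2 by omega)
  have a0 : 1 / (2 * (D.n 0 : ℚ)) ≤ 1 / 10 := one_div_le_one_div_of_le (by norm_num) (by linarith)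
  have a1 : 1 / (4 * (D.n 1 : ℚ)) ≤ 1 / 36 := one_div_le_one_div_of_le (by norm_num) (by linarith)
  have a2 : 1 / (4 * (D.n 2 : ℚ)) ≤ 1 / 36 := one_div_le_one_div_of_le (by norm_num) (by linarith)
  push_cast at hs
  linarith

theorem false_ten (hr : L.r = 5) (h : Nat.card (centralizer ({L.x * L.t} : Set G)) = 10) : False := by
  obtain ⟨C, rfl⟩ := D.exists_coh
  have e0 := C.n_eq_zero
  have e1 := C.n_eq_one
  have e2 := C.n_eq_two
  have n0 := L.n_not_dvd 0
  rw [hr, e0] at n0
  have hm0' := C.two_le_m 0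
  have hm0 : 3 ≤ C.m 0 := by omega
  obtain ⟨z, hz⟩ := C.exists_col L.rest_xt fun m hm => (L.rational hm).2
  have hsum := C.m_sum_le L.four_le_R hm0 hz h
  have hne := C.m_ne
  have h1 := C.two_le_m 1
  have h2 := C.two_le_m 2
  have hlam := C.lam_mod
  have hlt := C.N_lt_M L.four_le_R
  have hle := C.M_le
  have h4 : 4 ∣ C.M := by
    obtain ⟨y, hy, hyr⟩ := L.exists_four'
    refine dvd_trans ?_ (C.centralizer_dvd_M hyr)
    rw [← hy]
    exact Subgroup.orderOf_dvd_natCard _ (mem_centralizer_of_commute (Commute.refl y))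
  have c01 := C.pairwise_coprime (i := 0) (j := 1) (by decide)
  have c02 := C.pairwise_coprime (i := 0) (j := 2) (by decide)
  unfold Hyp.lam Hyp.N at hlam
  unfold Hyp.N at hlt hle
  rw [e0, e1] at c01
  rw [e0, e2] at c02
  rw [e0, e1, e2] at hlam hlt hle
  generalize C.M = M at hlam hlt hle h4
  generalize C.m 0 = a at *
  generalize C.m 1 = b at *
  generalize C.m 2 = c at *
  have hab : a = 3 ∨ (a = 4 ∧ (b = 2 ∨ c = 2)) := by omega
  rcases hab with rfl | ⟨rfl, rfl | rfl⟩
  · have hb : b = 2 ∨ b = 3 ∨ b = 4 := by omega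
    have hc : c = 2 ∨ c = 3 ∨ c = 4 := by omega
    rcases hb with rfl | rfl | rfl <;> rcases hc with rfl | rfl | rfl <;> norm_num at hlam hlt hle <;> omega
  · norm_num at c01
  · norm_num at c02

end Loc

end CfsgLib.CIT.ThreeSystems
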