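import Mathlib
import Cfsg.Agent.Lib.CIT.ThreeSystems.CaseSmall
import Cfsg.Agent.Lib.Char.Linear

/-!
# Three self-centralizing systems: centralizer of order twelve or thirty-six

Only one class of elements of order three is possible; it forces `c = 1`, and then the difference of the
columns of `x` and `x * t` is divisible by four, which the configurations do not allow.
-/

set_option autoImplicit false
set_option linter.unusedSectionVars false
set_option linter.style.haveILetI false
set_option linter.style.openClassical false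

namespace CfsgLib.CIT.ThreeSystems

open Cfsg Subgroup
open scoped Classical

universe u

/-- A character of an abelian group on the cosets of a four-group. -/
theorem exists_integral_quarter {H : Type u} [Group H] [Finite H] (hH : ∀ a b : H, a * b = b * a)
    {χ : H → ℂ} (hχ : Cfsg.IsCharacter H χ) (x a b : H) (ha : a * a = 1) (hb : b * b = 1) :
    ∃ w : ℂ, IsIntegral ℤ w ∧ χ x - χ (x * a) + χ (x * b) - χ (x * (a * b)) = 4 * w := by
  obtain ⟨l, rfl⟩ := Char.exists_list_irr hχ
  clear hχ
  induction l with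
  | nil => exact ⟨0, isIntegral_zero, by simp⟩
  | cons ψ l ih =>
    obtain ⟨w, hw, e⟩ := ih
    obtain ⟨f, hf⟩ := Char.linearCharEquiv.surjective ⟨ψ, Char.degree_one_of_comm hH ψ⟩
    have hval : ∀ g, (ψ : H → ℂ) g = (f g : ℂ) := fun g => by
      have := congrFun (congrArg (fun z => ((z.1 : IrrCharacter H) : H → ℂ)) hf) g
      exact this.symm
    have hsq : ∀ g : H, g * g = 1 → (f g : ℂ) = 1 ∨ (f g : ℂ) = -1 := fun g hg => by
      refine sq_eq_one_iff.1 ?_
      rw [pow_two, ← Units.val_mul, ← map_mul, hg, map_one, Units.val_one]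
    have hint : IsIntegral ℤ (f x : ℂ) := by
      rw [← hval]; exact Char.isCharacter_isIntegral (Char.isCharacter_irr ψ) x
    simp only [List.pure_def, List.bind_eq_flatMap, List.flatMap_cons, List.singleton_append, List.map_cons,
      List.sum_cons, Pi.add_apply, hval, map_mul, Units.val_mul] at e ⊢
    rcases hsq a ha with h1 | h1 <;> rcases hsq b hb with h2 | h2
    rotate_left 2
    · exact ⟨(f x : ℂ) + w, hint.add hw, by rw [h1, h2]; linear_combination e⟩
    all_goals exact ⟨w, hw, by rw [h1, h2]; linear_combination e⟩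

variable {G : Type u} [Group G] [Fintype G]

namespace Loc

variable {D : Hyp G} (L : Loc D)

theorem false_twelve (hr : L.r = 3) {c : ℕ} (hc : c = 1 ∨ c = 2)
    (hmax : ∀ k, L.r ^ k ∣ Nat.card (centralizer ({L.t} : Set G)) → k ≤ c)
    (hC : Nat.card (centralizer ({L.x * L.t} : Set G)) = 4 * 3 ^ c)
    (hX : Nat.card (centralizer ({L.x} : Set G)) = 12 * 3 ^ c)
    (hprod : ∀ u u' : G, Commute u L.x → Commute u' L.x → u * u = 1 → u' * u' = 1 →
      u * u' * (u * u') = 1) : False := by
  haveI : Fact (Nat.Prime 3) := ⟨Nat.prime_three⟩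
  haveI : Fact (Nat.Prime 2) := ⟨Nat.prime_two⟩
  have h5 := D.R_le
  have hx : orderOf L.x = 3 := L.hx.trans hr
  have hxt : orderOf (L.x * L.t) = 6 := by rw [L.ord_xt, hr]
  have hx1 : L.x ≠ 1 := fun e => by rw [e, orderOf_one] at hx; omega
  have hk : Nat.card (centralizer ({L.x} : Set G)) =
      3 * Nat.card (centralizer ({L.x * L.t} : Set G)) := by rw [hX, hC]; ring
  obtain ⟨g, hg, hgt, hgo⟩ : ∃ g : G, D.Rest g ∧ ¬ IsConj g L.t ∧
      (orderOf g = 2 ∨ ((orderOf g).Prime ∧ orderOf g ≠ 2 ∧ orderOf g ≠ 3)) := by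
    by_contra! h
    refine L.single_false (fun u hu => ?_) (fun p hp hpM => ?_) (Or.inr ⟨hr, rfl⟩) hk
    · by_contra hn
      exact ((h u (D.rest_of_even (by rw [hu])) fun h' => hn h'.symm).1 hu).elim
    · by_contra! hn
      obtain ⟨g, hg, hgr⟩ := D.prime_dvd_M hp hpM
      rw [hr] at hn
      have hne : ¬ IsConj g L.t := not_isConj_of_orderOf (by rw [hg, L.ht]; exact hn.1)
      exact hn.2 (hg ▸ (h g hgr hne).2 (hg ▸ hp) (hg ▸ hn.1))
  obtain ⟨y, hy, hry⟩ := L.exists_four'
  have hgk : orderOf g ≠ 4 ∧ orderOf g ≠ 3 ∧ orderOf g ≠ 6 ∧ ∀ k, orderOf g ≠ 3 ^ k := by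
    rcases hgo with h | ⟨hp, h2, h3⟩
    · rw [h]
      refine ⟨by norm_num, by norm_num, by norm_num, fun k hk => ?_⟩
      have : Odd (3 ^ k) := Odd.pow (by decide)
      rw [← hk] at this
      exact absurd this (by decide)
    · refine ⟨fun e => ?_, h3, fun e => ?_, fun k hk => ?_⟩
      · rw [e] at hp; exact absurd hp (by norm_num)
      · rw [e] at hp; exact absurd hp (by norm_num)
      · rw [hk] at hp h3
        rcases Nat.eq_zero_or_pos k with rfl | hk0
        · exact Nat.not_prime_one hp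
        · exact h3 ((Nat.prime_dvd_prime_iff_eq Nat.prime_three hp).1 (dvd_pow_self 3 hk0.ne')).symm
  have hbase : ∀ w ∈ [g, L.t, y, L.x, L.x * L.t], D.Rest w := by
    simp only [List.mem_cons, List.not_mem_nil, or_false]
    rintro w (rfl | rfl | rfl | rfl | rfl)
    exacts [hg, L.rest_t, hry, L.rest_x, L.rest_xt]
  have hpw : [g, L.t, y, L.x, L.x * L.t].Pairwise fun a b => ¬ IsConj a b := by
    obtain ⟨g4, g3, g6, -⟩ := hgk
    simp only [List.pairwise_cons, List.mem_cons, List.not_mem_nil, or_false, forall_eq_or_imp, forall_eq,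
      List.Pairwise.nil, and_true, false_implies, implies_true]
    repeat' constructor
    all_goals first
      | exact hgt
      | (refine not_isConj_of_orderOf ?_; simp only [L.ht, hy, hx, hxt]; omega)
  have hR : D.R = 5 := le_antisymm h5 (D.reps_le _ hbase hpw)
  have hsix : ∀ z : G, D.Rest z → IsConj z g ∨ IsConj z L.t ∨ IsConj z y ∨ IsConj z L.x ∨
      IsConj z (L.x * L.t) := by
    intro z hz
    by_contra! hn
    have := D.reps_le (z :: [g, L.t, y, L.x, L.x * L.t]) ?_ ?_
    · simp only [List.length_cons, List.length_nil] at this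
      omega
    · intro w hw
      rcases List.mem_cons.1 hw with rfl | hw
      exacts [hz, hbase w hw]
    · refine List.pairwise_cons.2 ⟨?_, hpw⟩
      simp only [List.mem_cons, List.not_mem_nil, or_false]
      rintro w (rfl | rfl | rfl | rfl | rfl)
      exacts [hn.1, hn.2.1, hn.2.2.1, hn.2.2.2.1, hn.2.2.2.2]
  obtain ⟨S, hxS, hSc, hSx⟩ : ∃ S : Sylow 3 G, L.x ∈ (S : Subgroup G) ∧
      (∀ a ∈ (S : Subgroup G), ∀ b ∈ (S : Subgroup G), Commute a b) ∧
      (S : Subgroup G) ≤ centralizer ({L.x} : Set G) := hr ▸ L.exists_sylow_x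
  have hexp : ∀ a ∈ (S : Subgroup G), a ≠ 1 → orderOf a = 3 ∧ IsConj a L.x := by
    intro a ha h1
    obtain ⟨k, hk'⟩ := IsPGroup.iff_orderOf.1 S.isPGroup' ⟨a, ha⟩
    rw [Subgroup.orderOf_mk] at hk'
    have hra : D.Rest a := D.rest_of_not_dvd h1 fun i hi => by
      rcases Nat.eq_zero_or_pos k with h | h
      · rw [h, pow_zero, orderOf_eq_one_iff] at hk'; exact h1 hk'
      · exact L.rN (hr ▸ ((dvd_pow_self 3 h.ne').trans (hk' ▸ hi)).trans (D.n_dvd_N i))
    have hodd : Odd (orderOf a) := by rw [hk']; exact Odd.pow (by decide)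
    rcases hsix a hra with h | h | h | h | h
    · exact absurd ((isConj_orderOf h).symm.trans hk') (hgk.2.2.2 k)
    rotate_left 2
    · exact ⟨(isConj_orderOf h).trans hx, h⟩
    all_goals
      have := isConj_orderOf h
      simp only [L.ht, hy, hxt] at this
      rw [this] at hodd
      exact absurd hodd (by decide)
  obtain ⟨n, hn⟩ := IsPGroup.iff_card.1 S.isPGroup'
  have hcn : c + 1 ≤ n := by
    have h := S.pow_dvd_card_of_pow_dvd_card (n := c + 1)
      ((show 3 ^ (c + 1) ∣ Nat.card (centralizer ({L.x} : Set G)) by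
        rw [hX]; exact ⟨4, by ring⟩).trans (Subgroup.card_subgroup_dvd_card _))
    rw [hn] at h
    exact (Nat.pow_dvd_pow_iff_le_right (by norm_num)).1 h
  set K := centralizer ((S : Subgroup G) : Set G) with hK
  have hodd : ¬ 2 ∣ Nat.card K := by
    intro hd
    obtain ⟨u, hu⟩ := exists_prime_orderOf_dvd_card' (G := K) 2 hd
    have hu' : orderOf (u : G) = 2 := by rw [Subgroup.orderOf_coe, hu]
    have hSu : (S : Subgroup G) ≤ centralizer ({(u : G)} : Set G) := fun g hg =>
      mem_centralizer_singleton_iff.2 (mem_centralizer_iff.1 u.2 g hg)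
    obtain ⟨w, -, hw⟩ := L.conj_invol L.ht hu' L.comm (commute_of_mem_centralizer (hSu hxS))
    have hd' := Subgroup.card_dvd_of_le hSu
    rw [← card_centralizer_isConj (isConj_iff.2 ⟨w, hw⟩), hn] at hd'
    rw [hr] at hmax
    have := hmax n hd'
    omega
  have hCS : ∀ a : G, (∀ b ∈ (S : Subgroup G), Commute a b) → a ∈ (S : Subgroup G) := by
    intro a ha
    have haK : a ∈ K := mem_centralizer_iff.2 fun b hb => (ha b hb).eq.symm
    have hSK : (S : Subgroup G) ≤ K := fun a ha => mem_centralizer_iff.2 fun b hb => (hSc b hb a ha).eq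
    have hKX : K ≤ centralizer ({L.x} : Set G) := fun a ha =>
      mem_centralizer_singleton_iff.2 (mem_centralizer_iff.1 ha _ hxS).symm
    have hKS : Nat.card K ∣ Nat.card (S : Subgroup G) := by
      have h1 := Subgroup.card_dvd_of_le hKX
      rw [hX, show 12 * 3 ^ c = 2 ^ 2 * 3 ^ (c + 1) by ring] at h1
      rw [hn]
      exact (((Nat.prime_two.coprime_iff_not_dvd.2 hodd).pow_left 2).symm.dvd_of_dvd_mul_left h1).trans
        (pow_dvd_pow 3 hcn)
    rw [Subgroup.eq_of_le_of_card_ge hSK (Nat.le_of_dvd Nat.card_pos hKS)]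
    exact haK
  have htrans : ∀ z ∈ (S : Subgroup G), z ≠ 1 →
      ∃ w ∈ normalizer ((S : Subgroup G) : Set G), w * L.x * w⁻¹ = z := fun z hz hz1 => by
    obtain ⟨w, hw⟩ := isConj_iff.1 (hexp z hz hz1).2.symm
    have hcen : ∀ a ∈ (S : Subgroup G), (S : Subgroup G) ≤ centralizer ({a} : Set G) :=
      fun a ha b hb => mem_centralizer_of_commute (hSc b hb a ha)
    obtain ⟨k, hk, hk'⟩ := Fusion.exists_normalizer_conj_eq_of_central S (hcen _ hxS) w
      (by rw [hw]; exact hcen z hz)
    exact ⟨k, hk, hk'.trans hw⟩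
  have horb := orbit_dvd (S : Subgroup G) hSc hxS hx1 htrans
  rw [hn] at horb
  set N' := normalizer ((S : Subgroup G) : Set G) with hN'
  have h13 : 1 < 3 ^ n := Nat.one_lt_pow (by omega) (by norm_num)
  have heven : 2 ∣ 3 ^ n - 1 := by
    have : Odd (3 ^ n) := Odd.pow (by decide)
    obtain ⟨j, hj⟩ := this
    exact ⟨j, by omega⟩
  obtain ⟨u, hu⟩ := exists_prime_orderOf_dvd_card' (G := N') 2
    (heven.trans ((dvd_mul_right _ _).trans horb))
  have hu' : orderOf (u : G) = 2 := by rw [Subgroup.orderOf_coe, hu]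
  have hfpf : ∀ a ∈ (S : Subgroup G), Commute (u : G) a → a = 1 := by
    intro a ha hc
    by_contra h1
    obtain ⟨w, hw, e⟩ := htrans a ha h1
    set v := w⁻¹ * (u : G) * w with hv
    have hvx : Commute v L.x := by
      show v * L.x = L.x * v
      rw [hv, show w⁻¹ * (u : G) * w * L.x = w⁻¹ * ((u : G) * (w * L.x * w⁻¹)) * w by group, e, hc.eq, ← e]
      group
    have hv2 : v * v = 1 := by
      rw [hv, show w⁻¹ * (u : G) * w * (w⁻¹ * (u : G) * w) = w⁻¹ * ((u : G) * u) * w by group, invol_sq hu',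
        mul_one, inv_mul_cancel]
    have hvN : v ∈ N' := mul_mem (mul_mem (inv_mem hw) u.2) hw
    refine hodd ?_
    have hvK : v ∈ K := by
      refine mem_centralizer_iff.2 fun s hs => ?_
      have hsx : Commute s L.x := hSc s hs _ hxS
      have h1' : Commute (s * v * s⁻¹) L.x := (hsx.mul_left hvx).mul_left hsx.inv_left
      have h2' : s * v * s⁻¹ * (s * v * s⁻¹) = 1 := by
        rw [show s * v * s⁻¹ * (s * v * s⁻¹) = s * (v * v) * s⁻¹ by group, hv2, mul_one, mul_inv_cancel]
      have hsq := hprod _ _ h1' hvx h2' hv2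
      have hmem : s * v * s⁻¹ * v ∈ (S : Subgroup G) := by
        rw [show s * v * s⁻¹ * v = s * (v * s⁻¹ * v⁻¹) by rw [inv_eq_of_mul_eq_one_right hv2]; group]
        exact mul_mem hs ((Subgroup.mem_normalizer_iff.1 hvN _).1 (inv_mem hs))
      have hone : s * v * s⁻¹ * v = 1 := by
        by_contra hne
        have := (hexp _ hmem hne).1
        rw [orderOf_two hsq hne] at this
        omega
      calc s * v = s * v * s⁻¹ * v * (v⁻¹ * s) := by group
        _ = v⁻¹ * s := by rw [hone, one_mul]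
        _ = v * s := by rw [inv_eq_of_mul_eq_one_right hv2]
    have hv1 : v ≠ 1 := fun e' => by
      have h' : (u : G) = w * v * w⁻¹ := by rw [hv]; group
      rw [e', mul_one, mul_inv_cancel] at h'
      rw [h', orderOf_one] at hu'
      omega
    rw [← orderOf_two hv2 hv1]
    exact Subgroup.orderOf_dvd_natCard _ hvK
  have hinv : ∀ a ∈ (S : Subgroup G), (u : G) * a * (u : G)⁻¹ = a⁻¹ := fun a ha =>
    inverts_of_fpf hSc (invol_sq hu') (fun b hb => (Subgroup.mem_normalizer_iff.1 u.2 b).1 hb) hfpf ha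
  have hj : 3 ^ n - 1 = 2 ^ (3 ^ n - 1).primeFactorsList.length :=
    Nat.eq_prime_pow_of_unique_prime_dvd (by omega) fun {q} hq hqd => by
      have hq3 : q ≠ 3 := by
        rintro rfl
        have := Nat.dvd_sub (dvd_pow_self 3 (show n ≠ 0 by omega)) hqd
        rw [Nat.sub_sub_self h13.le] at this
        omega
      have hqv := prime_of_inverted hSc hCS (by rw [hn]; exact Odd.pow (by decide)) (invol_sq hu') hinv hq
        (hqd.trans ((dvd_mul_right _ _).trans horb)) (by
          rw [hn]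
          exact fun h => hq3 ((Nat.prime_dvd_prime_iff_eq hq Nat.prime_three).1 (hq.dvd_of_dvd_pow h)))
      rcases L.prime_centralizer_invol hu' hq hqv with h | h
      · exact h
      · exact absurd (h.trans hr) hq3
  have hc1 : c = 1 := by
    rcases pow_sub_one_two Nat.prime_three (by norm_num) (by omega) hj with h | ⟨-, h⟩ <;> omega
  subst hc1
  replace hC : Nat.card (centralizer ({L.x * L.t} : Set G)) = 12 := hC.trans (by norm_num)
  replace hX : Nat.card (centralizer ({L.x} : Set G)) = 36 := hX.trans (by norm_num)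
  -- a four-group centralizing `x`
  set T0 := centralizer ({L.x * L.t} : Set G) with hT0
  let t0 : T0 := ⟨L.t, mem_centralizer_of_commute ((L.comm.mul_left (Commute.refl L.t)).symm)⟩
  have ht0 : orderOf t0 = 2 := by rw [Subgroup.orderOf_mk]; exact L.ht
  obtain ⟨P, hP⟩ := (IsPGroup.of_card (n := 1)
    (by rw [pow_one, Nat.card_zpowers, ht0] : Nat.card (zpowers t0) = 2 ^ 1)).exists_le_sylow
  obtain ⟨w0, hw0, hw0t⟩ : ∃ w ∈ (P : Subgroup T0), w ∉ zpowers t0 := by
    by_contra! h
    have h1 := Subgroup.card_dvd_of_le (show (P : Subgroup T0) ≤ zpowers t0 from h)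
    have h2 := P.pow_dvd_card_of_pow_dvd_card (n := 2) (show 2 ^ 2 ∣ Nat.card T0 by rw [hC]; norm_num)
    rw [Nat.card_zpowers, ht0] at h1
    exact absurd (Nat.le_of_dvd two_pos (h2.trans h1)) (by norm_num)
  obtain ⟨hwx, hwt⟩ : Commute (w0 : G) L.x ∧ Commute (w0 : G) L.t := by
    have h := Subgroup.mem_inf.1 (le_of_eq L.cent_xt w0.2)
    exact ⟨commute_of_mem_centralizer h.1, commute_of_mem_centralizer h.2⟩
  have hw2 : orderOf (w0 : G) = 2 := by
    obtain ⟨k, hk'⟩ := IsPGroup.iff_orderOf.1 P.isPGroup' ⟨w0, hw0⟩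
    rw [Subgroup.orderOf_mk, ← Subgroup.orderOf_coe] at hk'
    rcases Nat.lt_or_ge k 2 with h | h
    · interval_cases k
      · exact absurd (orderOf_eq_one_iff.1 (hk'.trans (pow_zero 2)))
          (fun e => hw0t (by rw [show w0 = 1 from Subtype.ext e]; exact one_mem _))
      · simpa using hk'
    · exact (L.no_four (y := (w0 : G) ^ (orderOf (w0 : G) / 4))
        (orderOf_pow_orderOf_div (orderOf_pos _).ne' (hk' ▸ pow_dvd_pow 2 h)) (hwx.pow_left _)).elim
  have hwt2 : orderOf (L.t * (w0 : G)) = 2 := by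
    refine orderOf_two ?_ fun e => hw0t ?_
    · rw [show L.t * (w0 : G) * (L.t * (w0 : G)) = L.t * ((w0 : G) * L.t) * (w0 : G) by group, hwt.eq,
        show L.t * (L.t * (w0 : G)) * (w0 : G) = L.t * L.t * ((w0 : G) * (w0 : G)) by group,
        invol_sq L.ht, invol_sq hw2, one_mul]
    · rw [show w0 = t0⁻¹ from Subtype.ext (eq_inv_of_mul_eq_one_right e)]
      exact inv_mem (mem_zpowers _)
  obtain ⟨C, rfl⟩ := D.exists_coh
  obtain ⟨z, hz⟩ := C.exists_col L.rest_x fun m hm => (L.rational hm).1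
  obtain ⟨z', hz'⟩ := C.exists_col L.rest_xt fun m hm => (L.rational hm).2
  have hne : ¬ IsConj L.x (L.x * L.t) := not_isConj_of_orderOf (by rw [hx, hxt]; norm_num)
  set H := closure ({L.x, L.t, (w0 : G)} : Set G) with hH
  have hHc : ∀ a b : H, a * b = b * a := by
    have hgen : ∀ a ∈ ({L.x, L.t, (w0 : G)} : Set G), ∀ b ∈ ({L.x, L.t, (w0 : G)} : Set G), Commute a b := by
      simp only [Set.mem_insert_iff, Set.mem_singleton_iff]
      rintro a (rfl | rfl | rfl) b (rfl | rfl | rfl)
      exacts [Commute.refl _, L.comm, hwx.symm, L.comm.symm, Commute.refl _, hwt.symm, hwx, hwt,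
        Commute.refl _]
    have h1 : H ≤ centralizer ({L.x, L.t, (w0 : G)} : Set G) :=
      (closure_le _).2 fun a ha => mem_centralizer_iff.2 fun b hb => (hgen b hb a ha).eq
    have h2 : H ≤ centralizer (H : Set G) := (closure_le _).2 fun a ha =>
      mem_centralizer_iff.2 fun b hb => (mem_centralizer_iff.1 (h1 hb) a ha).symm
    exact fun a b => Subtype.ext (mem_centralizer_iff.1 (h2 b.2) a a.2)
  have hdiv : ∀ ψ : IrrCharacter G, ∃ d : ℤ, z ψ - z' ψ = 4 * d := by
    intro ψ
    obtain ⟨w, hw, e⟩ := exists_integral_quarter hHc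
      (Char.isCharacter_comp (Char.isCharacter_irr ψ) H.subtype)
      ⟨L.x, subset_closure (by simp)⟩ ⟨L.t, subset_closure (by simp)⟩ ⟨w0, subset_closure (by simp)⟩
      (Subtype.ext (invol_sq L.ht)) (Subtype.ext (invol_sq hw2))
    simp only [Subgroup.coe_subtype, MulMemClass.mk_mul_mk] at e
    have hv : ∀ v : G, orderOf v = 2 → Commute L.x v →
        (ψ : G → ℂ) (L.x * v) = (ψ : G → ℂ) (L.x * L.t) := fun v hv hcv =>
      Char.classFun_isConj (Char.isClassFunction_irr ψ)
        (L.conj_two_r (L.ord_mul L.hx hv hcv) L.ord_xt)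
    rw [hv _ hw2 hwx.symm, hv _ hwt2 (L.comm.mul_right hwx.symm), hz.2, hz'.2] at e
    have hq : IsIntegral ℤ (((z ψ - z' ψ : ℤ) : ℚ) / 4) := by
      refine (isIntegral_algebraMap_iff (algebraMap ℚ ℂ).injective).mp ?_
      convert hw using 1
      simp only [map_div₀, map_intCast, map_ofNat]
      push_cast
      linear_combination e / 4
    obtain ⟨d, hd⟩ := IsIntegrallyClosed.isIntegral_iff.mp hq
    refine ⟨d, ?_⟩
    have h4 : ((z ψ - z' ψ : ℤ) : ℚ) = ((4 * d : ℤ) : ℚ) := by
      simp only [algebraMap_int_eq, eq_intCast] at hd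
      push_cast at hd ⊢
      linarith
    exact_mod_cast h4
  choose d hd using hdiv
  obtain ⟨-, hm1, hm2⟩ := L.nine_le_sum hr
  exact C.no_pair hR hm1 hm2 hz hz' hne hX hC hd

end Loc

end CfsgLib.CIT.ThreeSystems
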