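import Mathlib
import Cfsg.Agent.Lib.CIT.ThreeSystems.Counting
import Cfsg.Agent.Lib.CIT.TI
import Cfsg.Agent.Lib.Classical.ProjLine

/-!
# Three self-centralizing systems: the groups `PSL₂` and `PSL₃(4)` do not occur
-/

set_option autoImplicit false
set_option linter.unusedSectionVars false
set_option linter.style.haveILetI false
set_option linter.style.openClassical false

namespace CfsgLib.CIT.ThreeSystems

open Cfsg Subgroup
open scoped Classical

universe u

/-- In characteristic two `PSL₂` has no element of order four. -/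
theorem psl_two_no_four {K : Type} [Field K] [CharP K 2]
    (g : Matrix.ProjectiveSpecialLinearGroup (Fin 2) K) : orderOf g ≠ 4 := by
  obtain ⟨e⟩ := sl_two_equiv_psl (K := K)
  intro hg
  have hA : orderOf (e.symm g) = 4 := by rw [MulEquiv.orderOf_eq, hg]
  set A := e.symm g
  suffices h : A ^ 2 = 1 by
    have := orderOf_dvd_of_pow_eq_one h
    rw [hA] at this
    exact absurd this (by norm_num)
  have h4 : A ^ 4 = 1 := by rw [← hA]; exact pow_orderOf_eq_one A
  set M : Matrix (Fin 2) (Fin 2) K := A.1 with hM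
  have hdet : M 0 0 * M 1 1 - M 0 1 * M 1 0 = 1 := by
    rw [← Matrix.det_fin_two]; exact A.2
  have h2 : (2 : K) = 0 := CharP.cast_eq_zero K 2
  set τ := M 0 0 + M 1 1 with hτ
  have hsq : M * M = τ • M + 1 := by
    ext i j
    fin_cases i <;> fin_cases j <;>
      simp [Matrix.mul_apply, Fin.sum_univ_two, τ] <;>
      first
        | linear_combination (-1 : K) * hdet
        | ring1
        | linear_combination -hdet - h2
        | linear_combination hdet
        | linear_combination -hdet
  have hM4 : M * M * (M * M) = 1 := by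
    have := congrArg Subtype.val h4
    rw [show A ^ 4 = A * A * (A * A) by simp only [pow_succ, pow_zero, one_mul, mul_assoc]] at this
    exact this
  have hτ0 : τ = 0 := by
    have h' : (τ ^ 2) • (M * M) = 0 := by
      have e1 : (τ • M + 1) * (τ • M + 1) = (τ ^ 2) • (M * M) + (2 * τ) • M + 1 := by
        simp only [add_mul, mul_add, smul_mul_assoc, mul_smul_comm, one_mul, mul_one, smul_smul]
        module
      rw [← hsq, hM4, h2, zero_mul, zero_smul, add_zero] at e1
      exact left_eq_add.1 (e1.trans (add_comm _ _))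
    by_contra hne
    have : M * M = 0 := by
      rcases smul_eq_zero.1 h' with h | h
      · exact absurd (pow_eq_zero_iff two_ne_zero |>.1 h) hne
      · exact h
    rw [this, mul_zero] at hM4
    exact zero_ne_one hM4
  rw [hτ0, zero_smul, zero_add] at hsq
  refine Subtype.ext ?_
  rw [pow_two]
  exact hsq

variable {G : Type u} [Group G] [Fintype G]

namespace Hyp

variable (D : Hyp G)

theorem N_large : 405 ≤ D.N := by
  have h0 : 5 ≤ D.n 0 := D.low₀
  have e1 := D.n_eq_one
  have e2 := D.n_eq_two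
  have := D.two_le_m 1
  have := D.two_le_m 2
  exact Nat.mul_le_mul (Nat.mul_le_mul h0 (show 9 ≤ D.n 1 by omega)) (show 9 ≤ D.n 2 by omega)

theorem card_ne_small (D : Hyp G) {a k : ℕ} (hk : k < 405) (h : Nat.card G = 2 ^ a * k) (hk0 : 0 < k) : False := by
  have h1 : D.N ∣ 2 ^ a * k := h ▸ (by rw [D.card_eq]; exact dvd_mul_right _ _)
  have h2 : D.N ∣ k := (((Nat.prime_two.coprime_iff_not_dvd.2 D.not_two_dvd_N).pow_left a).symm).dvd_of_dvd_mul_left h1
  have := Nat.le_of_dvd hk0 h2
  have := D.N_large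
  omega

theorem card_ne_psl (D : Hyp G) {p j : ℕ} (hp : p.Prime) (hj : p = 2 ^ j + 1 ∨ p + 1 = 2 ^ j)
    (h : 2 * Nat.card G = p * ((p - 1) * (p + 1))) : False := by
  have hN := D.N_large
  have hNG : D.N ∣ Nat.card G := by rw [D.card_eq]; exact dvd_mul_right _ _
  have hp2 : p ≠ 2 := by
    rintro rfl
    have := Nat.le_of_dvd Nat.card_pos hNG
    omega
  obtain ⟨l, hl⟩ := hp.odd_of_ne_two hp2
  obtain ⟨o, b, ho, hob⟩ : ∃ o b, 2 * o ≤ p + 1 ∧ (p - 1) * (p + 1) = 2 ^ b * o := by
    rcases hj with hj | hj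
    · exact ⟨l + 1, j + 1, by omega, by
        rw [show p - 1 = 2 ^ j by omega, show p + 1 = 2 * (l + 1) by omega, pow_succ]; ring⟩
    · exact ⟨l, j + 1, by omega, by
        rw [show p + 1 = 2 ^ j by omega, show p - 1 = 2 * l by omega, pow_succ]; ring⟩
  have ho0 : 0 < o := by
    rcases Nat.eq_zero_or_pos o with rfl | h'
    · rw [hob, mul_zero, mul_zero] at h
      have : 0 < Nat.card G := Nat.card_pos
      omega
    · exact h'
  have hNpo : D.N ∣ p * o := by
    refine ((Nat.prime_two.coprime_iff_not_dvd.2 D.not_two_dvd_N).pow_left b).symm.dvd_of_dvd_mul_left ?_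
    rw [show 2 ^ b * (p * o) = p * (2 ^ b * o) by ring, ← hob, ← h]
    exact hNG.trans (dvd_mul_left _ _)
  by_cases hpN : p ∣ D.N
  · haveI := Fact.mk hp
    obtain ⟨i, hi⟩ := D.dvd_n_of_dvd_N hp hpN
    obtain ⟨s, hs⟩ := hi
    obtain ⟨P, hP⟩ := D.exists_sylow_le (i := i) (p := p) (hs ▸ dvd_mul_right p s)
    obtain ⟨z, hzP, hz1⟩ : ∃ z ∈ (P : Subgroup G), z ≠ 1 := by
      have h1 := P.pow_dvd_card_of_pow_dvd_card (n := 1) (by
        rw [pow_one]; exact hpN.trans hNG)
      by_contra! h'
      rw [Subgroup.card_eq_one.2 ((Subgroup.eq_bot_iff_forall _).2 h'), pow_one, Nat.dvd_one] at h1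
      exact hp.ne_one h1
    -- the normalizer of the Sylow subgroup
    have hNP : normalizer ((P : Subgroup G) : Set G) = normalizer (D.A i : Set G) := by
      refine le_antisymm (fun g hg => ?_) fun g hg => Subgroup.mem_normalizer_iff.2 fun a => ?_
      · exact D.mem_normalizer_of_conj_mem (hP hzP) hz1 (hP ((Subgroup.mem_normalizer_iff.1 hg z).1 hzP))
      · have key : ∀ g : G, g ∈ normalizer (D.A i : Set G) → ∀ a ∈ (P : Subgroup G),
            g * a * g⁻¹ ∈ (P : Subgroup G) := by
          intro g hg a ha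
          haveI hPn : ((P : Subgroup G).subgroupOf (D.A i)).Normal := ⟨fun a ha b => by
            have e : (b : G) * a * (b : G)⁻¹ = a := by
              rw [D.comm i b b.2 a a.2, mul_inv_cancel_right]
            show (b : G) * a * (b : G)⁻¹ ∈ (P : Subgroup G)
            rw [e]; exact ha⟩
          let P' : Sylow p (D.A i) := P.subtype hP
          haveI : (P' : Subgroup (D.A i)).Normal := hPn
          obtain ⟨k, hk⟩ := IsPGroup.iff_orderOf.1 P.isPGroup' ⟨a, ha⟩
          rw [Subgroup.orderOf_mk] at hk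
          let b : D.A i := ⟨g * a * g⁻¹, (Subgroup.mem_normalizer_iff.1 hg a).1 (hP ha)⟩
          have hb : IsPGroup p (zpowers b) := IsPGroup.of_card (n := k) (by
            rw [Nat.card_zpowers, Subgroup.orderOf_mk, orderOf_conj_eq, hk])
          obtain ⟨Q, hQ⟩ := hb.exists_le_sylow
          obtain ⟨w, hw⟩ := MulAction.exists_smul_eq (D.A i) P' Q
          have hQP : (Q : Subgroup (D.A i)) = P' := by
            rw [← hw, Sylow.coe_subgroup_smul]
            exact Subgroup.Normal.conj_smul_eq_self w _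
          exact (hQP ▸ hQ (mem_zpowers b) : b ∈ (P' : Subgroup (D.A i)))
        refine ⟨key g hg a, fun ha => ?_⟩
        have := key g⁻¹ (inv_mem hg) _ ha
        rwa [show g⁻¹ * (g * a * g⁻¹) * g⁻¹⁻¹ = a by group] at this
    have hsyl := card_sylow_modEq_one (p := p) (G := G)
    rw [P.card_eq_index_normalizer, show normalizer ((P : Set G)) = normalizer (D.A i : Set G) from hNP] at hsyl
    set X := (normalizer (D.A i : Set G)).index
    have hcard : wt i * (p * s) * X = Nat.card G := by
      rw [← hs, ← Subgroup.card_mul_index (normalizer (D.A i : Set G))]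
      congr 1
      have h1 := Subgroup.card_mul_index ((D.A i).subgroupOf (normalizer (D.A i : Set G)))
      rw [show ((D.A i).subgroupOf (normalizer (D.A i : Set G))).index = wt i from D.index i,
        Nat.card_congr (Subgroup.subgroupOfEquivOfLe (Subgroup.le_normalizer (H := D.A i))).toEquiv] at h1
      rw [← h1, mul_comm]; rfl
    have hX : 2 * wt i * s * X = (p - 1) * (p + 1) := by
      refine Nat.eq_of_mul_eq_mul_left hp.pos ?_
      rw [← h, ← hcard]; ring
    have hs25 : 25 * s ≤ o := by
      have e1 := D.five_le 0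
      have e2 := D.five_le 1
      have e3 := D.five_le 2
      have hsn : p * (25 * s) ≤ D.N := by
        rw [show p * (25 * s) = 25 * (p * s) by ring, ← hs]
        unfold Hyp.N
        fin_cases i <;> simp only [Fin.zero_eta, Fin.mk_one, Fin.reduceFinMk]
        · calc 25 * D.n 0 = D.n 0 * 5 * 5 := by ring
            _ ≤ _ := Nat.mul_le_mul (Nat.mul_le_mul le_rfl e2) e3
        · calc 25 * D.n 1 = 5 * D.n 1 * 5 := by ring
            _ ≤ _ := Nat.mul_le_mul (Nat.mul_le_mul e1 le_rfl) e3
        · calc 25 * D.n 2 = 5 * 5 * D.n 2 := by ring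
            _ ≤ _ := Nat.mul_le_mul (Nat.mul_le_mul e1 e2) le_rfl
      exact Nat.le_of_mul_le_mul_left (hsn.trans (Nat.le_of_dvd (Nat.mul_pos hp.pos ho0) hNpo)) hp.pos
    have hw4 : wt i ≤ 4 := by fin_cases i <;> simp [wt]
    have hdiv : p ∣ 2 * wt i * s + 1 := by
      rw [Nat.ModEq.comm, Nat.modEq_iff_dvd] at hsyl
      obtain ⟨q, hq⟩ := hsyl
      have hX' : (2 * wt i * s * X : ℤ) = (p : ℤ) * p - 1 := by
        have h' := congrArg (Nat.cast (R := ℤ)) hX
        push_cast [Nat.cast_sub hp.one_le] at h'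
        linear_combination h'
      refine Int.natCast_dvd_natCast.1 ⟨(p : ℤ) - 2 * wt i * s * q, ?_⟩
      push_cast at hq ⊢
      linear_combination hX' - (2 * (wt i : ℤ) * s) * hq
    have hle := Nat.le_of_dvd (Nat.succ_pos _) hdiv
    have : 2 * wt i * s ≤ 8 * s := Nat.mul_le_mul_right _ (by omega)
    have := hp.two_le
    omega
  · have hNo : D.N ∣ o := (hp.coprime_iff_not_dvd.2 hpN).symm.dvd_of_dvd_mul_left hNpo
    have hNle : 2 * D.N ≤ p + 1 := le_trans (Nat.mul_le_mul_left 2 (Nat.le_of_dvd ho0 hNo)) ho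
    have hb : Nat.card G ≤ 3 * (D.N * D.N) := by
      refine D.bound.trans (le_of_eq ?_)
      simp only [Hyp.N, Hyp.n]; ring
    have h4 : 4 * (D.N * D.N) ≤ (p + 1) * (p + 1) := by
      calc 4 * (D.N * D.N) = (2 * D.N) * (2 * D.N) := by ring
        _ ≤ _ := Nat.mul_le_mul hNle hNle
    obtain ⟨q, rfl⟩ : ∃ q, p = q + 1 := ⟨p - 1, by have := hp.pos; omega⟩
    rw [show q + 1 - 1 = q by omega] at h
    nlinarith

end Hyp

end CfsgLib.CIT.ThreeSystems
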