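import Mathlib
import Cfsg.Agent.Lib.CIT.ThreeSystems.CaseSmall
import Cfsg.Agent.Lib.CIT.ThreeSystems.CaseEighteen
import Cfsg.Agent.Lib.CIT.ThreeSystems.CaseTwelve

/-!
# Three self-centralizing systems: the CIT property

No nontrivial element of odd order commutes with an involution.
-/

set_option autoImplicit false
set_option linter.unusedSectionVars false
set_option linter.style.haveILetI false

namespace CfsgLib.CIT.ThreeSystems

open Cfsg Subgroup

universe u

variable {G : Type u} [Group G] [Fintype G]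

theorem Loc.false {D : Hyp G} (L : Loc D) : False := by
  obtain ⟨c, Q, hxQ, hQt, -, hQc, hQe, hQ, hmax, hrc, ⟨hC, h4⟩ | ⟨hr, hC, hX, hprod⟩⟩ := L.shape
  · rcases hrc with ⟨hr, rfl | rfl⟩ | ⟨hr, rfl⟩
    · exact L.false_six (by rw [hC, hr]; norm_num)
    · exact L.false_eighteen hr Q hxQ hQt hQc hQe (by rw [hQ, hr]) hmax (by rw [hC, hr]; norm_num) h4
    · exact L.false_ten hr (by rw [hC, hr]; norm_num)
  · refine L.false_twelve hr ?_ hmax hC hX hprod
    rcases hrc with ⟨-, h⟩ | ⟨h5, -⟩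
    · exact h
    · omega

/-- The centralizer of every involution is a two-group. -/
theorem Hyp.isCIT (D : Hyp G) (hab : ∀ p : ℕ, p.Prime → p ≠ 2 → ¬ p ∣ D.N → ∀ P : Sylow p G,
    IsMulCommutative ↥(P : Subgroup G)) : IsCIT G := by
  intro t y ht hy hc
  by_contra hy1
  obtain ⟨r, hr, hrd⟩ := Nat.exists_prime_and_dvd fun h => hy1 (orderOf_eq_one_iff.1 h)
  have hr2 : r ≠ 2 := fun e => by
    obtain ⟨j, hj⟩ := hy
    obtain ⟨k, hk⟩ := hrd
    subst e
    omega
  exact Loc.false (D := D) ⟨t, y ^ (orderOf y / r), r, ht, hr, hr2,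
    orderOf_pow_orderOf_div (orderOf_pos y).ne' hrd, (show Commute y t from hc).pow_left _, hab⟩

end CfsgLib.CIT.ThreeSystems
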